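import Cfsg.Agent.H648.EPV.ExcSmall
import Cfsg.Agent.H243.EP.OwnNum_m3
import Cfsg.Agent.J3.Simple
import Cfsg.Agent.S2067
import Cfsg.Agent.H122.Cyc.Order
import Cfsg.Agent.H175.BdSp_m3
import Cfsg.Agent.H906.Cover_m3
import Cfsg.Agent.H806.LsFiTwo_m3
import Cfsg.Agent.OddHalf.D8.SheetMap_m3
import Cfsg.Agent.H893.EP.GeoL_m3
import Cfsg.Agent.H762.Ppd.PsuAux_m3
import Cfsg.Agent.Nodes.WittAll
import Cfsg.Agent.H948.Ppd.TypeB_m3
import Cfsg.Agent.S0815
import Cfsg.Agent.H223.Bnd.Psu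
import Cfsg.Agent.LieClassical.HermBasic
import Cfsg.Agent.H69.Ppd.Psu6Aux
import Cfsg.Agent.H947.EPO.PPlus
import Cfsg.Agent.H383.Cov.Parity_m3
import Cfsg.Agent.H650.Ppd.Psl_m3
import Cfsg.Agent.S0813
import Cfsg.Agent.S0243
import Cfsg.Agent.ClassicalGeometry.PSL2Basic
import Cfsg.Agent.H528.EP.UB3_m3
import Cfsg.Agent.H953.Sympl
import Cfsg.Agent.H12.EP.Own
import Cfsg.Agent.H470.EPO.OwnBig
import Cfsg.Agent.H36.EPL.Bound
import Cfsg.Agent.H909.PpdReeB_m3
import Cfsg.Agent.H107.PglExc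
import Cfsg.Agent.S2121
import Cfsg.Agent.S2129
import Cfsg.Agent.KFacts.RgdFiltTwAll
import Cfsg.Agent.KFacts.RgdFiltChev
import Cfsg.Agent.S1062
import Cfsg.Agent.S1063
import Cfsg.Agent.S1064
import Cfsg.Agent.S1065
import Cfsg.Agent.S1066
import Cfsg.Agent.S2122
import Cfsg.Agent.S2123
import Cfsg.Agent.S2124
import Cfsg.Agent.S2125
import Cfsg.Agent.S2130
import Cfsg.Agent.H2.Ppd.Exc
import Cfsg.Agent.H871.Par9_m3
import Cfsg.Agent.H936.List12c
import Cfsg.Agent.H937.G24.Row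
import Cfsg.Agent.H464.L2StageOne_m3
import Cfsg.Agent.H937.T2Rep_m3
import Cfsg.Agent.H936.U33All
import Cfsg.Agent.H659.J1Not11
import Cfsg.Agent.H936.U33Two
import Cfsg.Agent.H36.U52.Main
import Cfsg.Agent.H95.JT.Core
import Cfsg.Agent.H878.Sz.MainThree
import Cfsg.Agent.H878.Sz.MainP3
import Cfsg.Agent.H814.SzEightCore
import Cfsg.Agent.H175.LD.Core33
import Cfsg.Agent.H4.LDM.Stage24
import Cfsg.Agent.H179.JoneL
import Cfsg.Agent.H871.Par10_m3
import Cfsg.Agent.H871.Par8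
import Cfsg.Agent.H614.AMod.EightF_m3
import Cfsg.Agent.S0253
import Cfsg.Agent.S0256
import Cfsg.Agent.H925.U52Form
import Cfsg.Agent.LieClassical.HermGen
import Cfsg.Agent.H887.OmegaBridge
import Cfsg.Agent.LieClassical.OrthFinite
import Cfsg.Agent.H917.OmMain
import Cfsg.Agent.H879.Nine.Ctx_m3
import Cfsg.Agent.H270.EPU.Rank
import Cfsg.Agent.S2127
import Cfsg.Agent.H28.T5RankOne
import Cfsg.Agent.H818.Gen.Rows_m3
import Cfsg.Agent.H982.EP.OmRes_m3
import Cfsg.Agent.H270.EPU.Tree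
import Cfsg.Agent.Lib.Cores
import Cfsg.Agent.H240.GenTwF.TwFEmb
import Cfsg.Agent.H565.TwF4Rank
import Cfsg.Agent.H742.PanU_m3
import Mathlib
import Cfsg.Prelude.Def_GeometricClasses
import Cfsg.Agent.H433.EP.LsFi_mg_m3
import Cfsg.Agent.H921.SporLe
import Cfsg.Agent.S2044
import Cfsg.Agent.S2070
import Cfsg.Agent.SuzThree.Basic
import Cfsg.Agent.H807.El.Mathieu
import Cfsg.Agent.MTwelveType.SylowModel
import Cfsg.Agent.S2060
import Cfsg.Agent.S2061
import Cfsg.Agent.S2062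
import Cfsg.Agent.S2065
import Cfsg.Agent.SignalizersComponents.BalEndJ1
import Cfsg.Agent.H957.EP.RowSixUB_m3
import Cfsg.Agent.S1619
import Cfsg.Agent.S2066
import Cfsg.Agent.H936.AltBig2
import Cfsg.Agent.H149.Sp.Quot
import Cfsg.Agent.H603.SporElim
import Cfsg.Agent.H188.Der.U35B_m3
import Cfsg.Agent.H545.LT.SylGL
import Cfsg.Agent.H135.RK.NonAb
import Cfsg.Agent.TypeM.FactsMcL
import Cfsg.Agent.S2073
import Cfsg.Agent.H59.EP.UBGen
import Cfsg.Agent.H914.Uni
import Cfsg.Agent.S2082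
import Cfsg.Agent.S2068
import Cfsg.Agent.H444.EP.Mon
import Cfsg.Agent.S5788
import Cfsg.Agent.S0245
import Cfsg.Agent.S0246
import Cfsg.Agent.H419.EP.Targets_m3
import Cfsg.Agent.H729.EPM.PSp
import Cfsg.Agent.H895.SLT.ResCard
import Cfsg.Agent.StandardComponent.AltAut
import Cfsg.Agent.H209.EPX.Defs_m3
import Cfsg.Agent.H322.Tri.Suz
import Cfsg.Agent.ThreePrime.SzDataExists
import Cfsg.Agent.S5791
import Cfsg.Agent.H910.Transv
import Cfsg.Agent.H104.EP.U42_m3
import Cfsg.Agent.H587.Sp.DefC_mg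
import Cfsg.Agent.FastGrp
import Cfsg.Agent.Prune
set_option linter.all false

section
prune_inst 0x7f00000000000000000000000000000000000000000000000000000000000000000000000000000000000000000000000000000000000000000000000000000000000000000000000000000000000000003fffffffffffffffffffffffffffbeffbdffffffff

section
prune_inst 0xfdacf9fbb8dddfdfff7e77a6b8cffc3a921fffa6dff94bffe461ef0bdf030209e1ab8d0de010fc0ec3601410b87853fb7eeeffe26fd87ffffdbff45ffbee0fe5f7bd08519688340fbc0ff703f0778e7f000000000000000000000000000000000200000000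

-- part: H568/EP/JThree_mg
section
set_option linter.all false
open scoped Cfsg.Agent.FastGrp

-- part: H568/EP/JThree
section
/-!
# S3499-V, the sporadic row `soc(A) = J3` (helper568)
-/

set_option autoImplicit false

namespace Cfsg.Agent.H568.EP

open Subgroup Cfsg Cfsg.Agent.OrdDiv Cfsg.Agent.H284 Cfsg.Agent.H419.EP Cfsg.Agent.H59.EP Cfsg.Agent.H436

universe u

/-- `|Aut L| ≤ 2 |L|` when `|Out L| = 2` -/
theorem card_mulAut_le {L : Type*} [Group L] [Finite L] (h : Nat.card (Cfsg.Out L) = 2) :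
    Nat.card (MulAut L) ≤ 2 * Nat.card L := by
  have h1 := Subgroup.card_eq_card_quotient_mul_card_subgroup (MulAut.conj : L →* MulAut L).range
  have h2 : Nat.card (MulAut.conj : L →* MulAut L).range ≤ Nat.card L :=
    Nat.card_le_card_of_surjective _ (MonoidHom.rangeRestrict_surjective _)
  rw [h1]
  exact Nat.mul_le_mul (le_of_eq h) h2

theorem j3_facts {L : Type*} [Group L] (h : Spor.IsoJ3 L) : Nat.card L = 50232960 ∧ IsSimpleGroup L ∧
    Nat.card (MulAut L) ≤ 2 * 50232960 := by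
  obtain ⟨F, _, _, ω, hF, hω, ⟨e⟩⟩ := h
  have hg : Cfsg.Agent.J3.Core.Good ω := Cfsg.Agent.J3.Core.good_of_card hF hω
  have h1 := Cfsg.Agent.J3.Simple.card_J3 hF hg
  have h2 := Cfsg.Agent.J3.Simple.simple_J3 hF hg
  have h3 := S2067.result hF ω hω
  have : Finite (Spor.J3 F ω) := Nat.finite_of_card_ne_zero (by rw [h1]; norm_num)
  refine ⟨by rw [Nat.card_congr e.toEquiv, h1], e.isSimpleGroup, ?_⟩
  rw [Nat.card_congr (MulAut.congr e).toEquiv, ← h1]
  exact card_mulAut_le h3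

theorem noncomm_of {L : Type*} [Group L] [Finite L] (hs : IsSimpleGroup L) (hc : ¬ (Nat.card L).Prime) :
    ¬ ∀ a b : L, a * b = b * a := by
  intro hcomm
  apply hc
  let _ : CommGroup L := { (inferInstance : Group L) with mul_comm := hcomm }
  exact IsSimpleGroup.prime_card

/-- the upper bound -/
theorem j3_card {Q : Type u} [Group Q] [Finite Q] {A : Subgroup Q} {Γ : Subgroup (MulAut Q)} (hg : TwoGen.{u})
    (hs : IsSimpleGroup Q) (h : EPT A Γ) {L : Type*} [Group L] (hsoc : HasSoc A L) (hL : Spor.IsoJ3 L) :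
    Nat.card Q < 2 ^ 102 := by
  obtain ⟨h1, h2, h3⟩ := j3_facts hL
  have hfin : Finite L := Nat.finite_of_card_ne_zero (by rw [h1]; norm_num)
  have hnc := noncomm_of h2 (by rw [h1]; norm_num)
  obtain ⟨k, hk⟩ := hsoc.card_dvd
  have hle := hsoc.card_le
  have hpos : 0 < Nat.card A := Nat.card_pos
  have hab := fun K h1 h3 h4 => hsoc.no_abelian (K := K) h2 hnc h1 h3 h4
  rw [h1] at hk
  have hk12 : k = 1 ∨ k = 2 := by omega
  have key : ∀ c : ℕ, Nat.card A = c → ∀ l : List (ℕ × ℕ), (∀ x ∈ l, x.1.Prime ∧ 0 < x.2) → (l.map Prod.fst).Nodup →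
      (∀ x ∈ l, 5 ≤ x.1 → x.2 = 1) → c = (l.map fun x => x.1 ^ x.2).prod →
      c * (1 + ((l.map fun x : ℕ × ℕ => gal x.1 x.2).sum * (c / 6) + c ^ 2 / 60) * (2 * (c / 6))) < 2 ^ 102 →
      Nat.card Q < 2 ^ 102 := by
    intro c hc l l1 l2 l3 l4 l5
    have h5 := H831.EPV.index_le_two hg hs h hab l l1 l2 l3 (hc.trans l4)
    rw [hc] at h5
    rw [← A.card_mul_index, hc]
    exact lt_of_le_of_lt (Nat.mul_le_mul_left _ h5) l5
  rcases hk12 with rfl | rfl
  · exact key 50232960 (by omega) [(2, 7), (3, 5), (5, 1), (17, 1), (19, 1)] (by decide +kernel) (by decide +kernel)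
      (by decide +kernel) (by decide +kernel) (by decide +kernel)
  · exact key 100465920 (by omega) [(2, 8), (3, 5), (5, 1), (17, 1), (19, 1)] (by decide +kernel) (by decide +kernel)
      (by decide +kernel) (by decide +kernel) (by decide +kernel)

section

variable {Q : Type} [Group Q] [Finite Q] {A : Subgroup Q} {Γ : Subgroup (MulAut Q)} {ι : Type} [Fintype ι]
  [DecidableEq ι] {F : Type} [Field F] [Fintype F] {S P : Subgroup (GL ι F)}

/-- `2 ^ 117 ≤ |Q|`, except for `Ω₁₄(2)` -/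
theorem big_or (b : Big A Γ S P) : 2 ^ 117 ≤ Nat.card Q ∨ IsNamed (.oplus 7 2) Q ∨ IsNamed (.ominus 7 2) Q := by
  have hn := b.thirteen
  have hF : 2 ≤ Fintype.card F := b.two_le
  rcases b.kind with ⟨-, ho, -, -, -⟩ | ⟨f, -, -, h3, ho, -, -⟩ | ⟨q, hq, σ, f, -, -, -, ho, -, -⟩ |
    ⟨Qf, hQ, hS, ho, -⟩
  · left
    refine le_trans ?_ ho
    refine (Nat.pow_le_pow_left hF 117).trans (Nat.pow_le_pow_right (by omega) ?_)
    have : 13 ^ 2 ≤ Fintype.card ι ^ 2 := Nat.pow_le_pow_left hn 2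
    omega
  · left
    have h4 : 13 * (13 + 1) / 2 ≤ Fintype.card ι * (Fintype.card ι + 1) / 2 :=
      Nat.div_le_div_right (Nat.mul_le_mul hn (by omega))
    have h5 : 3 ^ 91 ≤ 4 * Nat.card Q :=
      le_trans ((Nat.pow_le_pow_left h3 91).trans (Nat.pow_le_pow_right (by omega) (by omega))) ho
    have h6 : 4 * 2 ^ 117 ≤ 3 ^ 91 := by norm_num
    omega
  · left
    have hq2 : 2 ≤ q := by
      by_contra hcon
      have : q = 0 ∨ q = 1 := by omega
      rcases this with rfl | rfl <;> (simp at hq; try omega)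
    refine le_trans ?_ ho
    refine (Nat.pow_le_pow_left hq2 117).trans (Nat.pow_le_pow_right (by omega) ?_)
    have : 13 ^ 2 ≤ Fintype.card ι ^ 2 := Nat.pow_le_pow_left hn 2
    omega
  · by_cases h2 : Fintype.card F = 2
    · obtain ⟨m⟩ : Nonempty (Model Q (Cfsg.Geo.omegaGL Qf)) := ⟨hS ▸ b.m⟩
      have hsm : ∀ k, Fintype.card ι = 2 * k → k ≠ 7 → 2 ^ 117 ≤ Nat.card Q := by
        intro k hk h7
        have h8 : 16 ≤ Fintype.card ι := by omega
        have h5 := b.ord_two h8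
        have h6 : 8 * 2 ^ 117 ≤ 2 ^ (16 * (16 - 1) / 2) := by norm_num
        omega
      rcases om_named hQ (by omega) m with ⟨k, hk, h⟩ | ⟨k, hk, h | h⟩
      · exfalso
        have := h.cond.2.1
        rw [h2] at this
        exact absurd this (by decide)
      · by_cases h7 : k = 7
        · right; left
          rw [h2, h7] at h
          exact h
        · exact Or.inl (hsm k hk h7)
      · by_cases h7 : k = 7
        · right; right
          rw [h2, h7] at h
          exact h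
        · exact Or.inl (hsm k hk h7)
    · left
      have h3 : 3 ≤ Fintype.card F := by omega
      have h4 : 13 * (13 - 1) / 2 ≤ Fintype.card ι * (Fintype.card ι - 1) / 2 :=
        Nat.div_le_div_right (Nat.mul_le_mul hn (by omega))
      have h5 : 3 ^ 78 ≤ 8 * Nat.card Q :=
        le_trans ((Nat.pow_le_pow_left h3 78).trans (Nat.pow_le_pow_right (by omega) (by omega))) ho
      have h6 : 8 * 2 ^ 117 ≤ 3 ^ 78 := by norm_num
      omega

/-- **The row `J3`.** -/
theorem j3 (hg : TwoGen.{0}) (b : Big A Γ S P) (h : Spor.IsoJ3 (socle P)) : False := by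
  have h1 := j3_card hg b.simple b.ept b.hasSoc h
  have h19 : 19 ∣ Nat.card Q := by
    have h2 := b.hasSoc.card_dvd
    rw [(j3_facts h).1] at h2
    exact (by norm_num : 19 ∣ 50232960).trans (h2.trans (Subgroup.card_subgroup_dvd_card A))
  rcases big_or b with h2 | h2 | h2
  · have : (2 : ℕ) ^ 102 ≤ 2 ^ 117 := by norm_num
    omega
  · rw [h2.ord] at h19
    revert h19
    decide +kernel
  · rw [h2.ord] at h19
    revert h19
    decide +kernel

end

end Cfsg.Agent.H568.EP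
end

-- part: H489/EP/Eig
section
/-!
# Elements of prime order conjugate to their powers: bounds for the dimension (helper489)

* `bound` : `X ^ s = 1`, `X ≠ 1`, `Y X Y⁻¹ = X ^ k`, `k ^ i ≠ 1` modulo `s` for `0 < i < t` : `t ≤ n`;
* `bound_inv` : the same for an isometry `X` of a nondegenerate bilinear form, `-1 ≠ k ^ i` for `i < t` : `2 t ≤ n`;
* `exists_lift` : the elements in `P` from the ones in `Soc P`.
-/

set_option autoImplicit false

universe u v w

namespace Cfsg.Agent.H489.EP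

open Polynomial Cfsg Cfsg.Geo Cfsg.Agent.H915.LD

section mat

variable {ι : Type} [Fintype ι] [DecidableEq ι] {F : Type u} [Field F]

theorem pow_root {X Y : GL ι F} {k : ℕ} (h : Y * X * Y⁻¹ = X ^ k) {K : Type v} [Field K] [Algebra F K] {l : K}
    (hl : aeval l (X : Matrix ι ι F).charpoly = 0) : aeval (l ^ k) (X : Matrix ι ι F).charpoly = 0 := by
  have key : ∀ (y : Matrix ι ι F) (c : K), aeval c y.charpoly = 0 ↔ c ∈ spectrum K (y.map (algebraMap F K)) := by
    intro y c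
    rw [Matrix.mem_spectrum_iff_isRoot_charpoly, IsRoot.def, Matrix.charpoly_map, eval_map_algebraMap]
  have h1 : ((X ^ k : GL ι F) : Matrix ι ι F).charpoly = (X : Matrix ι ι F).charpoly := by
    rw [← h, Units.val_mul, Units.val_mul, Matrix.coe_units_inv]
    exact Matrix.charpoly_units_conj Y X
  rw [← h1, Units.val_pow_eq_pow_val, key, Matrix.map_pow]
  exact spectrum.pow_mem_pow _ _ ((key _ _).1 hl)

theorem iter_root {X Y : GL ι F} {k : ℕ} (h : Y * X * Y⁻¹ = X ^ k) {K : Type v} [Field K] [Algebra F K] {l : K}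
    (hl : aeval l (X : Matrix ι ι F).charpoly = 0) (i : ℕ) : aeval (l ^ k ^ i) (X : Matrix ι ι F).charpoly = 0 := by
  induction i with
  | zero => rwa [pow_zero, pow_one]
  | succ i ih =>
    rw [pow_succ, pow_mul]
    exact pow_root h ih

/-- a finite set of eigenvalues -/
theorem card_le_of_roots {X : Matrix ι ι F} {K : Type v} [Field K] [Algebra F K] (S : Finset K)
    (h : ∀ l ∈ S, aeval l X.charpoly = 0) : S.card ≤ Fintype.card ι := by
  classical
  have hne : (X.charpoly.map (algebraMap F K)) ≠ 0 := (X.charpoly_monic.map _).ne_zero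
  have h1 : S ⊆ (X.charpoly.map (algebraMap F K)).roots.toFinset := by
    intro l hl
    rw [Multiset.mem_toFinset, mem_roots hne, IsRoot.def, eval_map_algebraMap]
    exact h l hl
  calc S.card ≤ (X.charpoly.map (algebraMap F K)).roots.toFinset.card := Finset.card_le_card h1
    _ ≤ Multiset.card (X.charpoly.map (algebraMap F K)).roots := Multiset.toFinset_card_le _
    _ ≤ (X.charpoly.map (algebraMap F K)).natDegree := card_roots' _
    _ = Fintype.card ι := by rw [natDegree_map, Matrix.charpoly_natDegree_eq_dim]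

theorem exists_root {X : GL ι F} {s : ℕ} (hs : s.Prime) (hsF : (s : F) ≠ 0) (hX : X ^ s = 1) (hX1 : X ≠ 1) :
    ∃ l : AlgebraicClosure F, aeval l (X : Matrix ι ι F).charpoly = 0 ∧ orderOf l = s := by
  have := Fact.mk hs
  obtain ⟨l, h1, h2⟩ := Cfsg.Agent.H122.Cyc.exists_root (g := (X : Matrix ι ι F)) (p := s) (a := 1) hsF le_rfl
    (by rw [pow_one, ← Units.val_pow_eq_pow_val, hX, Units.val_one]) (by
      rw [Nat.sub_self, pow_zero, pow_one]
      exact fun h => hX1 (Units.ext h))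
  exact ⟨l, h1, by rw [h2, pow_one]⟩

theorem coprime_of {X Y : GL ι F} {s k : ℕ} (hs : s.Prime) (hX : X ^ s = 1) (hX1 : X ≠ 1)
    (h : Y * X * Y⁻¹ = X ^ k) : s.Coprime k := by
  rw [Nat.Prime.coprime_iff_not_dvd hs]
  rintro ⟨c, rfl⟩
  rw [pow_mul, hX, one_pow] at h
  apply hX1
  have h5 : X = Y⁻¹ * (Y * X * Y⁻¹) * Y := by group
  rw [h5, h]; group

theorem ne_aux {s k t : ℕ} (hks : s.Coprime k) (hk : ∀ i < t, 0 < i → k ^ i % s ≠ 1 % s) {i j : ℕ} (hij : i < j)
    (hj : j < t) : ¬ k ^ i ≡ k ^ j [MOD s] := by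
  intro h
  have h4 : k ^ i * 1 ≡ k ^ i * k ^ (j - i) [MOD s] := by
    rw [mul_one, ← pow_add]
    have : i + (j - i) = j := by omega
    rwa [this]
  have h5 := Nat.ModEq.cancel_left_of_coprime (hks.pow_right i) h4
  exact hk (j - i) (by omega) (by omega) h5.symm

theorem inj_aux {K : Type v} [Field K] {l : K} {s k t : ℕ} (hl : orderOf l = s) (hl0 : l ≠ 0) (hks : s.Coprime k)
    (hk : ∀ i < t, 0 < i → k ^ i % s ≠ 1 % s) : Set.InjOn (fun i : ℕ => l ^ k ^ i) (Finset.range t : Set ℕ) := by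
  intro i hi j hj hij
  simp only [Finset.coe_range, Set.mem_Iio] at hi hj hij
  have h0 : orderOf (Units.mk0 l hl0) = s := by rw [← hl, ← orderOf_units, Units.val_mk0]
  have h1 : k ^ i ≡ k ^ j [MOD s] := by
    rw [← h0, ← pow_eq_pow_iff_modEq]
    apply Units.ext
    rw [Units.val_pow_eq_pow_val, Units.val_pow_eq_pow_val, Units.val_mk0]
    exact hij
  rcases lt_trichotomy i j with h | h | h
  · exact absurd h1 (ne_aux hks hk h hj)
  · exact h
  · exact absurd h1.symm (ne_aux hks hk h hi)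

/-- **The bound for the dimension.** -/
theorem bound {X Y : GL ι F} {s k t : ℕ} (hs : s.Prime) (hsF : (s : F) ≠ 0) (hX : X ^ s = 1) (hX1 : X ≠ 1)
    (h : Y * X * Y⁻¹ = X ^ k) (hk : ∀ i < t, 0 < i → k ^ i % s ≠ 1 % s) : t ≤ Fintype.card ι := by
  classical
  obtain ⟨l, hl, hls⟩ := exists_root hs hsF hX hX1
  have hl0 : l ≠ 0 := by
    rintro rfl
    rw [orderOf_zero] at hls
    exact hs.ne_zero hls.symm
  have hinj := inj_aux hls hl0 (coprime_of hs hX hX1 h) hk
  have := card_le_of_roots (X := (X : Matrix ι ι F)) ((Finset.range t).image fun i => l ^ k ^ i) (by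
    intro m hm
    obtain ⟨i, -, rfl⟩ := Finset.mem_image.1 hm
    exact iter_root h hl i)
  rwa [Finset.card_image_of_injOn hinj, Finset.card_range] at this

/-- **The bound for the dimension, isometries.** -/
theorem bound_inv {X Y : GL ι F} {s k t : ℕ} (hs : s.Prime) (hsF : (s : F) ≠ 0) (hX : X ^ s = 1) (hX1 : X ≠ 1)
    (h : Y * X * Y⁻¹ = X ^ k) (hk : ∀ i < t, 0 < i → k ^ i % s ≠ 1 % s) (hk' : ∀ i < t, (k ^ i + 1) % s ≠ 0)
    {J : Matrix ι ι F} (hJ : IsUnit J.det) (hXJ : (X : Matrix ι ι F).transpose * J * (X : Matrix ι ι F) = J) :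
    2 * t ≤ Fintype.card ι := by
  classical
  obtain ⟨l, hl, hls⟩ := exists_root hs hsF hX hX1
  have hks := coprime_of hs hX hX1 h
  have hl0 : l ≠ 0 := by
    rintro rfl
    rw [orderOf_zero] at hls
    exact hs.ne_zero hls.symm
  have hinj := inj_aux hls hl0 hks hk
  have haux : ∀ i j : ℕ, i ≤ j → j < t → ¬ s ∣ k ^ i + k ^ j := by
    intro i j hij hj hd
    have h1 : k ^ i + k ^ j = k ^ i * (k ^ (j - i) + 1) := by
      have h2 : k ^ j = k ^ i * k ^ (j - i) := by
        rw [← pow_add]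
        congr 1
        omega
      rw [h2]; ring
    rw [h1] at hd
    have h3 := (hks.pow_right i).dvd_of_dvd_mul_left hd
    exact hk' (j - i) (by omega) (Nat.mod_eq_zero_of_dvd h3)
  set S₁ := (Finset.range t).image fun i => l ^ k ^ i with hS₁
  set S₂ := S₁.image fun m => m⁻¹ with hS₂
  have hc1 : S₁.card = t := by rw [hS₁, Finset.card_image_of_injOn hinj, Finset.card_range]
  have hc2 : S₂.card = t := by rw [hS₂, Finset.card_image_of_injective _ inv_injective, hc1]
  have hdisj : Disjoint S₁ S₂ := by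
    rw [Finset.disjoint_left]
    intro m hm1 hm2
    obtain ⟨i, hi, rfl⟩ := Finset.mem_image.1 hm1
    obtain ⟨m', hm', h1⟩ := Finset.mem_image.1 hm2
    obtain ⟨j, hj, rfl⟩ := Finset.mem_image.1 hm'
    have h2 : l ^ (k ^ i + k ^ j) = 1 := by
      rw [pow_add, ← h1]
      exact inv_mul_cancel₀ (pow_ne_zero _ hl0)
    have h3 : s ∣ k ^ i + k ^ j := by rw [← hls]; exact orderOf_dvd_of_pow_eq_one h2
    rw [Finset.mem_range] at hi hj
    rcases le_total i j with h4 | h4
    · exact haux i j h4 hj h3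
    · exact haux j i h4 hi (by rwa [add_comm] at h3)
  have := card_le_of_roots (X := (X : Matrix ι ι F)) (S₁ ∪ S₂) (by
    intro m hm
    rcases Finset.mem_union.1 hm with hm | hm
    · obtain ⟨i, -, rfl⟩ := Finset.mem_image.1 hm
      exact iter_root h hl i
    · obtain ⟨m', hm', rfl⟩ := Finset.mem_image.1 hm
      obtain ⟨j, hj, rfl⟩ := Finset.mem_image.1 hm'
      exact Cfsg.Agent.H122.Cyc.inv_root hJ hXJ (pow_ne_zero _ hl0) (iter_root h hl j))
  rw [Finset.card_union_of_disjoint hdisj, hc1, hc2] at this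
  omega

/-- the Gram matrix of a nondegenerate bilinear form -/
theorem exists_gram {f : (ι → F) → (ι → F) → F} (hf : IsBilinearForm f) (hn : IsNondegenerateForm f) :
    ∃ J : Matrix ι ι F, IsUnit J.det ∧ ∀ X : Matrix ι ι F, (∀ u v, f (X.mulVec u) (X.mulVec v) = f u v) →
      X.transpose * J * X = J := by
  let B : LinearMap.BilinForm F (ι → F) := LinearMap.mk₂ F f (fun x y v => hf.add_left x y v)
    (fun c x v => hf.smul_left c x v) (fun v x y => hf.add_right v x y) (fun c v x => hf.smul_right c v x)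
  have hB : ∀ x y, B x y = f x y := fun x y => rfl
  let J : Matrix ι ι F := LinearMap.BilinForm.toMatrix' B
  have hJ : ∀ x y, f x y = dotProduct x (J.mulVec y) := by
    intro x y
    rw [← hB]
    have h1 : B = Matrix.toBilin' J := (Matrix.toBilin'_toMatrix' B).symm
    conv_lhs => rw [h1]
    rw [Matrix.toBilin'_apply']
  refine ⟨J, ?_, ?_⟩
  · rw [isUnit_iff_ne_zero]
    intro h0
    obtain ⟨v, hv, hv0⟩ := Matrix.exists_mulVec_eq_zero_iff.2 h0
    obtain ⟨x, hx⟩ := (hn v hv).1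
    apply hx
    rw [hJ, hv0, dotProduct_zero]
  · intro X hX
    ext i j
    have h1 := hX (Pi.single i 1) (Pi.single j 1)
    rw [hJ, hJ] at h1
    have h2 : ∀ M : Matrix ι ι F, dotProduct (Pi.single i 1) (M.mulVec (Pi.single j 1)) = M i j := by
      intro M
      rw [single_one_dotProduct, Matrix.mulVec_single_one]
      rfl
    rw [h2 J] at h1
    rw [← h1, ← h2 (X.transpose * J * X), ← Matrix.mulVec_mulVec, ← Matrix.mulVec_mulVec, Matrix.dotProduct_mulVec,
      Matrix.vecMul_transpose]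

end mat

/-- the elements of `P` -/
theorem exists_lift {ι : Type} [Fintype ι] [DecidableEq ι] {F : Type u} [Field F] {P : Subgroup (GL ι F)}
    {T : Type v} [Group T] (e : Soc P ≃* T) {s : ℕ}
    (hcop : (Nat.card ((scalars ι F).subgroupOf P)).Coprime s) {x y : T} (hx1 : x ≠ 1) (hx : x ^ s = 1) {k : ℕ}
    (h : y * x * y⁻¹ = x ^ k) : ∃ X ∈ P, ∃ Y : GL ι F, X ^ s = 1 ∧ X ≠ 1 ∧ Y * X * Y⁻¹ = X ^ k := by
  have hk := ker_comp e
  have hsurj : Function.Surjective (e.toMonoidHom.comp (toSoc P)) := e.surjective.comp (toSoc_surjective P)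
  have hc : ∀ x, (e.toMonoidHom.comp (toSoc P)) x = 1 → ∀ y, x * y = y * x := by
    intro x hx y
    have h2 : x ∈ (e.toMonoidHom.comp (toSoc P)).ker := hx
    rw [hk] at h2
    exact ((Subgroup.mem_center_iff.1 (scalars_le_center h2)) y).symm
  have hcop' : (Nat.card (e.toMonoidHom.comp (toSoc P)).ker).Coprime s := by rw [hk]; exact hcop
  obtain ⟨X, hX, hXs⟩ := Cfsg.Agent.H912.Bd.exists_lift hcop' hsurj (e := x) (k := 1) (by rw [pow_one, hx])
  obtain ⟨Y, hY⟩ := hsurj y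
  rw [pow_one] at hXs
  refine ⟨X, X.2, Y, congrArg Subtype.val hXs, ?_, ?_⟩
  · intro h1
    apply hx1
    have h2 : X = 1 := Subtype.ext h1
    rw [← hX, h2, map_one]
  · have h1 : Y * X * Y⁻¹ = X ^ k := by
      refine Cfsg.Agent.H912.Bd.lift_unique hc hcop' (k := 1) (l := 1) ?_ ?_ ?_
      · rw [map_mul, map_mul, map_inv, map_pow, hX, hY, h]
      · rw [pow_one, conj_pow, hXs, mul_one, mul_inv_cancel]
      · rw [pow_one, ← pow_mul, mul_comm, pow_mul, hXs, one_pow]
    exact congrArg Subtype.val h1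

end Cfsg.Agent.H489.EP
end

-- part: H489/EP/ON
section
/-!
# S3499-V, the sporadic row `soc(A) = O'N` (helper489)
-/

set_option autoImplicit false
set_option maxRecDepth 100000

universe u v

namespace Cfsg.Agent.H489.EP.ON

open Subgroup Cfsg Cfsg.Geo Cfsg.Agent.H284 Cfsg.Agent.H419.EP Cfsg.Agent.H921.Spor Cfsg.Agent.H915.LD
open Cfsg.Agent.H489.Deg.ON (wd)
open Cfsg.Agent.KFacts.ON.Cent (hON finite_ON)

theorem chk : wd.chkP 31 10 [6, 4, 1, 3, 2] [0, 2, 6, 6, 6, 1, 2, 4, 3, 2, 6, 3, 4, 3, 2] = true := by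
  decide +kernel

/-- an element of order 31 conjugate to its 10th power -/
theorem exists_elem : ∃ x y : Cfsg.Spor.ON, x ≠ 1 ∧ x ^ 31 = 1 ∧ y * x * y⁻¹ = x ^ 10 := by
  have h := chk
  unfold Wd.chkP at h
  simp only [Bool.and_eq_true] at h
  obtain ⟨⟨h1, h2⟩, h3⟩ := h
  refine ⟨wd.W [6, 4, 1, 3, 2], wd.W [0, 2, 6, 6, 6, 1, 2, 4, 3, 2, 6, 3, 4, 3, 2], ?_, ?_, ?_⟩
  · exact wd.ne_sound h2
  · rw [← wd.W_rep, wd.eq_sound h1, wd.nil]
  · rw [mul_inv_eq_iff_eq_mul, ← wd.app, wd.eq_sound h3, wd.app, wd.W_rep]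

theorem card_ON : Nat.card Cfsg.Spor.ON = 460815505920 := hON.2

theorem card_aut_le : Nat.card (MulAut Cfsg.Spor.ON) ≤ 2 * 460815505920 := by
  have h1 := Cfsg.Agent.KFacts.ON.Aut.index_le
  have h2 := Cfsg.Agent.KFacts.ON.Aut.finite_aut
  have h3 := (MulAut.conj : Cfsg.Spor.ON →* MulAut Cfsg.Spor.ON).range.card_mul_index
  have h4 : Nat.card (MulAut.conj : Cfsg.Spor.ON →* MulAut Cfsg.Spor.ON).range ≤ 460815505920 := by
    have := finite_ON
    rw [← card_ON]
    exact Nat.card_le_card_of_surjective _ (MulAut.conj : Cfsg.Spor.ON →* MulAut Cfsg.Spor.ON).rangeRestrict_surjective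
  rw [← h3]
  calc _ ≤ 460815505920 * 2 := Nat.mul_le_mul h4 h1
    _ = _ := by ring

variable {Q : Type} [Group Q] [Finite Q] {A : Subgroup Q}

theorem cardA (hsoc : HasSoc A Cfsg.Spor.ON) : Nat.card A = 460815505920 ∨ Nat.card A = 921631011840 := by
  have := finite_ON
  have h1 := hsoc.card_le.trans card_aut_le
  obtain ⟨c, hc⟩ := hsoc.card_dvd
  rw [card_ON] at hc
  have h0 : 0 < Nat.card A := Nat.card_pos
  have hc0 : 0 < c := by
    rcases Nat.eq_zero_or_pos c with h | h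
    · rw [h] at hc; omega
    · exact h
  have hc2 : c ≤ 2 := by omega
  interval_cases c
  · left; rw [hc]
  · right; rw [hc]

theorem mod_ne : ∀ i < 15, 0 < i → 10 ^ i % 31 ≠ 1 % 31 := by decide

theorem mod_neg : ∀ i < 15, (10 ^ i + 1) % 31 ≠ 0 := by decide

section dim

variable {ι : Type} [Fintype ι] [DecidableEq ι] {F : Type} [Field F] [Fintype F] {P : Subgroup (GL ι F)}

theorem exists_X (hC : Core P) (e : Soc P ≃* Cfsg.Spor.ON) :
    ∃ X ∈ P, ∃ Y : GL ι F, X ^ 31 = 1 ∧ X ≠ 1 ∧ Y * X * Y⁻¹ = X ^ 10 := by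
  obtain ⟨x, y, h1, h2, h3⟩ := exists_elem
  refine exists_lift e ?_ h1 h2 h3
  have h4 := hC.card_scalars_dvd e Cfsg.Agent.S2052.result
  rw [Nat.card_congr Multiplicative.toAdd, Nat.card_zmod] at h4
  exact Nat.Coprime.coprime_dvd_left h4 (by norm_num)

/-- the dimension outside characteristic 31 -/
theorem dim_le (hC : Core P) (e : Soc P ≃* Cfsg.Spor.ON) (h31 : ((31 : ℕ) : F) ≠ 0) : 15 ≤ Fintype.card ι := by
  obtain ⟨X, -, Y, h1, h2, h3⟩ := exists_X hC e
  exact bound (by norm_num) h31 h1 h2 h3 mod_ne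

/-- the dimension outside characteristic 31, with a form -/
theorem dim_le_form (hC : Core P) (e : Soc P ≃* Cfsg.Spor.ON) (h31 : ((31 : ℕ) : F) ≠ 0)
    {f : (ι → F) → (ι → F) → F} (hf : IsBilinearForm f) (hn : IsNondegenerateForm f)
    (hfix : ∀ X ∈ P, ∀ u v, f ((X : Matrix ι ι F).mulVec u) ((X : Matrix ι ι F).mulVec v) = f u v) :
    30 ≤ Fintype.card ι := by
  obtain ⟨X, hX, Y, h1, h2, h3⟩ := exists_X hC e
  obtain ⟨J, hJ, hJX⟩ := exists_gram hf hn
  exact bound_inv (t := 15) (by norm_num) h31 h1 h2 h3 mod_ne mod_neg hJ (hJX _ (hfix X hX))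

end dim

section row

variable {Γ : Subgroup (MulAut Q)} {ι : Type} [Fintype ι] [DecidableEq ι] {F : Type} [Field F] [Fintype F]
  {S P : Subgroup (GL ι F)}

/-- an element of `omegaGL Q` is an isometry of the polar form -/
theorem polar_omega {Qf : (ι → F) → F} {X : GL ι F} (hX : X ∈ omegaGL Qf) (u v : ι → F) :
    QuadraticMap.polar Qf ((X : Matrix ι ι F).mulVec u) ((X : Matrix ι ι F).mulVec v) = QuadraticMap.polar Qf u v := by
  obtain ⟨x, -, rfl⟩ := hX
  have h1 : ∀ w, Qf (((x : GL ι F) : Matrix ι ι F).mulVec w) = Qf w := fun w => x.2 w w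
  rw [QuadraticMap.polar, QuadraticMap.polar]
  change Qf (((x : GL ι F) : Matrix ι ι F).mulVec u + ((x : GL ι F) : Matrix ι ι F).mulVec v) -
    Qf (((x : GL ι F) : Matrix ι ι F).mulVec u) - Qf (((x : GL ι F) : Matrix ι ι F).mulVec v) = _
  rw [← Matrix.mulVec_add, h1, h1, h1]

/-- the order of `Q` is large -/
theorem card_large (b : Big A Γ S P) (h : Spor.IsoON (socle P)) : 2 ^ 190 ≤ 8 * Nat.card Q := by
  obtain ⟨e⟩ := h
  have hC : Core P := core_of_residual b.core
  have hn := b.thirteen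
  by_cases h31 : ((31 : ℕ) : F) = 0
  · -- characteristic 31
    have hp : 31 ≤ Fintype.card F := by
      have h1 := CharP.cast_eq_zero_iff F (ringChar F) 31
      have h2 : ringChar F ∣ 31 := h1.1 h31
      have h3 : ringChar F = 31 := by
        rcases (Nat.dvd_prime (by norm_num)).1 h2 with h3 | h3
        · exact absurd h3 (CharP.ringChar_ne_one)
        · exact h3
      have h4 : ringChar F ∣ Fintype.card F := by
        rw [← CharP.cast_eq_zero_iff F (ringChar F)]
        exact Nat.cast_card_eq_zero F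
      rw [h3] at h4
      exact Nat.le_of_dvd Fintype.card_pos h4
    have h1 := b.ord
    refine le_trans ?_ h1
    calc 2 ^ 190 ≤ 31 ^ 78 := by norm_num
      _ ≤ Fintype.card F ^ 78 := Nat.pow_le_pow_left hp _
      _ ≤ _ := Nat.pow_le_pow_right Fintype.card_pos (by
          have : 13 * 12 / 2 ≤ Fintype.card ι * (Fintype.card ι - 1) / 2 :=
            Nat.div_le_div_right (Nat.mul_le_mul hn (by omega))
          omega)
  · have h15 := dim_le hC e h31
    have hF := b.two_le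
    rcases b.kind with ⟨-, ho, -, -, -⟩ | ⟨f, -, -, h3, ho, -, -⟩ | ⟨q, hq, σ, f, -, -, -, ho, -, -⟩ |
      ⟨Qf, hQ, hS, ho, -⟩
    · calc 2 ^ 190 ≤ 2 ^ 223 := Nat.pow_le_pow_right (by norm_num) (by norm_num)
        _ ≤ Fintype.card F ^ 223 := Nat.pow_le_pow_left hF _
        _ ≤ Fintype.card F ^ (Fintype.card ι ^ 2 - 2) := Nat.pow_le_pow_right Fintype.card_pos (by
            have : 15 ^ 2 ≤ Fintype.card ι ^ 2 := Nat.pow_le_pow_left h15 2
            omega)
        _ ≤ _ := ho.trans (by omega)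
    · calc 2 ^ 190 ≤ 3 ^ 120 := by norm_num
        _ ≤ Fintype.card F ^ 120 := Nat.pow_le_pow_left h3 _
        _ ≤ Fintype.card F ^ (Fintype.card ι * (Fintype.card ι + 1) / 2) :=
          Nat.pow_le_pow_right Fintype.card_pos (by
            have : 15 * 16 / 2 ≤ Fintype.card ι * (Fintype.card ι + 1) / 2 :=
              Nat.div_le_div_right (Nat.mul_le_mul h15 (by omega))
            omega)
        _ ≤ _ := ho.trans (by omega)
    · have hq2 : 2 ≤ q := by
        by_contra hlt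
        have : q ≤ 1 := by omega
        interval_cases q
        · rw [hq] at hF; norm_num at hF
        · rw [hq] at hF; norm_num at hF
      calc 2 ^ 190 ≤ 2 ^ 222 := Nat.pow_le_pow_right (by norm_num) (by norm_num)
        _ ≤ q ^ 222 := Nat.pow_le_pow_left hq2 _
        _ ≤ q ^ (Fintype.card ι ^ 2 - 3) := Nat.pow_le_pow_right (by omega) (by
            have : 15 ^ 2 ≤ Fintype.card ι ^ 2 := Nat.pow_le_pow_left h15 2
            omega)
        _ ≤ _ := ho.trans (by omega)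
    · have h30 := dim_le_form hC e h31 hQ.polar_bilinear hQ.nondegenerate (fun X hX u v =>
        polar_omega (by rw [← hS]; exact b.le_S hX) u v)
      calc 2 ^ 190 ≤ 2 ^ 435 := Nat.pow_le_pow_right (by norm_num) (by norm_num)
        _ ≤ Fintype.card F ^ 435 := Nat.pow_le_pow_left hF _
        _ ≤ Fintype.card F ^ (Fintype.card ι * (Fintype.card ι - 1) / 2) :=
          Nat.pow_le_pow_right Fintype.card_pos (by
            have : 30 * 29 / 2 ≤ Fintype.card ι * (Fintype.card ι - 1) / 2 :=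
              Nat.div_le_div_right (Nat.mul_le_mul h30 (by omega))
            omega)
        _ ≤ _ := ho

end row

/-- **Row `O'N`** -/
theorem on (hg : Cfsg.Agent.H59.EP.TwoGen.{0}) : BigOf (fun L _ => Spor.IsoON L) := by
  intro Q _ _ A Γ ι _ _ F _ _ S P b h
  have h1 := card_large b h
  obtain ⟨e⟩ := h
  have hA : Nat.card A ∣ 921631011840 := by
    rcases cardA (b.hasSoc' e) with h2 | h2 <;> rw [h2]
    exact ⟨2, by norm_num⟩
  have hQ := Cfsg.Agent.H812.EP.card_le hg b [(2, 10), (3, 4), (5, 1), (7, 3), (11, 1), (19, 1), (31, 1)]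
    (by
      intro x hx
      simp only [List.mem_cons, List.not_mem_nil, or_false] at hx
      rcases hx with rfl | rfl | rfl | rfl | rfl | rfl | rfl <;> norm_num) (by decide)
    (N := 921631011840) (by norm_num) hA (by norm_num)
  have h2 : 8 * Cfsg.Agent.H812.EP.bnd [(2, 10), (3, 4), (5, 1), (7, 3), (11, 1), (19, 1), (31, 1)] 921631011840 <
      2 ^ 190 := by decide +kernel
  omega

end Cfsg.Agent.H489.EP.ON
end
end

-- part: H312/EPU/RowC
section
prune_inst 0x1004000402200000000850410000000100004900000000080a100000808800040000000000020034020008000000008110000000240000004000000000001000000000000000000020000000000000000000000000000000000000000000000000000000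
set_option linter.all false
open scoped Cfsg.Agent.FastGrp

-- part: H312/EPU/Mid
section
/-!
# Type `B_3`, the middle node: the bound inside a submodule (helper312)

`mid_bound_sub` : `H762.Ppd.Mid.mid_bound` for a submodule containing the Levi submodules of the vertices.
-/

set_option autoImplicit false
set_option linter.unusedSectionVars false
set_option linter.style.haveILetI false

namespace Cfsg.Agent.H312.EPU

open CoxeterSystem Cfsg.Agent.ChevalleyStructure.CoxeterGeom Cfsg.Agent.Tits.Roots Cfsg.Agent.Tits.Core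
  Cfsg.Agent.Nodes.Reps Cfsg.Agent.Nodes.BNOf Cfsg.Agent.Nodes.Bruhat Cfsg.Agent.Nodes.TypeC
  Cfsg.Agent.Omega.CR Cfsg.Agent.H905.Md Cfsg.Agent.H117.Levi
open Cfsg.Agent.H905.DC (co cf co_wordProd)
open Cfsg.Agent.H650.Ppd (co_eq_of_mem)
open Cfsg.Agent.H762.Ppd.Mid (wl gl hmin hsep hsep' rp_gl)

section lin

variable {k V : Type*} [Field k] [AddCommGroup V] [Module k V] [FiniteDimensional k V]

/-- **orthogonal families**, inside a submodule -/
theorem sum_prk_le_sub {ι : Type*} [Fintype ι] (f : ι → Submodule k V) (Φ : ι → Submodule k (Module.Dual k V))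
    (h2 : ∀ i j, i ≠ j → ∀ φ ∈ Φ i, ∀ v ∈ f j, φ v = 0) {U : Submodule k V} (hU : ∀ i, f i ≤ U) :
    ∑ i, prk (f i) (Φ i) ≤ Module.finrank k U := by
  choose g hg h1 h3 using fun i => exists_compl (f i) (Φ i)
  calc ∑ i, prk (f i) (Φ i) = ∑ i, Module.finrank k (g i) := Finset.sum_congr rfl fun i _ => (h3 i).symm
    _ ≤ Module.finrank k (⨆ i, g i : Submodule k V) :=
      sum_le_of_sep (Φ := Φ) h1 fun i j hij φ hφ v hv => h2 i j hij φ hφ v (hg j hv)
    _ ≤ Module.finrank k U := Submodule.finrank_mono (iSup_le fun i => (hg i).trans (hU i))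

end lin

section levi

variable {I W Y : Type*} [Fintype I] [DecidableEq I] [Group W] [Group Y] {M : CoxeterMatrix I}
  {cs : CoxeterSystem M W} {A : I → I → ℤ} {h : IsCartan M A} {p : ℕ} {T : Subgroup Y} {n : I → Y}
  {X : (I → ℤ) → Subgroup Y} {k V : Type*} [Field k] [AddCommGroup V] [Module k V]
variable (R : RGD cs h p T n X) [Finite Y] [Finite W] [Fact p.Prime] [CharP k p]
  {ρ : Y →* Module.End k V} [FiniteDimensional k V]
  (hirr : ∀ L : Submodule k V, Ivt ρ (GG cs h T X) L → L = ⊥ ∨ L = ⊤)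
include R hirr

/-- **Levi restrictions** inside a submodule -/
theorem dim_ge_levi_sub [Nontrivial V] (J : Set I) {α : Type*} [Fintype α] (w : α → W) (g : α → Y)
    (hg : ∀ a, Rp cs R.nsys (w a) (g a)) (hmin : ∀ a, ∀ i ∈ J, 0 ≤ rep cs h (w a)⁻¹ (sr i))
    (hsep : ∀ a a', a ≠ a' → ∀ x ∈ WJ cs J, (w a)⁻¹ * x * w a' ∉ WJ cs (Jx cs h X ρ)) {U : Submodule k V}
    (hU : ∀ a, Lf cs h T X ρ J (g a) ≤ U) :
    ∑ a, lrk cs h T X ρ J (g a) ≤ Module.finrank k U := by
  refine sum_prk_le_sub _ _ (fun a a' haa φ hφ v hv => ?_) hU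
  by_contra hne
  obtain ⟨x, hx, h1⟩ := mem_of_pairJ R hirr (hg a) (hg a') (hmin a) (hmin a') hφ hv hne
  exact hsep a a' haa x hx h1

end levi

section main

variable {W Y : Type*} [Group W] [Group Y] {cs : CoxeterSystem (CoxeterMatrix.B 3) W} {p : ℕ} {T : Subgroup Y}
  {nn : Fin 3 → Y} {X : (Fin 3 → ℤ) → Subgroup Y} {k V : Type*} [Field k] [AddCommGroup V] [Module k V]
variable (R : RGD cs (isCartan 3) p T nn X) [Finite Y] [Finite W] [Fact p.Prime] [CharP k p]
  {ρ : Y →* Module.End k V} [FiniteDimensional k V] [Nontrivial V]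
  (hirr : ∀ L : Submodule k V, Ivt ρ (GG cs (isCartan 3) T X) L → L = ⊥ ∨ L = ⊤)
  (hD : Module.finrank k (D cs (isCartan 3) X ρ) = 1)

include R hirr hD

theorem mid_bound_sub (h1 : (1 : Fin 3) ∉ Jx cs (isCartan 3) X ρ)
    (hm : 4 ≤ lrk cs (isCartan 3) T X ρ {0} (nn 1 * nn 2 * nn 1)) {U : Submodule k V}
    (hU : ∀ a, Lf cs (isCartan 3) T X ρ {0} (gl nn (wl a)) ≤ U) : 14 ≤ Module.finrank k U := by
  have hg := fun a : Fin 7 => rp_gl R (wl a)
  have key := dim_ge_levi_sub R hirr ({0} : Set (Fin 3)) (α := Fin 7) (fun a => cs.wordProd (wl a))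
    (fun a => gl nn (wl a)) hg hmin (hsep h1) hU
  have e1 : ∀ a : Fin 7, 1 ≤ lrk cs (isCartan 3) T X ρ {0} (gl nn (wl a)) := fun a => one_le_lrk R hirr _ _
  have e2 : ∀ a : Fin 7, a = 1 ∨ a = 2 ∨ a = 3 ∨ a = 4 ∨ a = 5 → 2 ≤ lrk cs (isCartan 3) T X ρ {0} (gl nn (wl a)) := by
    intro a ha
    have hs := hsep' (cs := cs) h1 a ha
    have h2 := lrk_ge R hirr (hg a) (hmin a) (α := Fin 2) (β := Fin 0) ![1, cs.simple 0]
      (by
        have hm' : cs.simple 0 ∈ WJ cs ({0} : Set (Fin 3)) := by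
          unfold WJ
          exact Subgroup.subset_closure ⟨0, rfl, rfl⟩
        intro x; fin_cases x; exacts [one_mem _, hm'])
      (by
        intro x x' hxx h
        fin_cases x <;> fin_cases x'
        · exact hxx rfl
        · apply hs
          simpa only [mul_assoc, _root_.Fin.isValue, _root_.Fin.zero_eta, _root_.Matrix.cons_val_zero, _root_.inv_one, _root_.Fin.mk_one, _root_.Matrix.cons_val_one, _root_.Matrix.cons_val_fin_one, _root_.one_mul] using h
        · apply hs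
          simpa only [mul_assoc, _root_.Fin.isValue, _root_.Fin.mk_one, _root_.Matrix.cons_val_one, _root_.Matrix.cons_val_fin_one, _root_.CoxeterSystem.inv_simple, _root_.Fin.zero_eta, _root_.Matrix.cons_val_zero, _root_.mul_one] using h
        · exact hxx rfl)
      Fin.elim0 (fun b => b.elim0) Fin.elim0 (fun b => b.elim0) (fun b => b.elim0)
    rw [hD] at h2
    simpa only [_root_.Fin.isValue, _root_.ge_iff_le, _root_.Fintype.card_fin, _root_.mul_one, _root_.Finset.univ_eq_empty, _root_.Finset.sum_empty, _root_.add_zero] using h2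
  have e3 : gl nn (wl 3) = nn 1 * nn 2 * nn 1 := by
    simp [gl, wl, mul_assoc]
  have e4 : 4 ≤ lrk cs (isCartan 3) T X ρ {0} (gl nn (wl 3)) := by rw [e3]; exact hm
  have a0 := e1 0
  have a1 := e2 1 (by simp)
  have a2 := e2 2 (by simp)
  have a4 := e2 4 (by simp)
  have a5 := e2 5 (by simp)
  have a6 := e1 6
  simp only [Fin.sum_univ_succ, Fin.sum_univ_zero, Fin.isValue] at key
  change lrk cs (isCartan 3) T X ρ {0} (gl nn (wl 0)) + (lrk cs (isCartan 3) T X ρ {0} (gl nn (wl 1)) +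
    (lrk cs (isCartan 3) T X ρ {0} (gl nn (wl 2)) + (lrk cs (isCartan 3) T X ρ {0} (gl nn (wl 3)) +
    (lrk cs (isCartan 3) T X ρ {0} (gl nn (wl 4)) + (lrk cs (isCartan 3) T X ρ {0} (gl nn (wl 5)) +
    (lrk cs (isCartan 3) T X ρ {0} (gl nn (wl 6)) + 0)))))) ≤ _ at key
  omega

/-- a submodule stable under a group containing `T`, `X_{±α_0}` and the Weyl elements -/
theorem mid_bound_of (h1 : (1 : Fin 3) ∉ Jx cs (isCartan 3) X ρ)
    (hm : 4 ≤ lrk cs (isCartan 3) T X ρ {0} (nn 1 * nn 2 * nn 1)) {H : Subgroup Y}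
    (hT : T ≤ H) (hX : X (sr 0) ≤ H) (hX' : X (-sr 0) ≤ H) (hn : ∀ i, nn i ∈ H) {U : Submodule k V}
    (hDU : D cs (isCartan 3) X ρ ≤ U) (hHU : Ivt ρ H U) : 14 ≤ Module.finrank k U := by
  refine mid_bound_sub R hirr hD h1 hm fun a => ?_
  have hg : gl nn (wl a) ∈ H := by
    unfold gl
    refine Subgroup.list_prod_mem _ fun x hx => ?_
    obtain ⟨i, -, rfl⟩ := List.mem_map.1 hx
    exact hn i
  unfold Lf
  refine Sp_le ?_ (fun l hl v hv => hHU l (LJ_single_le hT hX hX' hl) v hv)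
  rintro _ ⟨d, hd, rfl⟩
  exact hHU _ hg d (hDU hd)

end main

end Cfsg.Agent.H312.EPU
end

-- part: H312/EPU/Zed
section
/-!
# The element `z = diag(c, ..., c; c^{1-N})` of `SU_N(q)`, `N` odd (helper312)

* `exists_zed` : `z v = c v + (c^{1-N} - c) h(v, d) d`, `h(d, d) = 1`, `c c^q = 1`;
* `zed_comm` : `z` commutes with the isometries fixing `⟨d⟩`;
* `zed_not_central` : `z` is not central if `c ^ N ≠ 1`.
-/

set_option autoImplicit false
set_option linter.unusedSectionVars false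
set_option linter.style.haveILetI false

namespace Cfsg.Agent.H312.EPU

open Cfsg.Agent.LieClassical.HermBasic Cfsg.Agent.LieClassical.HermSiegel
open Cfsg.Agent.TitsThree Cfsg.Agent.TitsThree.KSideU Cfsg.Agent.TitsThree.KSideUDesc Cfsg.Agent.TitsThree.Siegel
open Cfsg.Agent.H925.Nat Cfsg.Agent.H762.Ppd Cfsg.Agent.Nodes.WittU
open Cfsg Cfsg.Geo Matrix
open scoped MatrixGroups Matrix

section zed

variable {K : Type} [Field K] [Fintype K] {q N : ℕ} (hK : Fintype.card K = q ^ 2)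

/-- the matrix -/
def zm (q : ℕ) (d : Fin N → K) (c k : K) : Matrix (Fin N) (Fin N) K :=
  c • (1 : Matrix (Fin N) (Fin N) K) + k • Matrix.of fun i j => d i * d j ^ q

omit [Fintype K] in
theorem zm_mulVec (d : Fin N → K) (c k : K) (v : Fin N → K) :
    zm q d c k *ᵥ v = c • v + k • (hermForm N K q v d • d) := by
  unfold zm
  rw [Matrix.add_mulVec, Matrix.smul_mulVec, Matrix.one_mulVec, Matrix.smul_mulVec]
  congr 2
  funext i
  rw [Pi.smul_apply, smul_eq_mul]
  simp only [Matrix.mulVec, dotProduct, Matrix.of_apply, hermForm]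
  rw [Finset.sum_mul]
  exact Finset.sum_congr rfl fun j _ => by ring

omit [Fintype K] in
theorem zm_det {d : Fin N → K} (hd : hermForm N K q d d = 1) {c k : K} (hc : c ≠ 0) :
    (zm q d c k).det * c = c ^ N * (c + k) := by
  have h1 : zm q d c k = c • ((1 : Matrix (Fin N) (Fin N) K) +
      Matrix.replicateCol Unit ((c⁻¹ * k) • d) * Matrix.replicateRow Unit (fun j => d j ^ q)) := by
    unfold zm
    rw [smul_add]
    congr 1
    ext i j
    simp only [Matrix.smul_apply, Matrix.of_apply, Matrix.mul_apply, Matrix.replicateCol_apply,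
      Matrix.replicateRow_apply, Finset.univ_unique, Finset.sum_singleton, Pi.smul_apply, smul_eq_mul]
    field_simp
  have h2 : (fun j => d j ^ q) ⬝ᵥ ((c⁻¹ * k) • d) = c⁻¹ * k := by
    rw [dotProduct_smul]
    have : (fun j => d j ^ q) ⬝ᵥ d = 1 := by
      rw [← hd]
      simp only [dotProduct, hermForm]
      exact Finset.sum_congr rfl fun j _ => by ring
    rw [this, smul_eq_mul, mul_one]
  rw [h1, Matrix.det_smul, Matrix.det_one_add_replicateCol_mul_replicateRow, h2, Fintype.card_fin]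
  field_simp

include hK

theorem exists_zed {d : Fin N → K} (hd : hermForm N K q d d = 1) {c : K} (hc : c * c ^ q = 1) (hN : 1 ≤ N) :
    ∃ z ∈ IU K q N, ∀ v, z v = c • v + ((c ^ (N - 1))⁻¹ - c) • (hermForm N K q v d • d) := by
  have hc0 : c ≠ 0 := by
    rintro rfl
    rw [zero_mul] at hc
    exact zero_ne_one hc
  set k := (c ^ (N - 1))⁻¹ - c with hk
  have hck : c + k = (c ^ (N - 1))⁻¹ := by rw [hk]; ring
  have hn1 : (c + k) * (c + k) ^ q = 1 := by
    have h1 : c ^ (N - 1) * (c ^ (N - 1)) ^ q = 1 := by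
      rw [← pow_mul, mul_comm (N - 1) q, pow_mul, ← mul_pow, hc, one_pow]
    rw [hck, inv_pow, ← mul_inv, h1, inv_one]
  have hdet : (zm q d c k).det = 1 := by
    have h1 := zm_det (q := q) hd (k := k) hc0
    rw [hck] at h1
    have h2 : c ^ N = c ^ (N - 1) * c := by
      rw [← pow_succ]
      congr 1
      omega
    rw [h2] at h1
    have h3 : c ^ (N - 1) ≠ 0 := pow_ne_zero _ hc0
    have h4 : c ^ (N - 1) * c * (c ^ (N - 1))⁻¹ = 1 * c := by field_simp
    rw [h4] at h1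
    exact mul_right_cancel₀ hc0 h1
  have hpres : ∀ u v, hermForm N K q (zm q d c k *ᵥ u) (zm q d c k *ᵥ v) = hermForm N K q u v := by
    intro u v
    rw [zm_mulVec, zm_mulVec, herm_add_left, herm_add_right hK, herm_add_right hK, herm_smul_left, herm_smul_left,
      herm_smul_left, herm_smul_left, herm_smul_right, herm_smul_right, herm_smul_left, herm_smul_right,
      herm_smul_right, herm_smul_left, herm_smul_right, herm_smul_right, hd, herm_swap hK v d]
    rw [add_pow_q hK] at hn1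
    linear_combination (hermForm N K q u v) * hc + hermForm N K q u d * (hermForm N K q v d) ^ q * (hn1 - hc)
  refine ⟨toLin K q N ⟨⟨zm q d c k, hdet⟩, hpres⟩, ⟨_, rfl⟩, fun v => ?_⟩
  rw [← zm_mulVec]
  rfl

/-- `z` commutes with the isometries fixing `⟨d⟩` -/
theorem zed_comm {d : Fin N → K} (hd : hermForm N K q d d = 1) {c k : K} {z g : (Fin N → K) ≃ₗ[K] (Fin N → K)}
    (hz : ∀ v, z v = c • v + k • (hermForm N K q v d • d)) (hg : g ∈ IU K q N) {ν : K} (hν : g d = ν • d) :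
    z * g = g * z := by
  have hiso := isIso_IU hK hg
  have h1 : ν * ν ^ q = 1 := by
    have h2 : hermForm N K q (g d) (g d) = hermForm N K q d d := hiso d d
    rw [hν, herm_smul_left, herm_smul_right, hd, mul_one] at h2
    exact h2
  refine LinearEquiv.ext fun v => ?_
  change z (g v) = g (z v)
  rw [hz, hz, map_add, map_smul, map_smul, map_smul, hν]
  have h2 : hermForm N K q (g v) d = ν * hermForm N K q v d := by
    have h3 : hermForm N K q (g v) (g d) = hermForm N K q v d := hiso v d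
    rw [hν, herm_smul_right] at h3
    rw [← h3, ← mul_assoc, h1, one_mul]
  rw [h2]
  congr 2
  rw [smul_smul, mul_comm]

/-- `z` is not central -/
theorem zed_scalar (hN : 3 ≤ N) {d : Fin N → K} (hd : hermForm N K q d d = 1) {c k : K}
    {z : (Fin N → K) ≃ₗ[K] (Fin N → K)}
    (hz : ∀ v, z v = c • v + k • (hermForm N K q v d • d)) (hc : ∀ g ∈ IU K q N, z * g = g * z) : k = 0 := by
  -- `z` commutes with every matrix
  have hspan := span_IU hK hN
  let Z : Matrix (Fin N) (Fin N) K := LinearMap.toMatrix' (z : (Fin N → K) →ₗ[K] (Fin N → K))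
  have hZ : ∀ v, Z *ᵥ v = z v := by
    intro v
    change (LinearMap.toMatrix' _).mulVec v = _
    rw [← Matrix.toLin'_apply, Matrix.toLin'_toMatrix']
    rfl
  have hall : ∀ A : Matrix (Fin N) (Fin N) K, Z * A = A * Z := by
    intro A
    have hA : A ∈ Submodule.span K (Set.range (mt (IU K q N))) := by rw [hspan]; trivial
    induction hA using Submodule.span_induction with
    | mem x hx =>
      obtain ⟨g, rfl⟩ := hx
      apply Matrix.toLin'.injective
      refine LinearMap.ext fun v => ?_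
      rw [Matrix.toLin'_apply, Matrix.toLin'_apply, ← Matrix.mulVec_mulVec, ← Matrix.mulVec_mulVec, mt_mulVec, hZ, hZ,
        mt_mulVec]
      exact LinearEquiv.congr_fun (hc g.1 g.2) v
    | zero => rw [mul_zero, zero_mul]
    | add x y _ _ hx hy => rw [mul_add, add_mul, hx, hy]
    | smul a x _ hx => rw [mul_smul_comm, smul_mul_assoc, hx]
  -- apply to the matrices `w uᵀ`
  have key : ∀ w v : Fin N → K, ∀ i, (z v i) • w = v i • z w := by
    intro w v i
    have h1 := congrArg (fun M : Matrix (Fin N) (Fin N) K => M *ᵥ v) (hall (Matrix.of fun a b => w a * (if b = i then 1 else 0)))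
    simp only [← Matrix.mulVec_mulVec] at h1
    have h2 : ∀ x : Fin N → K, (Matrix.of fun a b => w a * (if b = i then (1 : K) else 0)) *ᵥ x = x i • w := by
      intro x
      funext a
      simp only [Matrix.mulVec, dotProduct, mul_comm, _root_.Matrix.mulVec, _root_.dotProduct, _root_.mul_ite, _root_.mul_one, _root_.MulZeroClass.mul_zero, _root_.Matrix.of_apply, _root_.mul_comm, _root_.Finset.sum_ite_eq', _root_.Finset.mem_univ, ↓ _root_.reduceIte, _root_.Pi.smul_apply, _root_.smul_eq_mul]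
    rw [h2, h2, hZ, hZ, map_smul] at h1
    exact h1.symm
  by_contra hk
  have hd0 : d ≠ 0 := by
    rintro rfl
    rw [herm_zero_left] at hd
    exact zero_ne_one hd
  obtain ⟨i, hi⟩ := Function.ne_iff.1 hd0
  rw [Pi.zero_apply] at hi
  have hzd : z d = (c + k) • d := by rw [hz, hd, one_smul, add_smul]
  have h3 : ∀ w, w = hermForm N K q w d • d := by
    intro w
    have h4 := key w d i
    rw [hzd, Pi.smul_apply, smul_eq_mul, hz] at h4
    have h5 : (d i * k) • w = (d i * k) • (hermForm N K q w d • d) := by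
      have h6 : ((c + k) * d i) • w = (d i * c) • w + (d i * k) • (hermForm N K q w d • d) := by
        rw [h4, smul_add, smul_smul, smul_smul]
      have h7 : ((c + k) * d i) • w = (d i * c) • w + (d i * k) • w := by
        rw [← add_smul]; congr 1; ring
      rw [h7] at h6
      exact add_left_cancel h6
    exact smul_right_injective _ (mul_ne_zero hi hk) h5
  obtain ⟨j, hj⟩ := Fintype.exists_ne_of_one_lt_card (show 1 < Fintype.card (Fin N) by rw [Fintype.card_fin]; omega) i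
  have h4 := congrFun (h3 (Pi.single i 1)) j
  have h5 := congrFun (h3 (Pi.single i 1)) i
  have h6 := congrFun (h3 (Pi.single j 1)) j
  rw [Pi.single_eq_of_ne hj, Pi.smul_apply, smul_eq_mul] at h4
  rw [Pi.single_eq_same, Pi.smul_apply, smul_eq_mul] at h5 h6
  rcases mul_eq_zero.1 h4.symm with h7 | h7
  · rw [h7, zero_mul] at h5
    exact one_ne_zero h5
  · rw [h7, mul_zero] at h6
    exact one_ne_zero h6

end zed

end Cfsg.Agent.H312.EPU
end

-- part: H312/EPU/Seven
section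
/-!
# `SU_N(K)` of rank 3, `N` odd: the middle node, `15 ≤ |ι|` (helper312)

`mid_bound_seven` : the bound 14 of `H762.Ppd.mid_bound_su` is attained inside an eigenspace of the element
`z = diag(c, ..., c; c^{1-N})`, which is not everything.
-/

set_option autoImplicit false
set_option linter.unusedSectionVars false
set_option linter.style.haveILetI false

namespace Cfsg.Agent.H312.EPU

open CoxeterSystem Cfsg.Agent.ChevalleyStructure.CoxeterGeom Cfsg.Agent.Tits.Roots Cfsg.Agent.Tits.Core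
  Cfsg.Agent.Nodes.Reps Cfsg.Agent.Nodes.BNOf Cfsg.Agent.Nodes.Bruhat Cfsg.Agent.Nodes.RGDLib
open Cfsg.Agent.Nodes Cfsg.Agent.Nodes.WittRoot Cfsg.Agent.Nodes.WittRGD Cfsg.Agent.Nodes.WittAll Cfsg.Agent.Nodes.WittU
open Cfsg.Agent.Nodes.TypeC (isCartan sg sg_up sg_down sg_last sg_of_ne sg_sg ng ng_ng ng_fst ee ee_injective ee_add)
open Cfsg.Agent.LieClassical.HermBasic Cfsg.Agent.LieClassical.HermSiegel
open Cfsg.Agent.TitsThree.Siegel Cfsg.Agent.TitsThree.SiegelGen Cfsg.Agent.TitsThree.WittFrame Cfsg.Agent.TitsThree.FrameCN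
  Cfsg.Agent.TitsThree.WBridge Cfsg.Agent.TitsThree.KSideU Cfsg.Agent.TitsThree.KSideUDesc Cfsg.Agent.TitsThree
open Cfsg.Agent.H915.LD Cfsg.Agent.H911 Cfsg.Agent.H905.Md Cfsg.Agent.H925.Nat Cfsg.Agent.Nodes.RGDLift
open Cfsg.Agent.H156.Ppd (Cov lrep exists_cov)
open Cfsg.Agent.Omega.CR Cfsg.Agent.Omega.FOne.Lift.Sd
open Cfsg.Agent.H948.Ppd Cfsg.Agent.H117.Levi Cfsg.Agent.H762.Ppd
open Cfsg.Agent.H61.SUCross Cfsg.Agent.H48.NatSU
open Cfsg.Agent.H911.SLTwo (U Lo hh ww)
open Cfsg.Agent.H62.FrameSL (phiS)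
open Cfsg Cfsg.Geo
open scoped MatrixGroups Matrix

universe u v w

/-- in a perfect group an element central modulo the centre is central -/
theorem mem_center_of_perfect {Y : Type*} [Group Y] (hp : commutator Y = ⊤) {z : Y}
    (h : ∀ y, z * y * z⁻¹ * y⁻¹ ∈ Subgroup.center Y) : z ∈ Subgroup.center Y := by
  let f : Y →* Subgroup.center Y :=
    { toFun := fun y => ⟨z * y * z⁻¹ * y⁻¹, h y⟩
      map_one' := by
        apply Subtype.ext
        change z * 1 * z⁻¹ * 1⁻¹ = 1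
        group
      map_mul' := fun x y => by
        apply Subtype.ext
        change z * (x * y) * z⁻¹ * (x * y)⁻¹ = (z * x * z⁻¹ * x⁻¹) * (z * y * z⁻¹ * y⁻¹)
        have h1 := (Subgroup.mem_center_iff.1 (h y)) (x⁻¹)
        have e : z * (x * y) * z⁻¹ * (x * y)⁻¹ = z * x * z⁻¹ * ((z * y * z⁻¹ * y⁻¹) * x⁻¹) := by group
        rw [e, ← h1]
        group }
  have h1 : commutator Y ≤ f.ker := by
    rw [commutator_def, Subgroup.commutator_le]
    intro a _ b _
    rw [MonoidHom.mem_ker, map_commutatorElement, commutatorElement_eq_one_iff_mul_comm]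
    apply Subtype.ext
    exact (Subgroup.mem_center_iff.1 (f b).2 _)
  rw [Subgroup.mem_center_iff]
  intro y
  have h2 : y ∈ f.ker := h1 (by rw [hp]; trivial)
  have h3 : z * y * z⁻¹ * y⁻¹ = 1 := congrArg Subtype.val (MonoidHom.mem_ker.1 h2)
  have h4 : z * y = y * z := by
    have h5 : z * y = (z * y * z⁻¹ * y⁻¹) * (y * z) := by group
    rw [h3, one_mul] at h5
    exact h5
  exact h4.symm

variable {K : Type} [Field K] [Fintype K] {q N : ℕ} {hK : Fintype.card K = q ^ 2} {hN : 3 ≤ N} {W : WFrame (PU hK N) 3}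
variable {F : Type u} [Field F] [Finite F] {ι : Type} [Fintype ι] [DecidableEq ι] {P : Subgroup (GL ι F)}
  {p : ℕ} [hp : Fact p.Prime] [hFp : CharP F p] [hKp : CharP K p] (hC : Core P)
  {hA : AmbT (toFrame W) p (modelSU hK hN W).I} {p0 : (toFrame W).Adm} (hp0 : p0.c ≠ 0)
  {φ : (modelSU hK hN W).I →* GL ι F}
  (C : Cov (CoxeterMatrix.B 3).toCoxeterSystem (isCartan 3) p (TB (modelSU hK hN W)) (NB hA p0)
        (XB (modelSU hK hN W)) P (MonoidHom.id (modelSU hK hN W).I) φ (NB hA p0))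
include hC C hp0

theorem mid_bound_seven (hT : ∀ s ∈ (TB (modelSU hK hN W)).comap (MonoidHom.id (modelSU hK hN W).I),
      ∀ t ∈ (TB (modelSU hK hN W)).comap (MonoidHom.id (modelSU hK hN W).I), s * t = t * s)
    (h1 : (1 : Fin 3) ∉ JB (modelSU hK hN W) p (MonoidHom.id (modelSU hK hN W).I) φ)
    (h0 : (0 : Fin 3) ∈ JB (modelSU hK hN W) p (MonoidHom.id (modelSU hK hN W).I) φ)
    {a f : ℕ} (hF : Nat.card F = p ^ a) (hq : q = p ^ f) (hs : Nat.gcd a f = f)
    {d : Fin N → K} (hd : hermForm N K q d d = 1) (hV0 : W.V0 = Submodule.span K {d}) {c : K} (hc : c * c ^ q = 1)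
    (hcN : c ^ N ≠ 1) (hker : φ.ker ≤ Subgroup.center _) (hperf : commutator ↥(modelSU hK hN W).I = ⊤) :
    15 ≤ Fintype.card ι := by
  have hWf : Finite (CoxeterMatrix.B 3).Group := TypeC.finite_W (CoxeterMatrix.B 3).toCoxeterSystem
  have := finite_GL (K := K) (ν := Fin N)
  have hne := hC.nonempty
  have hchar : CharP (AlgebraicClosure F) p := charP_of_injective_algebraMap (algebraMap F _).injective p
  obtain ⟨hirr, hD⟩ := irr_B hC C hT
  have hamb := amb_U hK W
  have hkind : Kind W := Or.inr ⟨d, hd, hV0⟩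
  have hdV : d ∈ (toFrame W).V0 := by
    change d ∈ W.V0
    rw [hV0]
    exact Submodule.mem_span_singleton_self d
  -- the element `z`
  obtain ⟨z₀, hz₀I, hz₀⟩ := exists_zed hK hd hc (by omega)
  have hz₀comm : ∀ g : (modelSU hK hN W).I, (∃ ν : K, (g : (Fin N → K) ≃ₗ[K] (Fin N → K)) d = ν • d) →
      (⟨z₀, hz₀I⟩ : (modelSU hK hN W).I) * g = g * ⟨z₀, hz₀I⟩ := by
    rintro g ⟨ν, hν⟩
    exact Subtype.ext (zed_comm hK hd hz₀ g.2 hν)
  obtain ⟨z, hz⟩ : ∃ z : (modelSU hK hN W).I, z = ⟨z₀, hz₀I⟩ := ⟨_, rfl⟩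
  rw [← hz] at hz₀comm
  have hzT : z ∈ (TB (modelSU hK hN W)).comap (MonoidHom.id (modelSU hK hN W).I) := by
    rw [hz]
    change z₀ ∈ Tor (toFrame W) (modelSU hK hN W).I
    refine ⟨hz₀I, fun x => ⟨c, ?_, ?_⟩⟩
    · rintro rfl
      rw [zero_mul] at hc
      exact zero_ne_one hc
    · rw [hz₀]
      have h3 : hermForm N K q ((toFrame W).b x) d = 0 := (toFrame W).h0 x d hdV
      rw [h3, zero_smul, smul_zero, add_zero]
      rfl
  -- the first node
  have h01 : (⟨((0 : Fin 3) : ℕ) + 1, by norm_num⟩ : Fin 3) = 1 := rfl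
  obtain ⟨σ, hσ, N₀, hw⟩ := exists_ndI hp0 C (i := (0 : Fin 3)) (by norm_num) (by rw [h01]; decide)
  have hv : ∀ t x, ((σ (hh t) : (modelSU hK hN W).I) : (Fin N → K) ≃ₗ[K] (Fin N → K)) ((toFrame W).b x) =
      ev (HU hK N) 0 1 t x • (toFrame W).b x := by
    intro t x
    rw [hσ, phiS_b]
    rfl
  have hv0 : ∀ t, ∀ w ∈ (toFrame W).V0, ((σ (hh t) : (modelSU hK hN W).I) : (Fin N → K) ≃ₗ[K] (Fin N → K)) w = w := by
    intro t w hw
    rw [hσ, phiS_V0 _ _ hw]
  have hnorm : ∀ t : Kˣ, t ^ (q + 1) = 1 → (t : K) * (HU hK N).σ t = 1 := by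
    intro t ht
    have h1 := congrArg Units.val ht
    rw [Units.val_pow_eq_pow_val, pow_succ, Units.val_one, mul_comm] at h1
    exact h1
  have hm1 : Mono (toFrame W) ((NB hA p0 1 : (modelSU hK hN W).I) : (Fin N → K) ≃ₗ[K] (Fin N → K)) (sg 1) := mono_nn hp0 1
  have hm2 : Mono (toFrame W) ((NB hA p0 2 : (modelSU hK hN W).I) : (Fin N → K) ≃ₗ[K] (Fin N → K)) (sg 2) := mono_nn hp0 2
  have hm : Mono (toFrame W) ((NB hA p0 1 * NB hA p0 2 * NB hA p0 1 : (modelSU hK hN W).I) :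
      (Fin N → K) ≃ₗ[K] (Fin N → K)) (fun x => sg 1 (sg 2 (sg 1 x))) := (hm1.mul hm2).mul hm1
  have hrp : Rp (CoxeterMatrix.B 3).toCoxeterSystem C.rgd.nsys
      ((CoxeterMatrix.B 3).toCoxeterSystem.wordProd (Mid.wl 3)) (NB hA p0 1 * NB hA p0 2 * NB hA p0 1) := by
    have h2 := Mid.rp_gl C.rgd (Mid.wl 3)
    have h3 : Mid.gl (NB hA p0) (Mid.wl 3) = NB hA p0 1 * NB hA p0 2 * NB hA p0 1 := by
      simp [Mid.gl, Mid.wl, mul_assoc]
    rwa [h3] at h2
  -- the eigenspace
  obtain ⟨c0, hc0, hc00, χ, hχ⟩ := exists_chi C.rgd hirr hT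
  set E := Module.End.eigenspace (lin (acRep φ) z) (χ z) with hE
  have hDE : D (CoxeterMatrix.B 3).toCoxeterSystem (isCartan 3) (fun x => lft p (MonoidHom.id (modelSU hK hN W).I)
      (XB (modelSU hK hN W) x)) (lin (acRep φ)) ≤ E := by
    intro v hv
    obtain ⟨b, rfl⟩ := H650.Ppd.exists_smul_of_mem hD hc0 hc00 hv
    rw [hE, Module.End.mem_eigenspace_iff, map_smul, hχ z hzT, smul_comm]
  have hHE : Ivt (lin (acRep φ)) (Subgroup.centralizer {z}) E := by
    intro g hg v hv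
    rw [Subgroup.mem_centralizer_singleton_iff] at hg
    rw [hE, Module.End.mem_eigenspace_iff] at hv ⊢
    rw [← rho_mul, ← hg, rho_mul, hv, map_smul]
  have key : 14 ≤ Module.finrank (AlgebraicClosure F) E := by
    refine mid_bound_of C.rgd hirr hD h1 ?_ (H := Subgroup.centralizer {z}) ?_ ?_ ?_ ?_ hDE hHE
    · obtain ⟨g, hgd⟩ : ∃ g, g = NB hA p0 1 * NB hA p0 2 * NB hA p0 1 := ⟨_, rfl⟩
      rw [← hgd] at hm hrp ⊢
      have h4 := four_le_lrk C.rgd C.hGG hT C.range hC.absIrred N₀ hrp (Mid.hmin 3 0 rfl)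
        (Mid.hsep' h1 3 (by simp)) hw hK hF hq (s := 1) (by rw [one_mul]; exact hs) (fun t ht v hvD => by
          have e : g⁻¹ * σ (hh t) * g = σ (hh t) := by
            apply Subtype.ext
            refine eq_of_fix hamb (fun x => ?_) (fun w hw => ?_)
            · refine (conj_b (hv t) hm x).trans ?_
              rw [hv, ev_three (hnorm t ht)]
            · refine (conj_V0 hA g.2 (hv0 t) hm
                (ρ := fun x => sg 1 (sg 2 (sg 1 x))) (fun x => ?_) hw).trans (hv0 t w hw).symm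
              rw [sg_sg, sg_sg, sg_sg]
          rw [e]
          exact fix_node N₀ h0 _ hvD)
      rwa [pow_one] at h4
    · intro t ht
      rw [Subgroup.mem_centralizer_singleton_iff]
      exact hT _ ht _ hzT
    · intro x hx
      obtain ⟨t, rfl⟩ := (N₀.up _).1 hx
      rw [Subgroup.mem_centralizer_singleton_iff]
      refine (hz₀comm _ ⟨1, ?_⟩).symm
      rw [hσ, phiS_V0 _ _ hdV, one_smul]
    · intro x hx
      obtain ⟨t, rfl⟩ := (N₀.lo _).1 hx
      rw [Subgroup.mem_centralizer_singleton_iff]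
      refine (hz₀comm _ ⟨1, ?_⟩).symm
      rw [hσ, phiS_V0 _ _ hdV, one_smul]
    · intro i
      rw [Subgroup.mem_centralizer_singleton_iff]
      have hmi : Mono (toFrame W) ((NB hA p0 i : (modelSU hK hN W).I) : (Fin N → K) ≃ₗ[K] (Fin N → K)) (sg i) :=
        mono_nn hp0 i
      obtain ⟨ν, -, hν⟩ := exists_scal hkind (NB hA p0 i).2 hmi (ρ := sg i) (fun x => sg_sg _ _)
      exact (hz₀comm _ ⟨ν, hν d hdV⟩).symm
  -- the eigenspace is not everything
  have hlt : E < ⊤ := by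
    rw [lt_top_iff_ne_top]
    intro htop
    have hsc : ∀ v, lin (acRep φ) z v = χ z • v := by
      intro v
      have h3 : v ∈ E := by rw [htop]; trivial
      rwa [hE, Module.End.mem_eigenspace_iff] at h3
    have hcen : z ∈ Subgroup.center (modelSU hK hN W).I := by
      refine mem_center_of_perfect hperf fun y => hker ?_
      rw [MonoidHom.mem_ker]
      have h3 : φ (z * y) = φ (y * z) := by
        have h4 : lin (acRep φ) (z * y) = lin (acRep φ) (y * z) := by
          refine LinearMap.ext fun v => ?_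
          rw [rho_mul, rho_mul, hsc, hsc, map_smul]
        have h5 : acRep φ (z * y) = acRep φ (y * z) := Matrix.toLin'.injective h4
        rw [acRep_apply, acRep_apply] at h5
        apply Units.ext
        exact Matrix.map_injective (algebraMap F (AlgebraicClosure F)).injective h5
      have e : z * y * z⁻¹ * y⁻¹ = (z * y) * (y * z)⁻¹ := by group
      rw [e, map_mul, map_inv, h3, mul_inv_cancel]
    have h6 := zed_scalar hK hN hd hz₀ (fun g hg => by
      have h7 := (Subgroup.mem_center_iff.1 hcen) ⟨g, hg⟩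
      rw [hz] at h7
      exact (congrArg Subtype.val h7).symm)
    apply hcN
    have h8 : c = (c ^ (N - 1))⁻¹ := (sub_eq_zero.1 h6).symm
    have h9 : c ^ (N - 1) ≠ 0 := by
      refine pow_ne_zero _ ?_
      rintro rfl
      rw [zero_mul] at hc
      exact zero_ne_one hc
    calc c ^ N = c ^ (N - 1) * c := by rw [← pow_succ]; congr 1; omega
      _ = c ^ (N - 1) * (c ^ (N - 1))⁻¹ := by rw [← h8]
      _ = 1 := mul_inv_cancel₀ h9
  have h10 := Submodule.finrank_lt hlt.ne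
  rw [Module.finrank_fintype_fun_eq_card] at h10
  omega

end Cfsg.Agent.H312.EPU
end

-- part: H312/EPU/Low
section
/-!
# S3499 (VII), `PSU_d(q₀)`, `d ≥ 6`: types `B_3`, `B_4`, two nodes outside `J` (helper312)

The bounds of `H762.Ppd.Low` with one more vertex.
-/

set_option autoImplicit false
set_option linter.unusedSectionVars false
set_option linter.style.haveILetI false

namespace Cfsg.Agent.H312.EPU.Low

open CoxeterSystem Cfsg.Agent.ChevalleyStructure.CoxeterGeom Cfsg.Agent.Tits.Roots Cfsg.Agent.Tits.Core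
  Cfsg.Agent.Nodes.Reps Cfsg.Agent.Nodes.BNOf Cfsg.Agent.Nodes.Bruhat Cfsg.Agent.Nodes.TypeC
  Cfsg.Agent.Omega.CR Cfsg.Agent.H905.Md
open Cfsg.Agent.H905.DC (co cf co_wordProd)
open Cfsg.Agent.H650.Ppd (mf dim_ge_list dim_ge_list_two)

/-- vertices for the nodes `0, 1` -/
def l01 : List (List (Fin 3)) :=
  [[], [0], [1], [0, 1], [1, 0], [1, 2], [0, 1, 0], [0, 1, 2], [1, 0, 2], [1, 2, 1], [0, 1, 0, 2], [0, 1, 2, 1],
    [1, 0, 2, 1], [1, 2, 1, 0], [0, 1, 0, 2, 1]]

/-- vertices for the nodes `0, 2` -/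
def l02 : List (List (Fin 3)) :=
  [[], [0], [2], [0, 1], [0, 2], [2, 1], [0, 1, 2], [0, 2, 1], [2, 1, 0], [2, 1, 2], [0, 1, 2, 1], [0, 2, 1, 0],
    [0, 2, 1, 2], [2, 1, 0, 2], [0, 1, 2, 1, 0]]

theorem l01_nodup : (l01.map fun ω => (cf (A 3) 0 ω, cf (A 3) 1 ω)).Nodup := by decide +kernel

theorem l02_nodup : (l02.map fun ω => (cf (A 3) 0 ω, cf (A 3) 2 ω)).Nodup := by decide +kernel

variable {W Y : Type*} [Group W] [Group Y] {n : ℕ} {cs : CoxeterSystem (CoxeterMatrix.B n) W} {p : ℕ} {T : Subgroup Y}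
  {nn : Fin n → Y} {X : (Fin n → ℤ) → Subgroup Y} {k V : Type*} [Field k] [AddCommGroup V] [Module k V]
variable (R : RGD cs (isCartan n) p T nn X) [Finite Y] [Finite W] [Fact p.Prime] [CharP k p]
  {ρ : Y →* Module.End k V} [FiniteDimensional k V] [Nontrivial V]
  (hirr : ∀ L : Submodule k V, Ivt ρ (GG cs (isCartan n) T X) L → L = ⊥ ∨ L = ⊤)
include R hirr

theorem b3_01 (hn : n = 3) {i j : Fin n} (hi : (i : ℕ) = 0) (hj : (j : ℕ) = 1) (h1 : i ∉ Jx cs (isCartan n) X ρ)
    (h2 : j ∉ Jx cs (isCartan n) X ρ) : 15 * Module.finrank k (D cs (isCartan n) X ρ) ≤ Module.finrank k V := by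
  subst hn
  obtain rfl : i = 0 := Fin.ext hi
  obtain rfl : j = 1 := Fin.ext hj
  have := dim_ge_list_two R hirr h1 h2 (by decide) l01 [] [] l01_nodup (by simp) (by simp)
  simpa only [l01, _root_.ge_iff_le, _root_.Fin.isValue, _root_.List.length_cons, _root_.List.length_nil, _root_.zero_add, _root_.Nat.reduceAdd, _root_.MulZeroClass.zero_mul, _root_.add_zero] using this

theorem b3_02 (hn : n = 3) {i j : Fin n} (hi : (i : ℕ) = 0) (hj : (j : ℕ) = 2) (h1 : i ∉ Jx cs (isCartan n) X ρ)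
    (h2 : j ∉ Jx cs (isCartan n) X ρ) : 15 * Module.finrank k (D cs (isCartan n) X ρ) ≤ Module.finrank k V := by
  subst hn
  obtain rfl : i = 0 := Fin.ext hi
  obtain rfl : j = 2 := Fin.ext hj
  have := dim_ge_list_two R hirr h1 h2 (by decide) l02 [] [] l02_nodup (by simp) (by simp)
  simpa only [l02, _root_.ge_iff_le, _root_.Fin.isValue, _root_.List.length_cons, _root_.List.length_nil, _root_.zero_add, _root_.Nat.reduceAdd, _root_.MulZeroClass.zero_mul, _root_.add_zero] using this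

end Cfsg.Agent.H312.EPU.Low
end

-- part: H312/EPU/Num
section
/-!
# Numerics for the unitary row of S3499-VII13 (helper312)

* `aut_le` : `|Aut PSU_N(q)| ≤ q ^ (N ^ 2)`;
* `deg_bounds` : the bounds for the degree.
-/

set_option autoImplicit false

namespace Cfsg.Agent.H312.EPU

open Cfsg

theorem aut_le {K : Type*} [Field K] [Fintype K] {q N : ℕ} (hK : Fintype.card K = q ^ 2) (hN : 3 ≤ N)
    (h32 : ¬ (N = 3 ∧ q = 2)) : Nat.card (MulAut (Cfsg.PSU N K q)) ≤ q ^ (N ^ 2) := by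
  obtain ⟨p, f, hp, -, hqf, hf⟩ := LieClassical.HermBasic.exists_prime_pow hK
  have : Fact p.Prime := ⟨hp⟩
  have hf1 : 1 ≤ f := by omega
  rw [S0815.result p f hf1 hqf hK N hN h32]
  have h1 := H223.Bnd.H454.FinePsu.card_le hK (n := N) (by omega)
  have h2 : 2 * f ≤ q := by
    rw [hqf]
    exact (H762.Ppd.Ar.two_mul_le_pow hf1).trans (Nat.pow_le_pow_left hp.two_le f)
  have h3 : q ^ (N ^ 2) = q * q ^ (N ^ 2 - 1) := by
    rw [← pow_succ']
    congr 1
    have : 1 ≤ N ^ 2 := Nat.one_le_pow _ _ (by omega)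
    omega
  rw [h3]
  calc Nat.gcd N (q + 1) * (2 * f) * Nat.card (Cfsg.PSU N K q)
      = (2 * f) * (Nat.gcd N (q + 1) * Nat.card (Cfsg.PSU N K q)) := by ring
    _ ≤ q * q ^ (N ^ 2 - 1) := Nat.mul_le_mul h2 h1

theorem first_one {r n N ε : ℕ} (hr : 3 ≤ r) (hN : N ≤ 2 * r + 1) (hn : n ≤ 2 * N) (hε : 1 ≤ ε)
    (h : 2 * r + 2 * r * (r - 1) * ε ≤ n) : False := by
  obtain ⟨s, rfl⟩ := Nat.exists_eq_add_of_le hr
  have e1 : 3 + s - 1 = 2 + s := by omega
  rw [e1] at h
  have h5 : 2 * (3 + s) * (2 + s) * 1 ≤ 2 * (3 + s) * (2 + s) * ε := Nat.mul_le_mul_left _ hε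
  have h6 : 2 * (3 + s) * 2 ≤ 2 * (3 + s) * (2 + s) * 1 := by
    rw [mul_one]
    exact Nat.mul_le_mul_left _ (by omega)
  omega

end Cfsg.Agent.H312.EPU
end

-- part: H312/EPU/NatU
section
/-!
# `PSU_N(q)`, `N ≥ 6`, in its own characteristic and degree at most `2 N` (helper312)

**`ident_psu`** : `Core P`, `Soc P ≃ PSU_N(q)`, `N ≥ 6`, degree at least 13 and at most `2 N` for `|F| = q ^ 2`, less
than `2 j (N - 1)` for `|F| ^ j = q ^ 2`, `j ≥ 2`: `P` is `SU_N(K)` in its natural action.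
-/

set_option autoImplicit false
set_option linter.unusedSectionVars false
set_option linter.style.haveILetI false

namespace Cfsg.Agent.H312.EPU

open CoxeterSystem Cfsg.Agent.ChevalleyStructure.CoxeterGeom Cfsg.Agent.Tits.Roots Cfsg.Agent.Tits.Core
  Cfsg.Agent.Nodes.Reps Cfsg.Agent.Nodes.BNOf Cfsg.Agent.Nodes.Bruhat Cfsg.Agent.Nodes.RGDLib
open Cfsg.Agent.Nodes Cfsg.Agent.Nodes.WittRoot Cfsg.Agent.Nodes.WittRGD Cfsg.Agent.Nodes.WittAll Cfsg.Agent.Nodes.WittU
open Cfsg.Agent.Nodes.TypeC (isCartan)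
open Cfsg.Agent.LieClassical.HermBasic Cfsg.Agent.LieClassical.HermSiegel
open Cfsg.Agent.TitsThree.Siegel Cfsg.Agent.TitsThree.SiegelGen Cfsg.Agent.TitsThree.WittFrame Cfsg.Agent.TitsThree.FrameCN
  Cfsg.Agent.TitsThree.WBridge Cfsg.Agent.TitsThree.KSideU Cfsg.Agent.TitsThree.KSideUDesc Cfsg.Agent.TitsThree
open Cfsg.Agent.H915.LD Cfsg.Agent.H911 Cfsg.Agent.H905.Md Cfsg.Agent.H925.Nat Cfsg.Agent.Nodes.RGDLift
open Cfsg.Agent.H156.Ppd (Cov lrep exists_cov)
open Cfsg.Agent.Omega.CR Cfsg.Agent.Omega.FOne.Lift.Sd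
open Cfsg.Agent.H948.Ppd Cfsg.Agent.H762.Ppd
open Cfsg.Agent.H61.SUCross Cfsg.Agent.H48.NatSU
open Cfsg Cfsg.Geo
open scoped MatrixGroups Matrix

universe u v w

section cov

variable {K : Type} [Field K] [Fintype K] {q N n : ℕ} {hK : Fintype.card K = q ^ 2} {hN : 3 ≤ N} {W : WFrame (PU hK N) n}
  {F : Type u} [Field F] [Finite F] {ι : Type} [Fintype ι] [DecidableEq ι] {P : Subgroup (GL ι F)}
  {p : ℕ} [hp : Fact p.Prime] [hFp : CharP F p] [hKp : CharP K p]

/-- `H762.Ppd.exists_covSU'` with the kernel -/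
theorem exists_covSU (hC : Core P) (h32 : ¬ (N = 3 ∧ q = 2)) (hn : 0 < n)
    {hA : AmbT (toFrame W) p (modelSU hK hN W).I} {p0 : (toFrame W).Adm} (hp0 : p0.c ≠ 0)
    (e : Soc P ≃* PSU N K q) :
    ∃ φ₀ : SU N K q →* GL ι F, φ₀.range = P ∧ φ₀.ker ≤ Subgroup.center (SU N K q) ∧
      Cov (CoxeterMatrix.B n).toCoxeterSystem (isCartan n) p (TB (modelSU hK hN W)) (NB hA p0)
        (XB (modelSU hK hN W)) P (MonoidHom.id (modelSU hK hN W).I) (φ₀.comp (modelSU hK hN W).φ) (NB hA p0) := by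
  have hperf := perfect_I (hN := hN) (W := W) h32
  have hWf : Finite (CoxeterMatrix.B n).Group := TypeC.finite_W (CoxeterMatrix.B n).toCoxeterSystem
  have := finite_GL (K := K) (ν := Fin N)
  have R := rgdB hA hp0 (CoxeterMatrix.B n).toCoxeterSystem (M := modelSU hK hN W)
  have hG := genB hA hn hperf (CoxeterMatrix.B n).toCoxeterSystem
  obtain ⟨φ, hφ, hker', -⟩ := psu_cover p hK hN h32 hC.perfect e
  have hker : (MonoidHom.id (modelSU hK hN W).I).ker = ⊥ := by
    rw [MonoidHom.ker_eq_bot_iff]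
    exact fun _ _ h => h
  have h1 : (MonoidHom.id (modelSU hK hN W).I).ker ≤ Subgroup.center _ := by rw [hker]; exact bot_le
  have h2 : (Nat.card (MonoidHom.id (modelSU hK hN W).I).ker).Coprime p := by
    rw [hker, Subgroup.card_bot]; exact Nat.coprime_one_left _
  obtain ⟨n₁, hn₁, R₁, hG₁⟩ := H905.DC.exists_rgd_lift hperf h1 h2 Function.surjective_id R hG
  obtain rfl : n₁ = NB hA p0 := funext hn₁
  refine ⟨φ, hφ, hker', Function.surjective_id, h1, h2, hn₁, R₁, hG₁, ?_⟩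
  rw [MonoidHom.range_comp]
  have h3 : (modelSU hK hN W).φ.range = ⊤ := MonoidHom.range_eq_top.2 (ofRange K q N).surjective
  rw [h3, ← MonoidHom.range_eq_map, hφ]

theorem ker_comp {φ₀ : SU N K q →* GL ι F} (h : φ₀.ker ≤ Subgroup.center (SU N K q)) :
    (φ₀.comp (modelSU hK hN W).φ).ker ≤ Subgroup.center _ := by
  intro x hx
  have h1 : (modelSU hK hN W).φ x ∈ Subgroup.center (SU N K q) := h hx
  have hinj : Function.Injective (modelSU hK hN W).φ := (ofRange K q N).injective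
  rw [Subgroup.mem_center_iff] at h1 ⊢
  intro y
  apply hinj
  rw [map_mul, map_mul]
  exact h1 _

end cov

/-- an element of norm one with `c ^ 7 ≠ 1` -/
theorem exists_norm_one {K : Type} [Field K] [Fintype K] {q : ℕ} (hK : Fintype.card K = q ^ 2) :
    ∃ c : K, c * c ^ q = 1 ∧ c ^ 7 ≠ 1 := by
  have hq := two_le_q hK
  have h7 : ¬ (q + 1) ∣ 7 := by
    intro h
    rcases (Nat.dvd_prime (by norm_num)).1 h with h1 | h1
    · omega
    · obtain rfl : q = 6 := by omega
      obtain ⟨p, k, hp, -, hk, hk0⟩ := exists_prime_pow hK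
      have h2 : 2 ∣ p ^ k := by rw [← hk]; norm_num
      have h3 : 3 ∣ p ^ k := by rw [← hk]; norm_num
      have h4 := (Nat.prime_dvd_prime_iff_eq Nat.prime_two hp).1 (Nat.prime_two.dvd_of_dvd_pow h2)
      have h5 := (Nat.prime_dvd_prime_iff_eq Nat.prime_three hp).1 (Nat.prime_three.dvd_of_dvd_pow h3)
      omega
  have hc : Nat.card Kˣ = (q - 1) * (q + 1) := by
    rw [Nat.card_units, Nat.card_eq_fintype_card, hK]
    obtain ⟨t, rfl⟩ := Nat.exists_eq_add_of_le hq
    have e1 : 2 + t - 1 = t + 1 := by omega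
    have e2 : (2 + t) ^ 2 = (t + 1) * (2 + t + 1) + 1 := by ring
    rw [e1, e2, Nat.add_sub_cancel]
  obtain ⟨g, hg⟩ := IsCyclic.exists_generator (α := Kˣ)
  have hg' : orderOf g = (q - 1) * (q + 1) := by rw [orderOf_eq_card_of_forall_mem_zpowers hg, hc]
  have hg2 : orderOf (g ^ (q - 1)) = q + 1 := by
    rw [orderOf_pow, hg', Nat.gcd_eq_right (Dvd.intro _ rfl), Nat.mul_div_cancel_left _ (by omega)]
  refine ⟨((g ^ (q - 1) : Kˣ) : K), ?_, ?_⟩
  · have h1 : (g ^ (q - 1)) ^ (q + 1) = 1 := by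
      rw [← hg2]
      exact pow_orderOf_eq_one _
    have h2 := congrArg Units.val h1
    rw [Units.val_pow_eq_pow_val, Units.val_one, pow_succ'] at h2
    exact h2
  · intro h
    apply h7
    rw [← hg2]
    apply orderOf_dvd_of_pow_eq_one
    apply Units.ext
    rw [Units.val_pow_eq_pow_val, Units.val_one]
    exact h

section main

variable {ι : Type} [Fintype ι] [DecidableEq ι] {F : Type u} [Field F] [Finite F] {P : Subgroup (GL ι F)}
  {K : Type} [Field K] [Fintype K] {N q : ℕ} (p : ℕ) [hp : Fact p.Prime] [hFp : CharP F p] [hKp : CharP K p]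
include hp hFp hKp

end main

end Cfsg.Agent.H312.EPU
end

-- part: H312/EPU/NumC
section
/-!
# Numerics for the unitary row of S3499-VII13, general exponent (helper312)

* `DegOK N n j` : the degree bounds which are used;
* `degOK` : they follow from `|F| ^ (n (n - 1) / 2) ≤ 8 |Q|`, `|Q| ≤ |A| ^ c`, `|A| ≤ q ^ (N ^ 2)`.
-/

set_option autoImplicit false

namespace Cfsg.Agent.H312.EPU

open Cfsg

/-- the degree bound for the rank `r ≥ 4` -/
def TT (r : ℕ) : ℕ := if r = 4 then 21 else if r = 5 then 26 else 2 * r * (r - 1)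

theorem TT_four : TT 4 = 21 := rfl

theorem TT_five : TT 5 = 26 := rfl

theorem TT_six {r : ℕ} (h : 6 ≤ r) : TT r = 2 * r * (r - 1) := by
  unfold TT
  rw [if_neg (by omega), if_neg (by omega)]

/-- the degree bounds -/
structure DegOK (N n j : ℕ) : Prop where
  one : N ≤ 7 → j = 1 → n ≤ 2 * N
  two : N ≤ 7 → 2 ≤ j → n < 2 * (j * (N - 1))
  big : 8 ≤ N → n < j * TT (N / 2)
  four : N / 2 = 4 → j = 2 → n < 40

theorem choose_pow_ge {n k : ℕ} (hk : 2 ≤ k) (h : k < n) : 2 * n * (n - 1) ≤ n.choose k * 2 ^ k := by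
  induction n generalizing k with
  | zero => omega
  | succ n ih =>
    have h3 : 3 ≤ n + 1 := by omega
    rw [Nat.add_sub_cancel]
    obtain ⟨m, rfl⟩ : ∃ m, n = m + 2 := ⟨n - 2, by omega⟩
    rcases Nat.lt_or_ge 2 k with h2 | h2
    · obtain ⟨k, rfl⟩ : ∃ l, k = l + 1 := ⟨k - 1, by omega⟩
      rw [Nat.choose_succ_succ, Nat.succ_eq_add_one]
      rcases Nat.lt_or_ge (k + 1) (m + 2) with h4 | h4
      · have h5 := ih (k := k) (by omega) (by omega)
        have h6 := ih (k := k + 1) (by omega) h4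
        have e1 : m + 2 - 1 = m + 1 := by omega
        rw [e1] at h5 h6
        have e2 : ((m + 2).choose k + (m + 2).choose (k + 1)) * 2 ^ (k + 1) =
            2 * ((m + 2).choose k * 2 ^ k) + (m + 2).choose (k + 1) * 2 ^ (k + 1) := by
          rw [pow_succ]; ring
        rw [e2]
        nlinarith only [h5, h6]
      · have hkm : k = m + 1 := by omega
        subst hkm
        have e3 : (m + 2).choose (m + 1) = m + 2 := Nat.choose_succ_self_right (m + 1)
        have e4 : (m + 1 + 1 : ℕ) = m + 2 := rfl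
        rw [e4, Nat.choose_self, e3]
        have h5 := H762.Ppd.Ar.two_mul_le_pow (j := m + 2) (by omega)
        nlinarith only [h5]
    · obtain rfl : k = 2 := by omega
      have h6 : (m + 2 + 1).choose 2 * 2 = (m + 2 + 1) * (m + 2) := by
        rw [Nat.choose_two_right, Nat.add_sub_cancel]
        exact Nat.div_mul_cancel (by
          have := (Nat.even_mul_pred_self (m + 2 + 1)).two_dvd
          rwa [Nat.add_sub_cancel] at this)
      have : (m + 2 + 1).choose 2 * 2 ^ 2 = 2 * ((m + 2 + 1).choose 2 * 2) := by ring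
      rw [this, h6]
      linarith only []

theorem TT_le {r : ℕ} (h : 4 ≤ r) : TT r ≤ 2 * r * (r - 1) := by
  rcases Nat.lt_or_ge r 6 with h1 | h1
  · obtain rfl | rfl : r = 4 ∨ r = 5 := by omega
    · decide
    · decide
  · exact (TT_six h1).le

theorem TT_le_choose {r k : ℕ} (h : 4 ≤ r) (hk : 2 ≤ k) (h' : k < r) : TT r ≤ r.choose k * 2 ^ k :=
  (TT_le h).trans (choose_pow_ge hk h')

theorem sq_le_pow {r : ℕ} (h : 6 ≤ r) : 2 * r * (r - 1) ≤ 2 ^ r := by
  induction r, h using Nat.le_induction with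
  | base => norm_num
  | succ r hr ih =>
    rw [pow_succ, Nat.add_sub_cancel]
    obtain ⟨t, rfl⟩ := Nat.exists_eq_add_of_le hr
    have e : 6 + t - 1 = 5 + t := by omega
    rw [e] at ih
    nlinarith only [ih]

theorem TT_le_pow {r : ℕ} (h : 5 ≤ r) : TT r ≤ 2 ^ r := by
  rcases Nat.lt_or_ge r 6 with h1 | h1
  · obtain rfl : r = 5 := by omega
    decide
  · rw [TT_six h1]
    exact sq_le_pow h1

theorem TT_le_last {r : ℕ} (h : 5 ≤ r) : TT r ≤ 10 * 2 ^ (r - 3) := by
  have h1 := TT_le_pow h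
  have h2 : 2 ^ r = 8 * 2 ^ (r - 3) := by
    have : 8 = 2 ^ 3 := by norm_num
    rw [this, ← pow_add]
    congr 1
    omega
  omega

/-- the middle nodes -/
theorem mid_c {r j n d i N : ℕ} (hr : 4 ≤ r) (hN : N / 2 = r) (h : DegOK N n j)
    (hd : ∃ m, 2 ≤ m ∧ d = m ^ j) (hj : 1 ≤ j) (hi : 1 ≤ i) (hi' : i + 1 < r)
    (h' : (r.choose (i + 1) * 2 ^ (i + 1)) * d ≤ 2 * n) : False := by
  have h1 := H762.Ppd.Ar.le_pow hd
  have h2 := H762.Ppd.Ar.two_mul_le_pow hj
  have h3 := TT_le_choose hr (by omega : 2 ≤ i + 1) hi'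
  have h4 : TT r * (2 * j) ≤ 2 * n := (Nat.mul_le_mul h3 (h2.trans h1)).trans h'
  have h5 := h.big (by omega)
  rw [hN] at h5
  linarith only [h4, h5]

/-- the first node -/
theorem first_c {r j n d ε N : ℕ} (hr : 3 ≤ r) (hN : N / 2 = r) (h : DegOK N n j)
    (hd : ∃ m, 2 ≤ m ∧ d = m ^ j) (hj : 1 ≤ j) (hε : d ≤ ε + 2) (h' : 2 * r + 2 * r * (r - 1) * ε ≤ n) :
    j = 1 ∧ d ≤ 2 := by
  rcases Nat.lt_or_ge 3 r with hr4 | hr4
  · by_contra hcon
    have h1 := H762.Ppd.Ar.le_pow hd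
    have h2 := H762.Ppd.Ar.two_mul_le_pow hj
    have h3 : j ≤ ε := by
      rcases Nat.lt_or_ge 1 j with h3 | h3
      · omega
      · have h4 : j = 1 := by omega
        by_contra h5
        exact hcon ⟨h4, by omega⟩
    have h4 := h.big (by omega)
    rw [hN] at h4
    have h5 : j * TT r ≤ 2 * r * (r - 1) * ε := by
      rw [mul_comm]
      exact Nat.mul_le_mul (TT_le (by omega)) h3
    omega
  · obtain rfl : r = 3 := by omega
    rcases Nat.lt_or_ge 1 j with h3 | h3
    · exact H762.Ppd.Ar.first hr hj ((h.two (by omega) h3).trans_le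
        (Nat.mul_le_mul_left _ (Nat.mul_le_mul_left _ (by omega)))) hd hε h'
    · obtain rfl : j = 1 := by omega
      refine ⟨rfl, ?_⟩
      by_contra hd2
      exact first_one hr (by omega) (h.one (by omega) rfl) (by omega) h'

/-- the last node -/
theorem last_c {r j n s N : ℕ} (hr : 3 ≤ r) (hN : N / 2 = r) (h : DegOK N n j) (hj : 1 ≤ j) (hs : j ≤ 2 * s)
    (h' : 2 ^ (r - 3) * (2 + 2 * (3 + 3 * (4 ^ s - 2))) ≤ n) : r = 3 ∧ N = 7 ∧ j = 2 := by
  have h4 : 2 ^ j ≤ 4 ^ s := by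
    calc 2 ^ j ≤ 2 ^ (2 * s) := Nat.pow_le_pow_right (by norm_num) hs
      _ = 4 ^ s := by rw [pow_mul]; norm_num
  have h4' : 4 ≤ 4 ^ s := by
    calc 4 = 4 ^ 1 := by norm_num
      _ ≤ 4 ^ s := Nat.pow_le_pow_right (by norm_num) (by omega)
  have h10 : 10 * j ≤ 2 + 2 * (3 + 3 * (4 ^ s - 2)) := by
    rcases Nat.lt_or_ge 2 j with h3 | h3
    · have h5 := H762.Ppd.Ar.pow_ge h3
      omega
    · omega
  rcases Nat.lt_or_ge 3 r with hr4 | hr4
  · exfalso
    have h5 := h.big (by omega)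
    rw [hN] at h5
    have h6 : 2 ^ (r - 3) * (10 * j) ≤ n := (Nat.mul_le_mul_left _ h10).trans h'
    rcases Nat.lt_or_ge 4 r with hr5 | hr5
    · have h7 := TT_le_last hr5
      nlinarith only [h5, h6, h7]
    · obtain rfl : r = 4 := by omega
      rw [TT_four] at h5
      have e : 2 ^ (4 - 3) = 2 := rfl
      rw [e] at h'
      rcases Nat.lt_or_ge 2 j with h3 | h3
      · have h7 := H762.Ppd.Ar.pow_ge h3
        omega
      · obtain rfl | rfl : j = 1 ∨ j = 2 := by (clear * - h5 h3; omega)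
        · omega
        · have h8 := h.four hN rfl
          omega
  · obtain rfl : r = 3 := by omega
    have hN' : N = 6 ∨ N = 7 := by omega
    rcases Nat.lt_or_ge 1 j with h3 | h3
    · obtain ⟨h6, h7, h8⟩ := H762.Ppd.Ar.last (No := 2 * ((N - 1) / 2) + 1) (r := 3) le_rfl hj (by omega)
        ((h.two (by omega) h3).trans_le (Nat.mul_le_mul_left _ (Nat.mul_le_mul_left _ (by omega)))) hs h'
      exact ⟨rfl, by omega, h8⟩
    · obtain rfl : j = 1 := by omega
      have h5 := h.one (by omega) rfl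
      have e : 2 ^ (3 - 3) = 1 := rfl
      rw [e] at h'
      (clear * - h4' hN h' h5; omega)

theorem TT_sq {r c N : ℕ} (hr : 4 ≤ r) (hN : N / 2 = r) (h8 : c ≤ 5 ∨ (12 ≤ N ∧ c ≤ N)) :
    c * N ^ 2 + 6 < TT r * (TT r - 1) := by
  rcases Nat.lt_or_ge r 6 with h1 | h1
  · have hc : c ≤ 5 := by omega
    obtain rfl | rfl : r = 4 ∨ r = 5 := by omega
    · rw [TT_four]
      obtain rfl | rfl : N = 8 ∨ N = 9 := by omega
      · omega
      · omega
    · rw [TT_five]
      obtain rfl | rfl : N = 10 ∨ N = 11 := by omega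
      · omega
      · omega
  · have hc : c ≤ N := by omega
    have h2 : c * N ^ 2 ≤ (2 * r + 1) * (2 * r + 1) ^ 2 :=
      Nat.mul_le_mul (by omega) (Nat.pow_le_pow_left (by omega) 2)
    rw [TT_six h1]
    obtain ⟨t, rfl⟩ := Nat.exists_eq_add_of_le h1
    have e1 : 6 + t - 1 = 5 + t := by omega
    rw [e1]
    obtain ⟨s, hs⟩ : ∃ s, 2 * (6 + t) * (5 + t) = s + 1 := ⟨2 * (6 + t) * (5 + t) - 1, by
      have : 0 < 2 * (6 + t) * (5 + t) := by positivity
      omega⟩
    have h3 : 2 * (6 + t) * (5 + t) - 1 = s := by omega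
    rw [h3]
    have h4 : 59 + 22 * t ≤ s := by nlinarith only [hs]
    have h5 : (2 * (6 + t) * (5 + t)) * (59 + 22 * t) ≤ 2 * (6 + t) * (5 + t) * s := Nat.mul_le_mul_left _ h4
    refine lt_of_lt_of_le ?_ h5
    refine lt_of_le_of_lt (Nat.add_le_add_right h2 6) ?_
    linarith only [mul_nonneg (Nat.zero_le t) (Nat.zero_le t), mul_nonneg (mul_nonneg (Nat.zero_le t) (Nat.zero_le t)) (Nat.zero_le t)]

theorem degOK {Φ q j n N X A c : ℕ} (hΦ : 2 ≤ Φ) (hj : 1 ≤ j) (hjq : Φ ^ j = q ^ 2)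
    (ho : Φ ^ (n * (n - 1) / 2) ≤ 8 * X) (hUB : X ≤ A ^ c) (hA : A ≤ q ^ (N ^ 2)) (hN : 6 ≤ N)
    (h7 : N ≤ 7 → c ≤ 4) (h8 : 8 ≤ N → c ≤ 5 ∨ (12 ≤ N ∧ c ≤ N)) : DegOK N n j := by
  have h1 : Φ ^ (n * (n - 1)) ≤ Φ ^ (j * c * N ^ 2 + 6) := by
    have h3 : n * (n - 1) / 2 * 2 = n * (n - 1) := Nat.div_mul_cancel (Nat.even_mul_pred_self n).two_dvd
    calc Φ ^ (n * (n - 1)) = (Φ ^ (n * (n - 1) / 2)) ^ 2 := by rw [← pow_mul, h3]
      _ ≤ (8 * (q ^ (N ^ 2)) ^ c) ^ 2 := Nat.pow_le_pow_left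
          (ho.trans (Nat.mul_le_mul_left _ (hUB.trans (Nat.pow_le_pow_left hA c)))) 2
      _ = 64 * Φ ^ (j * c * N ^ 2) := by
          have e : j * c * N ^ 2 = j * (c * N ^ 2) := by ring
          have e' : N ^ 2 * c * 2 = 2 * (c * N ^ 2) := by ring
          rw [mul_pow, ← pow_mul q, ← pow_mul q, e, pow_mul Φ, hjq, ← pow_mul, e']
          norm_num
      _ ≤ Φ ^ (j * c * N ^ 2 + 6) := by
          rw [pow_add, mul_comm]
          exact Nat.mul_le_mul_left _ (by
            calc 64 = 2 ^ 6 := by norm_num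
              _ ≤ Φ ^ 6 := Nat.pow_le_pow_left hΦ 6)
  have h2 : n * (n - 1) ≤ j * c * N ^ 2 + 6 := (Nat.pow_le_pow_iff_right (by omega)).1 h1
  have hq1 : 1 ≤ q := by
    rcases Nat.eq_zero_or_pos q with h | h
    · rw [h] at hjq
      have : 0 < Φ ^ j := Nat.pow_pos (by omega)
      rw [hjq] at this
      simp at this
    · exact h
  have h4 : N ≤ 7 → n * (n - 1) ≤ 4 * j * N ^ 2 + 6 := by
    intro h
    refine h2.trans (Nat.add_le_add_right (Nat.mul_le_mul_right _ ?_) _)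
    rw [mul_comm 4 j]
    exact Nat.mul_le_mul_left _ (h7 h)
  refine ⟨?_, ?_, ?_, ?_⟩
  · rintro hN7 rfl
    have h4 := h4 hN7
    by_contra hcon
    have h5 : (2 * N + 1) * (2 * N) ≤ n * (n - 1) := Nat.mul_le_mul (by omega) (by omega)
    linarith only [hN, h4, h5]
  · intro hN7 hj2
    have h4 := h4 hN7
    by_contra hcon
    obtain ⟨i, rfl⟩ := Nat.exists_eq_add_of_le hj2
    obtain rfl | rfl : N = 6 ∨ N = 7 := by omega
    · have h5 : (20 + 10 * i) * (19 + 10 * i) ≤ n * (n - 1) := Nat.mul_le_mul (by omega) (by omega)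
      nlinarith only [h4, h5]
    · have h5 : (24 + 12 * i) * (23 + 12 * i) ≤ n * (n - 1) := Nat.mul_le_mul (by omega) (by omega)
      nlinarith only [h4, h5]
  · intro hN8
    have h5 := TT_sq (r := N / 2) (c := c) (N := N) (by omega) rfl (h8 hN8)
    set T := TT (N / 2) with hT
    by_contra hcon
    have hcon' : j * T ≤ n := by omega
    have h6 : (j * T) * (j * T - 1) ≤ n * (n - 1) := Nat.mul_le_mul hcon' (by omega)
    have h7 : T * 1 ≤ T * j := Nat.mul_le_mul_left _ hj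
    have h7' : T ≤ j * T := by rw [mul_comm]; omega
    have h8 : j * (T * (T - 1)) ≤ (j * T) * (j * T - 1) := by
      rw [← mul_assoc]
      exact Nat.mul_le_mul_left _ (by omega)
    have h9 : j * (c * N ^ 2 + 6 + 1) ≤ j * (T * (T - 1)) := Nat.mul_le_mul_left _ h5
    have h10 : j * (c * N ^ 2 + 6 + 1) = j * c * N ^ 2 + 7 * j := by ring
    omega
  · rintro hN4 rfl
    have hc : c ≤ 5 := by
      rcases h8 (by omega) with h | h
      · exact h
      · omega
    have h5 : 2 * c * N ^ 2 ≤ 10 * 81 := Nat.mul_le_mul (by omega) (by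
      calc N ^ 2 ≤ 9 ^ 2 := Nat.pow_le_pow_left (by omega) 2
        _ = 81 := by norm_num)
    by_contra hcon
    have h6 : 40 * 39 ≤ n * (n - 1) := Nat.mul_le_mul (by omega) (by omega)
    omega

end Cfsg.Agent.H312.EPU
end

-- part: H312/EPU/LowC
section
/-!
# Type `B_4`, the nodes `0` and `3` outside `J`: 24 vertices (helper312)
-/

set_option autoImplicit false
set_option linter.unusedSectionVars false
set_option linter.style.haveILetI false

namespace Cfsg.Agent.H312.EPU.Low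

open CoxeterSystem Cfsg.Agent.ChevalleyStructure.CoxeterGeom Cfsg.Agent.Tits.Roots Cfsg.Agent.Tits.Core
  Cfsg.Agent.Nodes.Reps Cfsg.Agent.Nodes.BNOf Cfsg.Agent.Nodes.Bruhat Cfsg.Agent.Nodes.TypeC
  Cfsg.Agent.Omega.CR Cfsg.Agent.H905.Md
open Cfsg.Agent.H905.DC (co cf co_wordProd)
open Cfsg.Agent.H650.Ppd (mf dim_ge_list dim_ge_list_two)

/-- vertices for the nodes `0, 3` -/
def l03c : List (List (Fin 4)) :=
  [[], [0], [3], [0, 1], [0, 3], [3, 2], [0, 1, 2], [0, 1, 3], [0, 3, 2], [3, 2, 1], [3, 2, 3], [0, 1, 2, 3],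
    [0, 1, 3, 2], [0, 3, 2, 1], [0, 3, 2, 3], [3, 2, 1, 0], [3, 2, 1, 3], [0, 1, 2, 3, 2], [0, 1, 3, 2, 1],
    [0, 1, 3, 2, 3], [0, 3, 2, 1, 0], [0, 3, 2, 1, 3], [3, 2, 1, 0, 3], [3, 2, 1, 3, 2]]

theorem l03c_nodup : (l03c.map fun ω => (cf (A 4) 0 ω, cf (A 4) 3 ω)).Nodup := by decide +kernel

variable {W Y : Type*} [Group W] [Group Y] {n : ℕ} {cs : CoxeterSystem (CoxeterMatrix.B n) W} {p : ℕ} {T : Subgroup Y}
  {nn : Fin n → Y} {X : (Fin n → ℤ) → Subgroup Y} {k V : Type*} [Field k] [AddCommGroup V] [Module k V]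
variable (R : RGD cs (isCartan n) p T nn X) [Finite Y] [Finite W] [Fact p.Prime] [CharP k p]
  {ρ : Y →* Module.End k V} [FiniteDimensional k V] [Nontrivial V]
  (hirr : ∀ L : Submodule k V, Ivt ρ (GG cs (isCartan n) T X) L → L = ⊥ ∨ L = ⊤)
include R hirr

theorem b4_03c (hn : n = 4) {i j : Fin n} (hi : (i : ℕ) = 0) (hj : (j : ℕ) = 3) (h1 : i ∉ Jx cs (isCartan n) X ρ)
    (h2 : j ∉ Jx cs (isCartan n) X ρ) : 24 * Module.finrank k (D cs (isCartan n) X ρ) ≤ Module.finrank k V := by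
  subst hn
  obtain rfl : i = 0 := Fin.ext hi
  obtain rfl : j = 3 := Fin.ext hj
  have := dim_ge_list_two R hirr h1 h2 (by decide) l03c [] [] l03c_nodup (by simp) (by simp)
  simpa only [l03c, _root_.ge_iff_le, _root_.Fin.isValue, _root_.List.length_cons, _root_.List.length_nil, _root_.zero_add, _root_.Nat.reduceAdd, _root_.MulZeroClass.zero_mul, _root_.add_zero] using this

end Cfsg.Agent.H312.EPU.Low
end

-- part: H312/EPU/Form
section
/-!
# The natural case of the unitary row of S3499-VII13 (helper312)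

* `form_of_ident` : if `P` is `SU_N(K)` up to an isomorphism of the fields and a change of the basis, `P` is the group of
  the isometries of determinant one of a unitary form;
* `no_unitary` : then `Big A Γ S P` is impossible.
-/

set_option autoImplicit false
set_option linter.unusedSectionVars false
set_option linter.style.haveILetI false

namespace Cfsg.Agent.H312.EPU

open Cfsg.Agent.LieClassical.HermBasic
open Cfsg.Agent.TitsThree Cfsg.Agent.TitsThree.KSideU Cfsg.Agent.TitsThree.KSideUDesc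
open Cfsg.Agent.H915.LD Cfsg.Agent.H925.Nat
open Cfsg.Agent.H762.Ppd
open Cfsg Cfsg.Geo Matrix
open scoped MatrixGroups Matrix

universe u v w

section main

variable {ι : Type} [Fintype ι] [DecidableEq ι] {F : Type u} [Field F] [Finite F] {P : Subgroup (GL ι F)}
  {K : Type} [Field K] [Fintype K] {q N : ℕ}

/-- **The natural case.** -/
theorem form_of_ident (hK : Fintype.card K = q ^ 2) (τ : K ≃+* F) (θ : (Fin N → F) ≃ₗ[F] (ι → F))
    (hθ : ∀ A : GL ι F, A ∈ P ↔ ∃ g : IU K q N, ∀ v, θ (((mt (IU K q N) g).map (τ : K →+* F)) *ᵥ v) =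
      (A : Matrix ι ι F) *ᵥ θ v) :
    ∃ (σ : F ≃+* F) (f : (ι → F) → (ι → F) → F), IsUnitaryForm σ f ∧ FixesForm (matrixSet P) f ∧
      ∀ A : GL ι F, FixesForm {(A : Matrix ι ι F)} f → Matrix.GeneralLinearGroup.det A = 1 → A ∈ P := by
  have := Fintype.ofFinite F
  have hF : Fintype.card F = q ^ 2 := by rw [← hK]; exact Fintype.card_congr τ.symm.toEquiv
  have hf := H930.hermForm_isUnitaryFormPow hF N
  refine ⟨conjE hF, fun u v => hermForm N F q (θ.symm u) (θ.symm v), ⟨conjE_ne hF, fun a => ?_, fun x y v => ?_,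
    fun c x v => ?_, fun v w => ?_, ?_⟩, ?_, ?_⟩
  · rw [conjE_apply, conjE_apply, pow_q_pow_q hF]
  · change hermForm N F q (θ.symm (x + y)) _ = _
    rw [map_add, hf.add_left]
  · change hermForm N F q (θ.symm (c • x)) _ = _
    rw [map_smul, hf.smul_left]
  · rw [conjE_apply]
    exact hf.herm _ _
  · intro v hv
    obtain ⟨⟨x, hx⟩, ⟨y, hy⟩⟩ := hf.nondegenerate (θ.symm v) fun h0 => hv ((LinearEquiv.map_eq_zero_iff θ.symm).1 h0)
    refine ⟨⟨θ x, ?_⟩, ⟨θ y, ?_⟩⟩
    · dsimp only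
      rw [LinearEquiv.symm_apply_apply]
      exact hx
    · dsimp only
      rw [LinearEquiv.symm_apply_apply]
      exact hy
  · rintro _ ⟨A, hA, rfl⟩ u v
    obtain ⟨⟨g, x, rfl⟩, hg⟩ := (hθ A).1 hA
    have hmt : mt (IU K q N) ⟨toLin K q N x, x, rfl⟩ = (x.1 : Matrix (Fin N) (Fin N) K) := by
      apply Matrix.toLin'.injective
      refine LinearMap.ext fun v => ?_
      rw [Matrix.toLin'_apply, Matrix.toLin'_apply, mt_mulVec]
      rfl
    have key : ∀ w : ι → F, θ.symm ((A : Matrix ι ι F) *ᵥ w) =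
        fun i => τ (((x.1 : Matrix (Fin N) (Fin N) K) *ᵥ (fun i => τ.symm (θ.symm w i))) i) := by
      intro w
      have h1 := hg (θ.symm w)
      rw [LinearEquiv.apply_symm_apply] at h1
      rw [← h1, LinearEquiv.symm_apply_apply]
      change ((mt (IU K q N) ⟨toLin K q N x, x, rfl⟩).map (τ : K →+* F)) *ᵥ θ.symm w = _
      rw [hmt]
      funext i
      have h2 := RingHom.map_mulVec (τ : K →+* F) (x.1 : Matrix (Fin N) (Fin N) K)
        (fun i => τ.symm (θ.symm w i)) i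
      refine Eq.trans ?_ h2.symm
      congr 2
      funext j
      exact (τ.apply_symm_apply _).symm
    change hermForm N F q (θ.symm ((A : Matrix ι ι F) *ᵥ u)) (θ.symm ((A : Matrix ι ι F) *ᵥ v)) =
      hermForm N F q (θ.symm u) (θ.symm v)
    have hx : ∀ a b, hermForm N K q ((x.1 : Matrix (Fin N) (Fin N) K) *ᵥ a)
        ((x.1 : Matrix (Fin N) (Fin N) K) *ᵥ b) = hermForm N K q a b := x.2
    rw [key, key, herm_map τ, hx, ← herm_map τ]
    congr 1 <;> funext i <;> exact τ.apply_symm_apply _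
  · intro A hA hdet
    rw [hθ]
    -- the matrix on `F^N`
    let B : Matrix (Fin N) (Fin N) F := LinearMap.toMatrix'
      ((θ.symm : (ι → F) →ₗ[F] (Fin N → F)) ∘ₗ (Matrix.toLin' (A : Matrix ι ι F)) ∘ₗ
        (θ : (Fin N → F) →ₗ[F] (ι → F)))
    have hB : ∀ v, B *ᵥ v = θ.symm ((A : Matrix ι ι F) *ᵥ θ v) := by
      intro v
      rw [← Matrix.toLin'_apply, Matrix.toLin'_toMatrix']
      rfl
    have hBd : B.det = 1 := by
      have h1 : B.det = LinearMap.det ((θ.symm : (ι → F) →ₗ[F] (Fin N → F)) ∘ₗ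
          (Matrix.toLin' (A : Matrix ι ι F)) ∘ₗ (θ : (Fin N → F) →ₗ[F] (ι → F))) :=
        LinearMap.det_toMatrix' _
      have h2 := LinearMap.det_conj (Matrix.toLin' (A : Matrix ι ι F)) θ.symm
      rw [LinearEquiv.symm_symm] at h2
      rw [h1, h2, LinearMap.det_toLin']
      have h3 := congrArg Units.val hdet
      exact h3
    have hBf : ∀ u v, hermForm N F q (B *ᵥ u) (B *ᵥ v) = hermForm N F q u v := by
      intro u v
      have h1 := hA _ (Set.mem_singleton _) (θ u) (θ v)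
      simp only [LinearEquiv.symm_apply_apply] at h1
      rw [hB, hB, h1]
    -- the matrix over `K`
    let C : Matrix (Fin N) (Fin N) K := B.map τ.symm
    have hCB : C.map τ = B := by
      ext i j
      simp [C]
    have hCd : C.det = 1 := by
      have h1 : C.det = τ.symm B.det := by
        have := RingHom.map_det (τ.symm : F →+* K) B
        exact this.symm
      rw [h1, hBd, map_one]
    have hCv : ∀ v : Fin N → K, (fun i => τ ((C *ᵥ v) i)) = B *ᵥ (fun i => τ (v i)) := by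
      intro v
      rw [← hCB]
      funext i
      exact RingHom.map_mulVec (τ : K →+* F) C v i
    let g : SU N K q := ⟨⟨C, hCd⟩, fun u v => by
      change hermForm N K q (C *ᵥ u) (C *ᵥ v) = hermForm N K q u v
      apply τ.injective
      rw [← herm_map τ, ← herm_map τ, hCv, hCv, hBf]⟩
    refine ⟨⟨toLin K q N g, g, rfl⟩, fun v => ?_⟩
    have h1 : mt (IU K q N) ⟨toLin K q N g, g, rfl⟩ = C := by
      apply Matrix.toLin'.injective
      refine LinearMap.ext fun v => ?_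
      rw [Matrix.toLin'_apply, Matrix.toLin'_apply, mt_mulVec]
      rfl
    rw [h1]
    have h2 : C.map (τ : K →+* F) = B := hCB
    rw [h2, hB, LinearEquiv.apply_symm_apply]

end main

section big

open Cfsg.Agent.H419.EP Cfsg.Agent.H284 Cfsg.Agent.H914

variable {Q : Type} [Group Q] [Finite Q] {A : Subgroup Q} {Γ : Subgroup (MulAut Q)} {ι : Type} [Fintype ι]
    [DecidableEq ι] {F : Type} [Field F] [Fintype F] {S P : Subgroup (GL ι F)}

theorem sesq_of_unitary {σ : F ≃+* F} {f : (ι → F) → (ι → F) → F} (h : IsUnitaryForm σ f) : IsSesq σ f := by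
  refine ⟨h.add_left, h.smul_left, fun v x y => ?_, fun c v x => ?_⟩
  · rw [h.herm v (x + y), h.add_left, map_add, ← h.herm, ← h.herm]
  · rw [h.herm v (c • x), h.smul_left, map_mul, ← h.herm]

/-- **The natural module of a unitary group.** -/
theorem no_unitary (b : Big A Γ S P) {σ : F ≃+* F} {f : (ι → F) → (ι → F) → F} (h : IsUnitaryForm σ f)
    (hf : FixesForm (matrixSet P) f)
    (hP : ∀ x : GL ι F, FixesForm {(x : Matrix ι ι F)} f → Matrix.GeneralLinearGroup.det x = 1 → x ∈ P) :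
    False := by
  rcases b.kind with ⟨-, -, -, -, nu⟩ | ⟨f', -, -, -, -, -, nu⟩ | ⟨q, hq, σ', f', hf', hS, hSL, -, -, -⟩ |
    ⟨Qf, hQ, hS, -, nu⟩
  · exact nu ⟨σ, f, h, hf⟩
  · exact nu ⟨σ, f, h, hf⟩
  · obtain rfl : σ = σ' := H89.Cov.aut_unique h.ne_refl h.involutive hf'.ne_refl hf'.involutive
    obtain ⟨c, hc⟩ := sesq_unique b.core.absIrred (sesq_of_unitary hf') hf'.nondegenerate
      (fun s hs => hS s (by
        obtain ⟨x, hx, rfl⟩ := hs
        exact ⟨x, b.le_S hx, rfl⟩)) (sesq_of_unitary h) hf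
    apply H274.EPO.ne_S b
    apply le_antisymm b.le_S
    intro x hx
    refine hP x ?_ ?_
    · rintro _ rfl u v
      rw [hc, hc, hS _ ⟨x, hx, rfl⟩]
    · have := hSL hx
      simpa [Cfsg.Geo.specialLinear] using this
  · exact nu ⟨σ, f, h, hf⟩

end big

end Cfsg.Agent.H312.EPU
end

-- part: H312/EPU/RowC
section
/-!
# S3499-VII13, own characteristic, socle `PSU_d(q)`, `d ≥ 6`, general exponent (helper312)

* `ident_psu'` : `Core P`, `Soc P ≃ PSU_N(q)`, `N ≥ 6`, degree at least 13 and bounded by `DegOK`: `P` is `SU_N(K)` in its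
  natural action;
* **`own_psu_gen`** : with `|Q| ≤ |A| ^ c`, `c ≤ 4` for `d ≤ 7`, `c ≤ 5` or `12 ≤ d`, `c ≤ d` for `d ≥ 8`, the socle of
  `A` (`Big A Γ S P`) is not `PSU_d(K)`, `d ≥ 6`, `char K = char F`.
-/

set_option autoImplicit false
set_option linter.unusedSectionVars false
set_option linter.style.haveILetI false

namespace Cfsg.Agent.H312.EPU

open CoxeterSystem Cfsg.Agent.ChevalleyStructure.CoxeterGeom Cfsg.Agent.Tits.Roots Cfsg.Agent.Tits.Core
  Cfsg.Agent.Nodes.Reps Cfsg.Agent.Nodes.BNOf Cfsg.Agent.Nodes.Bruhat Cfsg.Agent.Nodes.RGDLib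
open Cfsg.Agent.Nodes Cfsg.Agent.Nodes.WittRoot Cfsg.Agent.Nodes.WittRGD Cfsg.Agent.Nodes.WittAll Cfsg.Agent.Nodes.WittU
open Cfsg.Agent.Nodes.TypeC (isCartan)
open Cfsg.Agent.LieClassical.HermBasic Cfsg.Agent.LieClassical.HermSiegel
open Cfsg.Agent.TitsThree.Siegel Cfsg.Agent.TitsThree.SiegelGen Cfsg.Agent.TitsThree.WittFrame Cfsg.Agent.TitsThree.FrameCN
  Cfsg.Agent.TitsThree.WBridge Cfsg.Agent.TitsThree.KSideU Cfsg.Agent.TitsThree.KSideUDesc Cfsg.Agent.TitsThree
open Cfsg.Agent.H915.LD Cfsg.Agent.H911 Cfsg.Agent.H905.Md Cfsg.Agent.H925.Nat Cfsg.Agent.Nodes.RGDLift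
open Cfsg.Agent.H156.Ppd (Cov lrep exists_cov)
open Cfsg.Agent.Omega.CR Cfsg.Agent.Omega.FOne.Lift.Sd
open Cfsg.Agent.H948.Ppd Cfsg.Agent.H762.Ppd
open Cfsg.Agent.H61.SUCross Cfsg.Agent.H48.NatSU
open Cfsg Cfsg.Geo
open scoped MatrixGroups Matrix

universe u v w

section main

variable {ι : Type} [Fintype ι] [DecidableEq ι] {F : Type u} [Field F] [Finite F] {P : Subgroup (GL ι F)}
  {K : Type} [Field K] [Fintype K] {N q : ℕ} (p : ℕ) [hp : Fact p.Prime] [hFp : CharP F p] [hKp : CharP K p]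
include hp hFp hKp

set_option maxHeartbeats 1600000 in
/-- **`PSU_N(q)`, `N ≥ 6`.** -/
theorem ident_psu' (hC : Core P) (hN : 6 ≤ N) (hK : Fintype.card K = q ^ 2) (e : Soc P ≃* PSU N K q)
    (h13 : 13 ≤ Fintype.card ι)
    (hn : ∀ j, 1 ≤ j → Nat.card F ^ j = q ^ 2 → DegOK N (Fintype.card ι) j) :
    ∃ (τ : K ≃+* F) (θ : (Fin N → F) ≃ₗ[F] (ι → F)), ∀ A : GL ι F,
      A ∈ P ↔ ∃ g : IU K q N, ∀ v, θ (((mt (IU K q N) g).map (τ : K →+* F)) *ᵥ v) = (A : Matrix ι ι F) *ᵥ θ v := by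
  have hN3 : 3 ≤ N := by omega
  obtain ⟨r, hr⟩ : ∃ r, N = 2 * r ∨ N = 2 * r + 1 := ⟨N / 2, by omega⟩
  have hr3 : 3 ≤ r := by omega
  have hNo : 2 * ((N - 1) / 2) + 1 = 2 * r - 1 ∨ 2 * ((N - 1) / 2) + 1 = 2 * r + 1 := by omega
  obtain ⟨W, hW, hW'⟩ : ∃ W : WFrame (PU hK N) r, Kind W ∧
      (N = 2 * r + 1 → ∃ d : Fin N → K, hermForm N K q d d = 1 ∧ W.V0 = Submodule.span K {d}) := by
    rcases hr with hr | hr
    · obtain ⟨W, hW⟩ := exists_wframe_even hK hr
      exact ⟨W, Or.inl hW, fun h => by omega⟩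
    · obtain ⟨W, d, hd, hW⟩ := exists_wframe_odd hK hr
      exact ⟨W, Or.inr ⟨d, hd, hW⟩, fun _ => ⟨d, hd, hW⟩⟩
  have hWf : Finite (CoxeterMatrix.B r).Group := TypeC.finite_W (CoxeterMatrix.B r).toCoxeterSystem
  have := finite_GL (K := K) (ν := Fin N)
  obtain ⟨p0, hp0, -⟩ := exists_adm hK W
  have hA : AmbT (toFrame W) p (modelSU hK hN3 W).I := AmbT.of_amb (amb_U hK W) p
  obtain ⟨φ₀, hφ₀, hker₀, C⟩ := exists_covSU (hN := hN3) (W := W) hC (by omega) (by omega) (hA := hA) hp0 e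
  have hT : ∀ s ∈ (TB (modelSU hK hN3 W)).comap (MonoidHom.id (modelSU hK hN3 W).I),
      ∀ t ∈ (TB (modelSU hK hN3 W)).comap (MonoidHom.id (modelSU hK hN3 W).I), s * t = t * s :=
    fun s hs t ht => comm_SU hW s hs t ht
  have hpow : ∀ t ∈ (TB (modelSU hK hN3 W)).comap (MonoidHom.id (modelSU hK hN3 W).I), t ^ Nat.card K = t :=
    fun t ht => pow_SU hW t ht
  -- the order of the field
  obtain ⟨c, -, hc⟩ := FiniteField.card K p
  rw [← Nat.card_eq_fintype_card] at hc
  obtain ⟨j, hj, hjK⟩ := C.exists_j hC hT (a := c) c.ne_zero (by rw [← hc]; exact hpow)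
  rw [← hc] at hjK
  have hjq : Nat.card F ^ j = q ^ 2 := by rw [hjK, Nat.card_eq_fintype_card, hK]
  have hdeg := hn j hj hjq
  have hNr : N / 2 = r := by (clear * - hr; omega)
  obtain ⟨hirr, hD⟩ := irr_B hC C hT
  have hne := hC.nonempty
  have hchar : CharP (AlgebraicClosure F) p := charP_of_injective_algebraMap (algebraMap F _).injective p
  -- the edges
  have hedge : ∀ i : Fin r, (i : ℕ) + 1 < r →
      i ∉ JB (modelSU hK hN3 W) p (MonoidHom.id (modelSU hK hN3 W).I) (φ₀.comp (modelSU hK hN3 W).φ) →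
      ∃ m, 2 ≤ m ∧ dB (modelSU hK hN3 W) p (MonoidHom.id (modelSU hK hN3 W).I) (φ₀.comp (modelSU hK hN3 W).φ) i = m ^ j := by
    intro i hi hiJ
    obtain ⟨σ, -, N₁, -⟩ := exists_ndI hp0 C hi (by
      intro e
      have := congrArg Fin.val e
      simp only at this
      omega)
    exact edge_pow_B hC C hT hiJ (⟨N₁.up, N₁.lo, N₁.tor⟩ : Nd _ _ i σ) hjK.symm
  by_cases hmid : ∃ i : Fin r, i ∉ JB (modelSU hK hN3 W) p (MonoidHom.id (modelSU hK hN3 W).I)
      (φ₀.comp (modelSU hK hN3 W).φ) ∧ 1 ≤ (i : ℕ) ∧ (i : ℕ) + 1 < r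
  · exfalso
    obtain ⟨i, hi, hi1, hi2⟩ := hmid
    have hd := hedge i hi2 hi
    have hb := bound_all hC C hT hi
    rcases Nat.lt_or_ge 3 r with hr4 | hr4
    · exact mid_c hr4 hNr hdeg hd hj hi1 hi2 hb
    · obtain rfl : r = 3 := by omega
      have hi1' : (i : ℕ) = 1 := by omega
      rw [hi1'] at hb
      have hb' : 12 * dB (modelSU hK hN3 W) p (MonoidHom.id (modelSU hK hN3 W).I) (φ₀.comp (modelSU hK hN3 W).φ) i ≤
          2 * Fintype.card ι := by
        have e1 : Nat.choose 3 (1 + 1) * 2 ^ (1 + 1) = 12 := by decide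
        rwa [e1] at hb
      have h3 := H762.Ppd.Low.b3_mid C.rgd hirr rfl hi1' hi
      have h4 := finrank_Io C.rgd hirr i
      rw [hD, Module.finrank_fintype_fun_eq_card, mul_one] at h3
      rw [hD] at h4
      -- `j = 1`
      have hj1 : j = 1 := by
        by_contra hj1
        have h5 := hdeg.two (by omega) (by omega)
        exact hj1 (Ar.mid_seven hj (h5.trans_le (Nat.mul_le_mul_left _ (Nat.mul_le_mul_left _ (by omega)))) hd hb' h4 h3)
      subst hj1
      have h6 := hdeg.one (by omega) rfl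
      rcases hr with hr | hr
      · omega
      · subst hr
        by_cases h0 : (0 : Fin 3) ∈ JB (modelSU hK hN3 W) p (MonoidHom.id (modelSU hK hN3 W).I)
          (φ₀.comp (modelSU hK hN3 W).φ)
        · obtain rfl : i = 1 := Fin.ext hi1'
          obtain ⟨p', f, hp', hch, hqf, hf⟩ := LieClassical.HermBasic.exists_prime_pow hK
          obtain rfl : p' = p := CharP.eq K hch ‹_›
          have hF : Nat.card F = p' ^ (2 * f) := by
            rw [← pow_one (Nat.card F), hjq, hqf, ← pow_mul, mul_comm]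
          obtain ⟨d, hd1, hV0⟩ := hW' rfl
          obtain ⟨c', hc1, hc2⟩ := exists_norm_one hK
          have h5 := mid_bound_seven hC hp0 C hT hi h0 hF hqf (Nat.gcd_eq_right (Dvd.intro_left 2 rfl)) hd1 hV0
            hc1 hc2 (ker_comp hker₀) (perfect_I (by omega))
          omega
        · have h5 := Low.b3_01 C.rgd hirr rfl (i := 0) (j := i) rfl hi1' h0 hi
          rw [hD, Module.finrank_fintype_fun_eq_card] at h5
          omega
  have hends : ∀ i : Fin r, i ∉ JB (modelSU hK hN3 W) p (MonoidHom.id (modelSU hK hN3 W).I)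
      (φ₀.comp (modelSU hK hN3 W).φ) → (i : ℕ) = 0 ∨ (i : ℕ) + 1 = r := by
    intro i hi
    by_contra hcon
    have := i.2
    exact hmid ⟨i, hi, by omega, by omega⟩
  by_cases h0 : (⟨0, by omega⟩ : Fin r) ∈ JB (modelSU hK hN3 W) p (MonoidHom.id (modelSU hK hN3 W).I)
      (φ₀.comp (modelSU hK hN3 W).φ)
  · -- the last node
    exfalso
    have hJ : ∀ i, i ∉ JB (modelSU hK hN3 W) p (MonoidHom.id (modelSU hK hN3 W).I)
        (φ₀.comp (modelSU hK hN3 W).φ) → i = ⟨r - 1, by omega⟩ := by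
      intro i hi
      rcases hends i hi with h1 | h1
      · exact absurd h0 (by
          have : i = ⟨0, by omega⟩ := Fin.ext h1
          rwa [this] at hi)
      · exact Fin.ext (by simp only; omega)
    obtain ⟨i, hi⟩ := exists_node hC C hT
    have hi' := hJ i hi
    rw [hi'] at hi
    obtain ⟨p', f, hp', hch, hqf, hf⟩ := LieClassical.HermBasic.exists_prime_pow hK
    obtain rfl : p' = p := CharP.eq K hch ‹_›
    have := Fintype.ofFinite F
    obtain ⟨a, -, ha⟩ := FiniteField.card F p'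
    rw [← Nat.card_eq_fintype_card] at ha
    have hs : f / Nat.gcd a f * Nat.gcd a f = f := Nat.div_mul_cancel (Nat.gcd_dvd_right _ _)
    set s := f / Nat.gcd a f with hsdef
    have haj : (a : ℕ) * j = 2 * f := by
      have h1 : p' ^ ((a : ℕ) * j) = p' ^ (2 * f) := by
        rw [pow_mul, ← ha, hjq, hqf, ← pow_mul, mul_comm]
      exact Nat.pow_right_injective hp'.two_le h1
    have hjs : j ≤ 2 * s := by
      have h1 : Nat.gcd a f ≤ a := Nat.gcd_le_left _ a.pos
      have h2 : (a : ℕ) * j ≤ a * (2 * s) := by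
        rw [haj]
        calc 2 * f = 2 * (s * Nat.gcd a f) := by rw [hs]
          _ ≤ 2 * (s * a) := Nat.mul_le_mul_left _ (Nat.mul_le_mul_left _ h1)
          _ = a * (2 * s) := by ring
      exact Nat.le_of_mul_le_mul_left h2 a.pos
    have h5 := last_bound hC hp0 C hT hr3 (by simp only; omega) hi hJ ha hqf hs
    obtain ⟨h6, h7, h8⟩ := last_c hr3 hNr hdeg hj hjs h5
    subst h6
    obtain ⟨d, hd, hV0⟩ := hW' (by omega)
    subst h7
    have h9 := H69.Ppd.seven_last hN3 W (Or.inr ⟨d, hd, hV0⟩) hφ₀ hC.absIrred (i := 2) (by decide) hd hV0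
      (not_mem_witt hC hp0 C hT hi) (by rw [h8] at hjq; exact hjq)
    have h10 := hdeg.two le_rfl (by omega)
    rw [h8] at h10
    omega
  · -- the first node
    obtain ⟨ε, hε, h3⟩ := bound_first hC C hT (by omega) rfl h0
    obtain ⟨hj1, hd2⟩ := first_c hr3 hNr hdeg (hedge _ (by simp only; omega) h0) hj hε h3
    subst hj1
    by_cases hl : (⟨r - 1, by omega⟩ : Fin r) ∈ JB (modelSU hK hN3 W) p (MonoidHom.id (modelSU hK hN3 W).I)
      (φ₀.comp (modelSU hK hN3 W).φ)
    · exact identify_B hC hA hp0 (by omega) (span_IU hK hN3) C hT (o := ⟨0, by omega⟩) rfl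
        (fun i hi => by
          rcases hends i hi with h1 | h1
          · exact Fin.ext h1
          · exact absurd hl (by
              have : i = ⟨r - 1, by omega⟩ := Fin.ext (by simp only; omega)
              rwa [this] at hi)) hd2
    · exfalso
      rcases Nat.lt_or_ge 4 r with hr5 | hr5
      · obtain ⟨ε', -, h4⟩ := bound_last hC C hT (i := ⟨r - 1, by omega⟩) (by simp only; omega) hl
        have h5 := TT_le_pow hr5
        have h6 := hdeg.big (by omega)
        rw [hNr] at h6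
        omega
      · rcases Nat.lt_or_ge 3 r with hr4 | hr4
        · obtain rfl : r = 4 := by omega
          have h5 := Low.b4_03c C.rgd hirr rfl (i := ⟨0, by omega⟩) (j := ⟨4 - 1, by omega⟩) rfl rfl h0 hl
          rw [hD, Module.finrank_fintype_fun_eq_card] at h5
          have h6 := hdeg.big (by omega)
          rw [hNr, TT_four] at h6
          omega
        · obtain rfl : r = 3 := by omega
          have h5 := Low.b3_02 C.rgd hirr rfl (i := ⟨0, by omega⟩) (j := ⟨3 - 1, by omega⟩) rfl rfl h0 hl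
          rw [hD, Module.finrank_fintype_fun_eq_card] at h5
          have h6 := hdeg.one (by omega) rfl
          omega

end main

section final

open Cfsg.Agent.H419.EP

variable {Q : Type} [Group Q] [Finite Q] {A : Subgroup Q} {Γ : Subgroup (MulAut Q)} {ι : Type} [Fintype ι]
    [DecidableEq ι] {F : Type} [Field F] [Fintype F] {S P : Subgroup (GL ι F)}

/-- **S3499-VII13-PSU-big**, general exponent. -/
theorem own_psu_gen (x : Big A Γ S P) {c : ℕ} (hUB : Nat.card Q ≤ Nat.card A ^ c) (K : Type) [Field K] [Fintype K]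
    (d q : ℕ) (hK : Fintype.card K = q ^ 2) (hd : 6 ≤ d) (hc : ringChar F = ringChar K) (h7 : d ≤ 7 → c ≤ 4)
    (h8 : 8 ≤ d → c ≤ 5 ∨ (12 ≤ d ∧ c ≤ d)) (hS : Nonempty (socle P ≃* Cfsg.PSU d K q)) : False := by
  obtain ⟨e⟩ := hS
  have hC : Core P := core_of_residual x.core
  have hKp : CharP K (ringChar F) := by
    rw [hc]
    exact ringChar.charP K
  have hFp : CharP F (ringChar F) := ringChar.charP F
  have hp : Fact (ringChar F).Prime := ⟨CharP.char_is_prime F _⟩
  have hfin : Finite (PSU d K q) := inferInstance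
  have hA : Nat.card A ≤ q ^ (d ^ 2) := (x.hasSoc' e).card_le.trans (aut_le hK (by omega) (by omega))
  obtain ⟨τ, θ, hθ⟩ := ident_psu' (ringChar F) hC hd hK e x.thirteen fun j hj hjq =>
    degOK x.two_le hj (by rw [← Nat.card_eq_fintype_card]; exact hjq) x.ord hUB hA hd h7 h8
  obtain ⟨σ, f, h1, h2, h3⟩ := form_of_ident hK τ θ hθ
  exact no_unitary x h1 h2 h3

end final

end Cfsg.Agent.H312.EPU
end

private theorem dce_b1e1430a092c : _root_.True := by
  try have : _root_.True := by simp only [_root_.Cfsg.Agent.H312.EPU.Low.l03c.eq_1]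
  try have : _root_.True := by simp only [_root_.Cfsg.Agent.H312.EPU.Low.l02.eq_1]
  try have : _root_.True := by simp only [_root_.Cfsg.Agent.H312.EPU.Low.l01.eq_1]
  exact _root_.True.intro
end

-- part: H987/EP/OwnFin
section
prune_inst 0x253060043200020000008594110000100c00049000400000a8a10b400a0140204542200006803003484e908010000000000000900040000004003000000701208002420413400104060089800080000000000000000000000000000000000004000000000
set_option linter.all false
open scoped Cfsg.Agent.FastGrp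

-- part: H987/EP/TypeA
section
/-!
# Self-dual simple modules of `SL(l + 1, K)` in its own characteristic (helper987, S3499 task 6108)

* `exists_w0` : the longest element of type `A_l`;
* `sd_choose_two`, `fifteen_le` (`l = 4`), `eighteen_le` (`l = 5`), `seventeen_le` (`l = 3`, edges of dimension `≥ 4`);
* `hsd_of_form` : a nondegenerate sesquilinear form invariant under `φ.range` gives the hypothesis of `mem_Jx_opp`.
-/

set_option autoImplicit false
set_option linter.unusedSectionVars false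
set_option linter.style.haveILetI false

namespace Cfsg.Agent.H987.EP

open Matrix CoxeterSystem Cfsg.Agent.ChevalleyStructure.CoxeterGeom Cfsg.Agent.Tits.Roots Cfsg.Agent.Tits.Core
  Cfsg.Agent.Tits.Exchange Cfsg.Agent.Nodes.Reps Cfsg.Agent.Nodes.BNOf Cfsg.Agent.Nodes.StabComb
  Cfsg.Agent.Nodes.Bruhat Cfsg.Agent.Nodes.OppDec Cfsg.Agent.Nodes.LeviDec Cfsg.Agent.KFacts.RgdOpp
  Cfsg.Agent.Omega.CR Cfsg.Agent.Omega.FOne.Lift.Sd Cfsg.Agent.H905.Md Cfsg.Agent.Nodes.RootsA
open Cfsg.Agent.LieRecognition.BNCox (cA cA_apply)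
open Cfsg.Agent.H650.Ppd (mf dim_ge_list dim_ge_list_two)
open Cfsg.Agent.H905.DC (cf)

theorem exists_w0 {l : ℕ} {W : Type*} [Group W] (cs : CoxeterSystem (cA l) W) {A : Fin l → Fin l → ℤ}
    (h : IsCartan (cA l) A) : ∃ w : W, ∀ i, rep cs h w (sr i) = -sr (Fin.revPerm i) := by
  obtain ⟨w, hw⟩ := exists_rep_perm (cs := cs) (h := h) (Fin.revPerm : Equiv.Perm (Fin (l + 1)))
  refine ⟨w, fun i => ?_⟩
  rw [← rtA_sr i, hw, ← rtA_sr (Fin.revPerm i), rtA_neg, Fin.revPerm_apply, Fin.revPerm_apply, Fin.revPerm_apply,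
    Fin.rev_castSucc, Fin.rev_succ]

section

variable {l : ℕ} {W Y : Type*} [Group W] [Group Y] {cs : CoxeterSystem (cA l) W} {p : ℕ} {T : Subgroup Y}
  {nn : Fin l → Y} {X : (Fin l → ℤ) → Subgroup Y} {k V : Type*} [Field k] [AddCommGroup V] [Module k V]
  (R : RGD cs (isCartan l) p T nn X) [Finite Y] [Finite W] [Fact p.Prime] [CharP k p]
  {ρ : Y →* Module.End k V} [FiniteDimensional k V] [Nontrivial V]
  (hirr : ∀ L : Submodule k V, Ivt ρ (GG cs (isCartan l) T X) L → L = ⊥ ∨ L = ⊤)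
  (hD : Module.finrank k (D cs (isCartan l) X ρ) = 1) (hn : 2 ≤ Module.finrank k V)
  (hsd : ∀ B : Subgroup Y, Module.finrank k (fx ρ B) = Module.finrank k (fx ((dualRep ρ :)) B))
include R hirr hD hn hsd

/-- the support: a node and its opposite -/
theorem exists_pair_nodes : ∃ i : Fin l, i ∉ Jx cs (isCartan l) X ρ ∧ Fin.rev i ∉ Jx cs (isCartan l) X ρ ∧ i ≤ Fin.rev i := by
  obtain ⟨i, hi⟩ := exists_not_mem R hirr (by rw [hD]; omega)
  obtain ⟨w, hw⟩ := exists_w0 cs (isCartan l)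
  have h1 := mem_Jx_opp R hirr hsd hw i
  rw [Fin.revPerm_apply] at h1
  have h2 : Fin.rev i ∉ Jx cs (isCartan l) X ρ := fun h => hi (h1.2 h)
  rcases le_total i (Fin.rev i) with h3 | h3
  · exact ⟨i, hi, h2, h3⟩
  · exact ⟨Fin.rev i, h2, by rw [Fin.rev_rev]; exact hi, by rw [Fin.rev_rev]; exact h3⟩

end

/-! ### small rank -/

section four

variable {W Y : Type*} [Group W] [Group Y] {cs : CoxeterSystem (cA 4) W} {p : ℕ} {T : Subgroup Y}
  {nn : Fin 4 → Y} {X : (Fin 4 → ℤ) → Subgroup Y} {k V : Type*} [Field k] [AddCommGroup V] [Module k V]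
  (R : RGD cs (isCartan 4) p T nn X) [Finite Y] [Finite W] [Fact p.Prime] [CharP k p]
  {ρ : Y →* Module.End k V} [FiniteDimensional k V] [Nontrivial V]
  (hirr : ∀ L : Submodule k V, Ivt ρ (GG cs (isCartan 4) T X) L → L = ⊥ ∨ L = ⊤)
  (hD : Module.finrank k (D cs (isCartan 4) X ρ) = 1) (hn : 2 ≤ Module.finrank k V)
  (hsd : ∀ B : Subgroup Y, Module.finrank k (fx ρ B) = Module.finrank k (fx ((dualRep ρ :)) B))
include R hirr hD hn hsd

end four

section five

variable {W Y : Type*} [Group W] [Group Y] {cs : CoxeterSystem (cA 5) W} {p : ℕ} {T : Subgroup Y}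
  {nn : Fin 5 → Y} {X : (Fin 5 → ℤ) → Subgroup Y} {k V : Type*} [Field k] [AddCommGroup V] [Module k V]
  (R : RGD cs (isCartan 5) p T nn X) [Finite Y] [Finite W] [Fact p.Prime] [CharP k p]
  {ρ : Y →* Module.End k V} [FiniteDimensional k V] [Nontrivial V]
  (hirr : ∀ L : Submodule k V, Ivt ρ (GG cs (isCartan 5) T X) L → L = ⊥ ∨ L = ⊤)
  (hD : Module.finrank k (D cs (isCartan 5) X ρ) = 1) (hn : 2 ≤ Module.finrank k V)
  (hsd : ∀ B : Subgroup Y, Module.finrank k (fx ρ B) = Module.finrank k (fx ((dualRep ρ :)) B))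
include R hirr hD hn hsd

end five

section three

variable {W Y : Type*} [Group W] [Group Y] {cs : CoxeterSystem (cA 3) W} {p : ℕ} {T : Subgroup Y}
  {nn : Fin 3 → Y} {X : (Fin 3 → ℤ) → Subgroup Y} {k V : Type*} [Field k] [AddCommGroup V] [Module k V]
  (R : RGD cs (isCartan 3) p T nn X) [Finite Y] [Finite W] [Fact p.Prime] [CharP k p]
  {ρ : Y →* Module.End k V} [FiniteDimensional k V] [Nontrivial V]
  (hirr : ∀ L : Submodule k V, Ivt ρ (GG cs (isCartan 3) T X) L → L = ⊥ ∨ L = ⊤)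
  (hD : Module.finrank k (D cs (isCartan 3) X ρ) = 1) (hn : 2 ≤ Module.finrank k V)
  (hsd : ∀ B : Subgroup Y, Module.finrank k (fx ρ B) = Module.finrank k (fx ((dualRep ρ :)) B))
  (he : ∀ i, i ∉ Jx cs (isCartan 3) X ρ → 4 ≤ Module.finrank k (Le cs (isCartan 3) T X ρ {i}))
include R hirr hD hn hsd he

end three

end Cfsg.Agent.H987.EP
end

-- part: H987/EP/TypeB
section
/-!
# Self-dual simple modules of type `A_l`: the number of vertices (helper987, S3499 task 6108)

* `vertices` : the orbit of the highest weight has at least `min (m (m - 1)) (C(m, m / 2))` elements, `m = l + 1`;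
* **`sd_dim`** : `2 dim V ≥ d * N`, `d` a lower bound for the dimension of the edges.
-/

set_option autoImplicit false
set_option linter.unusedSectionVars false
set_option linter.style.haveILetI false

namespace Cfsg.Agent.H987.EP

open Matrix CoxeterSystem Cfsg.Agent.ChevalleyStructure.CoxeterGeom Cfsg.Agent.Tits.Roots Cfsg.Agent.Tits.Core
  Cfsg.Agent.Tits.Exchange Cfsg.Agent.Nodes.Reps Cfsg.Agent.Nodes.BNOf Cfsg.Agent.Nodes.StabComb
  Cfsg.Agent.Nodes.Bruhat Cfsg.Agent.Nodes.OppDec Cfsg.Agent.Nodes.LeviDec Cfsg.Agent.KFacts.RgdOpp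
  Cfsg.Agent.Omega.CR Cfsg.Agent.Omega.FOne.Lift.Sd Cfsg.Agent.H905.Md Cfsg.Agent.Nodes.RootsA
open Cfsg.Agent.LieRecognition.BNCox (cA cA_apply)

/-- a permutation mapping `{≤ i}` onto `S` and `{> l - 1 - i}` onto `T` -/
theorem exists_perm_two {l : ℕ} {i : Fin l} (hi : i < Fin.rev i) (S T : Finset (Fin (l + 1))) (hS : S.card = i.val + 1)
    (hT : T.card = i.val + 1) (hd : Disjoint S T) : ∃ σ : Equiv.Perm (Fin (l + 1)),
      (∀ a, (σ⁻¹ a).val ≤ i.val ↔ a ∈ S) ∧ ∀ a, (σ⁻¹ a).val ≤ (Fin.rev i).val ↔ a ∉ T := by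
  classical
  have hi' : i.val < (Fin.rev i).val := hi
  have hr : (Fin.rev i).val = l - 1 - i.val := by rw [Fin.val_rev]; omega
  have hil := i.2
  let f : Fin (l + 1) → Fin 3 := fun x => if x.val ≤ i.val then 0 else if x.val ≤ (Fin.rev i).val then 1 else 2
  let g : Fin (l + 1) → Fin 3 := fun c => if c ∈ S then 0 else if c ∉ T then 1 else 2
  have f0 : ∀ x, f x = 0 ↔ x.val ≤ i.val := by
    intro x
    simp only [f]
    split_ifs with h1 h2 <;> simp [h1]
  have f2 : ∀ x, f x = 2 ↔ ¬ x.val ≤ (Fin.rev i).val := by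
    intro x
    simp only [f]
    split_ifs with h1 h2
    · simp only [Fin.reduceEq, false_iff, not_not]; omega
    · simp only [Fin.reduceEq, false_iff, not_not]; exact h2
    · simp only [true_iff]; exact h2
  have g0 : ∀ x, g x = 0 ↔ x ∈ S := by
    intro x
    simp only [g]
    split_ifs with h1 h2 <;> simp [h1]
  have g2 : ∀ x, g x = 2 ↔ x ∈ T := by
    intro x
    simp only [g]
    split_ifs with h1 h2
    · have : x ∉ T := Finset.disjoint_left.1 hd h1
      simp [this]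
    · simpa using h2
    · simpa using h2
  have c0 : Fintype.card {x // f x = 0} = Fintype.card {x // g x = 0} := by
    rw [Fintype.card_subtype, Fintype.card_subtype]
    have e1 : (Finset.univ.filter fun x => f x = 0) = Finset.Iic i.castSucc := by
      ext x
      simp only [f0, Fin.le_def, _root_.Fin.isValue, _root_.Finset.mem_filter, _root_.Finset.mem_univ, _root_.true_and, _root_.Finset.mem_Iic, _root_.Fin.val_castSucc]
    have e2 : (Finset.univ.filter fun x => g x = 0) = S := by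
      ext x
      simp [g0]
    rw [e1, e2, hS, Fin.card_Iic]
    rfl
  have c2 : Fintype.card {x // f x = 2} = Fintype.card {x // g x = 2} := by
    rw [Fintype.card_subtype, Fintype.card_subtype]
    have e1 : (Finset.univ.filter fun x => f x = 2) = Finset.Ioi (Fin.rev i).castSucc := by
      ext x
      simp only [f2, Fin.lt_def, _root_.Fin.isValue, _root_.Fin.val_rev, _root_.not_le, _root_.Finset.mem_filter, _root_.Finset.mem_univ, _root_.true_and, _root_.Finset.mem_Ioi, _root_.Fin.val_castSucc]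
    have e2 : (Finset.univ.filter fun x => g x = 2) = T := by
      ext x
      simp [g2]
    rw [e1, e2, hT, Fin.card_Ioi]
    simp only [Fin.val_castSucc]
    omega
  have hsum : ∀ f : Fin (l + 1) → Fin 3, Fintype.card {x // f x = 0} + Fintype.card {x // f x = 1} +
      Fintype.card {x // f x = 2} = l + 1 := by
    intro f
    have h1 := Finset.card_eq_sum_card_fiberwise (f := f) (s := Finset.univ) (t := Finset.univ)
      (fun _ _ => Finset.mem_coe.2 (Finset.mem_univ _))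
    rw [Finset.card_univ, Fintype.card_fin, Fin.sum_univ_three] at h1
    rw [Fintype.card_subtype, Fintype.card_subtype, Fintype.card_subtype]
    exact h1.symm
  have c1 : Fintype.card {x // f x = 1} = Fintype.card {x // g x = 1} := by
    have h1 := hsum f
    have h2 := hsum g
    omega
  have hc : ∀ c, Nonempty ({x // f x = c} ≃ {x // g x = c}) := by
    intro c
    fin_cases c
    · exact Fintype.card_eq.1 c0
    · exact Fintype.card_eq.1 c1
    · exact Fintype.card_eq.1 c2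
  let σ : Equiv.Perm (Fin (l + 1)) := Equiv.ofFiberEquiv fun c => (hc c).some
  have hσ : ∀ a, g (σ a) = f a := Equiv.ofFiberEquiv_map fun c => (hc c).some
  have hσ' : ∀ a, f (σ⁻¹ a) = g a := fun a => by
    rw [← hσ]
    congr 1
    exact σ.apply_symm_apply a
  refine ⟨σ, fun a => ?_, fun a => ?_⟩
  · rw [← f0, hσ', g0]
  · rw [← not_iff_not, ← f2, hσ', g2, not_not]

section

variable {l : ℕ} {W Y : Type*} [Group W] [Group Y] {cs : CoxeterSystem (cA l) W} {p : ℕ} {T : Subgroup Y}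
  {nn : Fin l → Y} {X : (Fin l → ℤ) → Subgroup Y} {k V : Type*} [Field k] [AddCommGroup V] [Module k V]
  (R : RGD cs (isCartan l) p T nn X) [Finite Y] [Finite W] [Fact p.Prime] [CharP k p]
  {ρ : Y →* Module.End k V} [FiniteDimensional k V] [Nontrivial V]
  (hirr : ∀ L : Submodule k V, Ivt ρ (GG cs (isCartan l) T X) L → L = ⊥ ∨ L = ⊤)
  (hD : Module.finrank k (D cs (isCartan l) X ρ) = 1)
include R hirr hD

/-- **Two opposite nodes**: the flags `S ⊂ Tᶜ`. -/
theorem dim_ge_flags {i : Fin l} (hi : i ∉ Jx cs (isCartan l) X ρ) (hi' : Fin.rev i ∉ Jx cs (isCartan l) X ρ)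
    (hlt : i < Fin.rev i) : (l + 1).choose (i.val + 1) * (l - i.val).choose (i.val + 1) ≤ Module.finrank k V := by
  classical
  let α := Σ S : {S : Finset (Fin (l + 1)) // S.card = i.val + 1},
    {U : Finset (Fin (l + 1)) // U ∈ Finset.powersetCard (i.val + 1) (S.1ᶜ)}
  have hα : Fintype.card α = (l + 1).choose (i.val + 1) * (l - i.val).choose (i.val + 1) := by
    have h1 : ∀ S : {S : Finset (Fin (l + 1)) // S.card = i.val + 1},
        Fintype.card {U : Finset (Fin (l + 1)) // U ∈ Finset.powersetCard (i.val + 1) (S.1ᶜ)} =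
          (l - i.val).choose (i.val + 1) := by
      intro S
      rw [Fintype.card_coe, Finset.card_powersetCard, Finset.card_compl, Fintype.card_fin, S.2]
      congr 1
      omega
    rw [Fintype.card_sigma]
    trans ∑ _S : {S : Finset (Fin (l + 1)) // S.card = i.val + 1}, (l - i.val).choose (i.val + 1)
    · exact Finset.sum_congr rfl fun S _ => by convert h1 S
    · rw [Finset.sum_const, Finset.card_univ, smul_eq_mul, Fintype.card_finset_len, Fintype.card_fin]
  have hσ : ∀ a : α, ∃ σ : Equiv.Perm (Fin (l + 1)),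
      (∀ c, (σ⁻¹ c).val ≤ i.val ↔ c ∈ a.1.1) ∧ ∀ c, (σ⁻¹ c).val ≤ (Fin.rev i).val ↔ c ∉ a.2.1 := by
    rintro ⟨⟨S, hS⟩, ⟨U, hU⟩⟩
    rw [Finset.mem_powersetCard] at hU
    refine exists_perm_two hlt S U hS hU.2 ?_
    rw [Finset.disjoint_left]
    intro x hx hxU
    exact (Finset.mem_compl.1 (hU.1 hxU)) hx
  choose σ hσ1 hσ2 using hσ
  have h1 := dim_ge_perm R hirr (α := α) (β := Fin 0) σ (by
      intro a a' haa
      by_contra hcon
      push Not at hcon
      apply haa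
      have e1 : a.1.1 = a'.1.1 := by
        have h2 : a.1.1 ⊆ a'.1.1 := fun c hc => (hσ1 a' c).1 (hcon i hi c ((hσ1 a c).2 hc))
        exact Finset.eq_of_subset_of_card_le h2 (by rw [a.1.2, a'.1.2])
      have e2 : a.2.1 = a'.2.1 := by
        have h2 : a'.2.1 ⊆ a.2.1 := by
          intro c hc
          by_contra h3
          exact ((hσ2 a' c).1 (hcon _ hi' c ((hσ2 a c).2 h3))) hc
        refine (Finset.eq_of_subset_of_card_le h2 ?_).symm
        rw [(Finset.mem_powersetCard.1 a.2.2).2, (Finset.mem_powersetCard.1 a'.2.2).2]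
      obtain ⟨⟨S, hS⟩, ⟨U, hU⟩⟩ := a
      obtain ⟨⟨S', hS'⟩, ⟨U', hU'⟩⟩ := a'
      simp only at e1 e2
      subst e1
      subst e2
      rfl)
    (fun b => b.elim0) (fun b => b.elim0) (fun b => b.elim0) (fun b => b.elim0) (fun b => b.elim0)
  rw [hD, mul_one, hα] at h1
  simpa only [_root_.ge_iff_le, _root_.Finset.univ_eq_empty, _root_.Finset.sum_empty, _root_.add_zero] using h1

variable (hn : 2 ≤ Module.finrank k V)
  (hsd : ∀ B : Subgroup Y, Module.finrank k (fx ρ B) = Module.finrank k (fx ((dualRep ρ :)) B))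
include hn hsd

/-- **The dimension of a self-dual module.** -/
theorem sd_dim : (l + 1) * l ≤ Module.finrank k V ∨ ∃ t, l + 1 = 2 * t ∧ (2 * t).choose t ≤ Module.finrank k V := by
  obtain ⟨i, hi, hi', hii⟩ := exists_pair_nodes R hirr hD hn hsd
  have hil := i.2
  have hr : (Fin.rev i).val = l - 1 - i.val := by rw [Fin.val_rev]; omega
  rcases lt_or_eq_of_le hii with hlt | heq
  · left
    have hlt' : i.val < (Fin.rev i).val := hlt
    refine le_trans ?_ (dim_ge_flags R hirr hD hi hi' hlt)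
    rcases Nat.eq_zero_or_pos i.val with h0 | h0
    · rw [h0]
      simp
    · have h4 := H905.Md.choose_two_le (m := l + 1) (k := i.val + 1) (by omega) (by omega)
      have h5 : 2 ≤ (l - i.val).choose (i.val + 1) := by
        have h6 : (l - i.val).choose 1 ≤ (l - i.val).choose (i.val + 1) := by
          rcases Nat.lt_or_ge (i.val + 1) 2 with h7 | h7
          · omega
          · rcases Nat.lt_or_ge (i.val + 1 + 1) (l - i.val) with h8 | h8
            · have h9 := H905.Md.choose_two_le (m := l - i.val) (k := i.val + 1) (by omega) (by omega)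
              refine le_trans ?_ h9
              rw [Nat.choose_one_right, Nat.choose_two_right, Nat.le_div_iff_mul_le (by norm_num)]
              exact Nat.mul_le_mul_left _ (by omega)
            · have h9 : l - i.val = (i.val + 1) + 1 := by omega
              rw [h9, Nat.choose_one_right, Nat.choose_succ_self_right]
        rw [Nat.choose_one_right] at h6
        omega
      have h6 : (l + 1).choose 2 * 2 = (l + 1) * l := by
        rw [Nat.choose_two_right, Nat.add_sub_cancel, Nat.div_mul_cancel]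
        rw [mul_comm]
        exact (Nat.even_mul_succ_self l).two_dvd
      rw [← h6]
      exact Nat.mul_le_mul h4 h5
  · right
    have h1 := congrArg Fin.val heq
    rw [hr] at h1
    refine ⟨i.val + 1, by omega, ?_⟩
    have h2 := dim_ge_A R hirr hi
    rw [hD, mul_one] at h2
    have h3 : l + 1 = 2 * (i.val + 1) := by omega
    rw [← h3]
    omega

end

end Cfsg.Agent.H987.EP
end

-- part: H987/EP/Bounds
section
/-!
# Cores with socle `PSL(l + 1, K)` in their own characteristic: dimensions and orders (helper987, S3499 task 6108)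

* **`sd_bound`** : a core which preserves a nondegenerate (sesqui)linear form has dimension `≥ (l + 1) l` or
  `≥ C(l + 1, (l + 1) / 2)`;
* `sd_three` : `l = 2`, `|K| = |F| ^ j`, `j ≥ 2` : dimension `≥ 18`;
* **`card_mulAut_le`** : `|Aut PSL(d, K)| ≤ |K| ^ (d ^ 2)`.
-/

set_option autoImplicit false
set_option linter.unusedSectionVars false
set_option linter.style.haveILetI false

namespace Cfsg.Agent.H987.EP

open Matrix CoxeterSystem Cfsg.Agent.ChevalleyStructure.CoxeterGeom Cfsg.Agent.Tits.Roots Cfsg.Agent.Tits.Core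
  Cfsg.Agent.Tits.Exchange Cfsg.Agent.Nodes.Reps Cfsg.Agent.Nodes.BNOf Cfsg.Agent.Nodes.StabComb
  Cfsg.Agent.Nodes.Bruhat Cfsg.Agent.Nodes.OppDec Cfsg.Agent.Nodes.LeviDec Cfsg.Agent.KFacts.RgdOpp
  Cfsg.Agent.Omega.CR Cfsg.Agent.Omega.FOne.Lift.Sd Cfsg.Agent.H905.Md Cfsg.Agent.Nodes.RootsA
open Cfsg Cfsg.Geo
open Cfsg.Agent.LieRecognition.BNCox (cA cA_apply)
open Cfsg.Agent.H650.Ppd (mf dim_ge_list dim_ge_list_two nd_A edge_pow_of_card)
open Cfsg.Agent.H905.DC (cf)
open Cfsg.Agent.H911 (lin)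
open Cfsg.Agent.H915.LD (Core Soc)

/-! ### `l = 2` -/

section two

variable {W Y : Type*} [Group W] [Group Y] {cs : CoxeterSystem (cA 2) W} {p : ℕ} {T : Subgroup Y}
  {nn : Fin 2 → Y} {X : (Fin 2 → ℤ) → Subgroup Y} {k V : Type*} [Field k] [AddCommGroup V] [Module k V]
  (R : RGD cs (isCartan 2) p T nn X) [Finite Y] [Finite W] [Fact p.Prime] [CharP k p]
  {ρ : Y →* Module.End k V} [FiniteDimensional k V] [Nontrivial V]
  (hirr : ∀ L : Submodule k V, Ivt ρ (GG cs (isCartan 2) T X) L → L = ⊥ ∨ L = ⊤)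
  (hD : Module.finrank k (D cs (isCartan 2) X ρ) = 1) (hn : 2 ≤ Module.finrank k V)
  (hsd : ∀ B : Subgroup Y, Module.finrank k (fx ρ B) = Module.finrank k (fx ((dualRep ρ :)) B))
  (he : ∀ i, i ∉ Jx cs (isCartan 2) X ρ → 4 ≤ Module.finrank k (Le cs (isCartan 2) T X ρ {i}))
include R hirr hD hn hsd he

theorem eighteen_le_two : 18 ≤ Module.finrank k V := by
  obtain ⟨i, hi, hi', hii⟩ := exists_pair_nodes R hirr hD hn hsd
  have h2 : i = 0 := by
    rw [Fin.le_def, Fin.val_rev] at hii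
    have := i.2
    have h3 : i.val = 0 := by omega
    exact Fin.ext h3
  subst h2
  have h4 := he 0 hi
  have h5 := finrank_Io R hirr 0
  have h6 := he 1 hi'
  have h7 := finrank_Io R hirr 1
  rw [hD] at h5 h7
  have h1 := dim_ge_list_two R hirr hi (j := 1) hi' (by decide) [[], [0], [1], [0, 1], [1, 0], [0, 1, 0]]
    [[], [1], [1, 0]] [[], [0], [0, 1]] (by decide +kernel) (by decide +kernel) (by decide +kernel)
  rw [hD] at h1
  simp only [List.length_cons, List.length_nil] at h1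
  omega

end two

section bound

variable {F : Type*} [Field F] [Finite F] {ι : Type} [Fintype ι] [DecidableEq ι] {P : Subgroup (GL ι F)}
  {K : Type} [Field K] [Fintype K] (p : ℕ) [hp : Fact p.Prime] [hFp : CharP F p] [hKp : CharP K p] {l : ℕ}
  {σ : F ≃+* F} {f : (ι → F) → (ι → F) → F}
include hp hFp hKp

/-- **The dimension of a core with an invariant form.** -/
theorem sd_bound (hC : Core P) (hl : 2 ≤ l) (Φ : Soc P ≃* ProjectiveSpecialLinearGroup (Fin (l + 1)) K)
    (hf : SForm σ f) (hP : ∀ g ∈ P, ∀ x y, f ((g : Matrix ι ι F) *ᵥ x) ((g : Matrix ι ι F) *ᵥ y) = f x y) :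
    (l + 1) * l ≤ Fintype.card ι ∨ ∃ t, l + 1 = 2 * t ∧ (2 * t).choose t ≤ Fintype.card ι := by
  obtain ⟨φ, hφ, -, -⟩ := psl_cover p hC.perfect (by omega) (fun h => by omega) Φ
  have h2 := nonempty_of_psl hC.perfect (by omega) (fun h => by omega) Φ
  haveI : Nonempty ι := Fintype.card_pos_iff.1 (by omega)
  haveI : Finite (cA l).Group := finite_W (cA l).toCoxeterSystem (isCartan l)
  haveI hchar : CharP (AlgebraicClosure F) p := charP_of_injective_algebraMap (algebraMap F _).injective p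
  have R := Nodes.RGDTypeA.rgd (cA l).toCoxeterSystem (isCartan l) (F := K) (p := p)
  have hG := gg_eq_top (T := Nodes.RGDTypeA.T (Fin (l + 1)) K)
    (Nodes.RGDTypeA.G1_eq_top (F := K) (cA l).toCoxeterSystem (isCartan l))
  have hirr := ac_irr R hG slT_comm hφ hC.absIrred
  have hD := finrank_D R hirr slT_comm
  have h3 := sd_dim R hirr hD (by rw [Module.finrank_fintype_fun_eq_card]; exact h2)
    (fun B => hf.hsd (φ := φ) (fun g x y => hP _ (hφ ▸ ⟨g, rfl⟩) x y) B)
  rwa [Module.finrank_fintype_fun_eq_card] at h3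

theorem sd_three (hC : Core P) (Φ : Soc P ≃* ProjectiveSpecialLinearGroup (Fin (2 + 1)) K)
    (hf : SForm σ f) (hP : ∀ g ∈ P, ∀ x y, f ((g : Matrix ι ι F) *ᵥ x) ((g : Matrix ι ι F) *ᵥ y) = f x y)
    {j : ℕ} (hj : Nat.card K = Nat.card F ^ j) (hj2 : 2 ≤ j) : 18 ≤ Fintype.card ι := by
  obtain ⟨φ, hφ, -, -⟩ := psl_cover p hC.perfect (by omega) (fun h => by omega) Φ
  have h2 := nonempty_of_psl hC.perfect (by omega) (fun h => by omega) Φ
  haveI : Nonempty ι := Fintype.card_pos_iff.1 (by omega)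
  haveI : Finite (cA 2).Group := finite_W (cA 2).toCoxeterSystem (isCartan 2)
  haveI hchar : CharP (AlgebraicClosure F) p := charP_of_injective_algebraMap (algebraMap F _).injective p
  have R := Nodes.RGDTypeA.rgd (cA 2).toCoxeterSystem (isCartan 2) (F := K) (p := p)
  have hG := gg_eq_top (T := Nodes.RGDTypeA.T (Fin (2 + 1)) K)
    (Nodes.RGDTypeA.G1_eq_top (F := K) (cA 2).toCoxeterSystem (isCartan 2))
  have hirr := ac_irr R hG slT_comm hφ hC.absIrred
  have hD := finrank_D R hirr slT_comm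
  have h3 := eighteen_le_two R hirr hD (by rw [Module.finrank_fintype_fun_eq_card]; exact h2)
    (fun B => hf.hsd (φ := φ) (fun g x y => hP _ (hφ ▸ ⟨g, rfl⟩) x y) B)
    (fun i hi => by
      obtain ⟨d, hd2, hd⟩ := edge_pow_of_card R hG slT_comm hφ hC.absIrred (nd_A i) hi hj
      rw [hd]
      calc 4 = 2 ^ 2 := rfl
        _ ≤ 2 ^ j := Nat.pow_le_pow_right (by norm_num) hj2
        _ ≤ d ^ j := Nat.pow_le_pow_left hd2 j)
  rwa [Module.finrank_fintype_fun_eq_card] at h3

end bound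

/-! ### orders -/

section aut

variable {K : Type*} [Field K] [Fintype K]

theorem card_GL_le {d : ℕ} (hd : 1 ≤ d) :
    Nat.card (GL (Fin d) K) ≤ Fintype.card K ^ (d ^ 2 - 1) * (Fintype.card K - 1) := by
  obtain ⟨m, rfl⟩ : ∃ m, d = m + 1 := ⟨d - 1, by omega⟩
  rw [Matrix.card_GL_field, Fin.prod_univ_castSucc]
  set q := Fintype.card K with hq
  have h1 : ∏ i : Fin m, (q ^ (m + 1) - q ^ (Fin.castSucc i : ℕ)) ≤ q ^ ((m + 1) * m) := by
    calc ∏ i : Fin m, (q ^ (m + 1) - q ^ (Fin.castSucc i : ℕ)) ≤ ∏ _i : Fin m, q ^ (m + 1) :=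
          Finset.prod_le_prod' fun i _ => Nat.sub_le _ _
      _ = q ^ ((m + 1) * m) := by rw [Finset.prod_const, Finset.card_univ, Fintype.card_fin, ← pow_mul]
  have h2 : q ^ (m + 1) - q ^ (Fin.last m : ℕ) = q ^ m * (q - 1) := by
    rw [Fin.val_last, pow_succ, Nat.mul_sub, mul_one]
  rw [h2]
  have e : (m + 1) ^ 2 - 1 = (m + 1) * m + m := by
    have : (m + 1) ^ 2 = (m + 1) * m + m + 1 := by ring
    omega
  rw [e, pow_add q ((m + 1) * m) m, mul_assoc]
  exact Nat.mul_le_mul_right _ h1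

theorem two_mul_le_pow {p f : ℕ} (hp : 2 ≤ p) (hf : 1 ≤ f) : 2 * f ≤ p ^ f := by
  have h1 : 2 * f ≤ 2 ^ f := by
    induction f, hf using Nat.le_induction with
    | base => norm_num
    | succ j hj ih => rw [pow_succ]; omega
  exact h1.trans (Nat.pow_le_pow_left hp f)

/-- **The order of the automorphism group.** -/
theorem card_mulAut_le {d : ℕ} (hd : 2 ≤ d) (h4 : d = 2 → 4 ≤ Fintype.card K) :
    Nat.card (MulAut (ProjectiveSpecialLinearGroup (Fin d) K)) ≤ Fintype.card K ^ (d ^ 2) := by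
  classical
  obtain ⟨p, hpK⟩ := CharP.exists K
  obtain ⟨f, hpp, hF⟩ := FiniteField.card K p
  haveI := Fact.mk hpp
  have : NeZero d := ⟨by omega⟩
  rw [S0813.result p f f.pos hF d hd (fun h => by rw [← hF]; exact h4 h)]
  have h1 : Nat.card (ProjGenLinGroup (Fin d) K) * (Fintype.card K - 1) = Nat.card (GL (Fin d) K) :=
    Cfsg.Agent.ClassicalGeometry.PSL2Basic.card_PGL_mul (Fin d) K
  have h2 := card_GL_le (K := K) (d := d) (by omega)
  rw [← h1] at h2
  have hq := Fintype.one_lt_card (α := K)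
  have h3 := Nat.le_of_mul_le_mul_right h2 (by omega)
  have h5 : (if d = 2 then 1 else 2) * (f : ℕ) ≤ Fintype.card K := by
    have h6 := two_mul_le_pow hpp.two_le f.pos
    rw [hF]
    refine le_trans (Nat.mul_le_mul_right _ ?_) h6
    split_ifs <;> omega
  have h7 : Fintype.card K ^ (d ^ 2) = Fintype.card K * Fintype.card K ^ (d ^ 2 - 1) := by
    rw [← pow_succ']
    congr 1
    have : 1 ≤ d ^ 2 := Nat.one_le_pow _ _ (by omega)
    omega
  rw [h7]
  exact Nat.mul_le_mul h5 h3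

end aut

end Cfsg.Agent.H987.EP
end

-- part: H987/EP/OwnPSL
section
/-!
# S3499-VII, own characteristic, `n ≥ 13`: socle `PSL(d, K)` (helper987, task 6108)

**`ownPSL_of`** : `OwnPSL` from the upper bounds of `|Q|`:
* `d = 2` : `|Q| ≤ |A| ^ 5`; `d = 3` : `|Q| ≤ |A| ^ 6`; `d ≥ 4`, `|K| = 2` : `|Q| ≤ |A| ^ 5`;
* `d ≥ 4`, `|K| > 2` : impossible.

**`ownPSL_of'`** : `d = 2` : `|Q| ≤ |A| ^ 5`; `d ≥ 3`, `|K| = 2` : `|Q| ≤ |A| ^ 5`; `d ≥ 3`, `|K| > 2` : impossible.
-/

set_option autoImplicit false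
set_option linter.unusedSectionVars false
set_option linter.style.haveILetI false

namespace Cfsg.Agent.H987.EP

open Subgroup Matrix Cfsg Cfsg.Geo Cfsg.Agent.H284 Cfsg.Agent.H419.EP
open Cfsg.Agent.H915.LD (Core Soc core_of_residual)
open scoped MatrixGroups

/-! ### arithmetic -/

theorem centralBinom_ge {t : ℕ} (ht : 4 ≤ t) : 2 * t * (2 * t - 1) ≤ (2 * t).choose t := by
  have key : 2 * t * (2 * t - 1) ≤ Nat.centralBinom t := by
    induction t, ht using Nat.le_induction with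
    | base => decide
    | succ t ht ih =>
      have h1 := Nat.succ_mul_centralBinom_succ t
      have h2 : 3 * Nat.centralBinom t ≤ Nat.centralBinom (t + 1) := by
        have h3 : (t + 1) * (3 * Nat.centralBinom t) ≤ (t + 1) * Nat.centralBinom (t + 1) := by
          rw [h1]
          have h4 : (t + 1) * 3 ≤ 2 * (2 * t + 1) := by omega
          calc (t + 1) * (3 * Nat.centralBinom t) = ((t + 1) * 3) * Nat.centralBinom t := by ring
            _ ≤ (2 * (2 * t + 1)) * Nat.centralBinom t := Nat.mul_le_mul_right _ h4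
        exact Nat.le_of_mul_le_mul_left h3 (by omega)
      obtain ⟨s, rfl⟩ : ∃ s, t = s + 4 := ⟨t - 4, by omega⟩
      have e1 : 2 * (s + 4) - 1 = 2 * s + 7 := by omega
      have e2 : 2 * (s + 4 + 1) - 1 = 2 * s + 9 := by omega
      rw [e1] at ih
      rw [e2]
      nlinarith only [ih, h2]
  exact key

theorem two_pow_six {j : ℕ} (hj : 5 ≤ j) : 6 * j + 2 ≤ 2 ^ j := by
  induction j, hj using Nat.le_induction with
  | base => norm_num
  | succ j hj ih => rw [pow_succ]; omega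

theorem tri_mono {a b : ℕ} (h : a ≤ b) : a * (a - 1) / 2 ≤ b * (b - 1) / 2 :=
  Nat.div_le_div_right (Nat.mul_le_mul h (by omega))

section Big

variable {Q : Type} [Group Q] [Finite Q] {A : Subgroup Q} {Γ : Subgroup (MulAut Q)} {ι : Type} [Fintype ι]
    [DecidableEq ι] {F : Type} [Field F] [Fintype F] {S P : Subgroup (GL ι F)}

/-- the elements of `Ω` are isometries -/
theorem omega_isom {Qf : (ι → F) → F} {g : GL ι F} (hg : g ∈ omegaGL Qf) (v : ι → F) :
    Qf ((g : Matrix ι ι F) *ᵥ v) = Qf v := by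
  obtain ⟨x, -, rfl⟩ := hg
  exact x.2 v v

/-- the invariant form -/
theorem form_of_kind (b : Big A Γ S P) :
    (S = specialLinear ι F ∧ Fintype.card F ^ (Fintype.card ι ^ 2 - 2) ≤ Nat.card Q) ∨
    (∃ (σ : F ≃+* F) (f : (ι → F) → (ι → F) → F), SForm σ f ∧
      ∀ g ∈ P, ∀ x y, f ((g : Matrix ι ι F) *ᵥ x) ((g : Matrix ι ι F) *ᵥ y) = f x y) := by
  rcases b.kind with ⟨hS, ho, -, -, -⟩ | ⟨f, hf, hS, h3, ho, -, -⟩ | ⟨q, hq, σ, f, hf, hS, -, ho, -, -⟩ |
    ⟨Qf, hQ, hS, ho, -⟩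
  · exact Or.inl ⟨hS, ho⟩
  · exact Or.inr ⟨_, f, SForm.of_symplectic hf, fun g hg x y => hS _ ⟨g, b.le_S hg, rfl⟩ x y⟩
  · exact Or.inr ⟨σ, f, SForm.of_unitary hf, fun g hg x y => hS _ ⟨g, b.le_S hg, rfl⟩ x y⟩
  · refine Or.inr ⟨_, _, SForm.of_quadratic hQ, fun g hg x y => ?_⟩
    have h1 : g ∈ omegaGL Qf := hS ▸ b.le_S hg
    unfold QuadraticMap.polar
    rw [← Matrix.mulVec_add, omega_isom h1, omega_isom h1, omega_isom h1]

/-- the order of `A` -/
theorem card_A_le (b : Big A Γ S P) {K : Type} [Field K] [Fintype K] {d : ℕ} (hd : 2 ≤ d)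
    (h4 : d = 2 → 4 ≤ Fintype.card K) (e : socle P ≃* ProjectiveSpecialLinearGroup (Fin d) K) :
    Nat.card A ≤ Fintype.card K ^ (d ^ 2) := by
  haveI : Finite (ProjectiveSpecialLinearGroup (Fin d) K) := by
    unfold ProjectiveSpecialLinearGroup
    infer_instance
  exact (b.hasSoc' e).card_le.trans (card_mulAut_le hd h4)

/-- the comparison of the orders -/
theorem num_le (b : Big A Γ S P) {c s : ℕ} (hUB : Nat.card Q ≤ Nat.card A ^ c)
    (hA : Nat.card A ≤ Fintype.card F ^ s) : Fintype.card ι * (Fintype.card ι - 1) / 2 ≤ s * c + 3 := by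
  have h2 := b.two_le
  have h1 : Fintype.card F ^ (Fintype.card ι * (Fintype.card ι - 1) / 2) ≤ Fintype.card F ^ (s * c + 3) := by
    refine b.ord.trans ?_
    calc 8 * Nat.card Q ≤ Fintype.card F ^ 3 * (Fintype.card F ^ s) ^ c :=
          Nat.mul_le_mul ((by norm_num : 8 = 2 ^ 3).le.trans (Nat.pow_le_pow_left h2 3))
            (hUB.trans (Nat.pow_le_pow_left hA c))
      _ = Fintype.card F ^ (s * c + 3) := by rw [← pow_mul, ← pow_add, add_comm]
  exact (Nat.pow_le_pow_iff_right (by omega)).1 h1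

theorem num_lin (ho : Fintype.card F ^ (Fintype.card ι ^ 2 - 2) ≤ Nat.card Q) {c s : ℕ}
    (hUB : Nat.card Q ≤ Nat.card A ^ c) (hA : Nat.card A ≤ Fintype.card F ^ s) : Fintype.card ι ^ 2 - 2 ≤ s * c := by
  have h2 := Fintype.one_lt_card (α := F)
  have h1 : Fintype.card F ^ (Fintype.card ι ^ 2 - 2) ≤ Fintype.card F ^ (s * c) := by
    refine ho.trans (hUB.trans ?_)
    rw [pow_mul]
    exact Nat.pow_le_pow_left hA c
  exact (Nat.pow_le_pow_iff_right (by omega)).1 h1

/-- **`d = 2`** -/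
theorem two (b : Big A Γ S P) {K : Type} [Field K] [Fintype K] (hc : ringChar F = ringChar K)
    (e : socle P ≃* ProjectiveSpecialLinearGroup (Fin 2) K) (h4 : 4 ≤ Fintype.card K)
    (hUB : Nat.card Q ≤ Nat.card A ^ 5) : False := by
  haveI : Fact (ringChar F).Prime := ⟨CharP.char_is_prime F (ringChar F)⟩
  haveI : CharP K (ringChar F) := by rw [hc]; exact ringChar.charP K
  obtain ⟨j, m, hj0, hj, hm, hn⟩ := H875.Psl2.exists_pow (ringChar F) (core_of_residual b.core) e
  have hA := card_A_le b (d := 2) le_rfl (fun _ => h4) e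
  rw [hj, ← pow_mul] at hA
  have h1 := num_le b hUB hA
  have h13 := b.thirteen
  have h2 : 2 ^ j ≤ Fintype.card ι := by rw [hn]; exact Nat.pow_le_pow_left hm j
  rcases Nat.lt_or_ge j 5 with h5 | h5
  · rcases Nat.lt_or_ge j 4 with h6 | h6
    · have h7 := tri_mono h13
      norm_num only [] at h7
      omega
    · obtain rfl : j = 4 := by omega
      have h7 := tri_mono h2
      norm_num only [] at h7
      omega
  · have h6 := two_pow_six h5
    have h7 := tri_mono (h6.trans h2)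
    have h8 : 20 * j + 4 ≤ (6 * j + 2) * (6 * j + 2 - 1) / 2 := by
      rw [Nat.le_div_iff_mul_le (by norm_num)]
      have e1 : 6 * j + 2 - 1 = 6 * j + 1 := by omega
      rw [e1]
      nlinarith only [h5]
    omega

/-- **`d = 3`** -/
theorem three (b : Big A Γ S P) {K : Type} [Field K] [Fintype K] (hc : ringChar F = ringChar K)
    (e : socle P ≃* ProjectiveSpecialLinearGroup (Fin 3) K) (hUB : Nat.card Q ≤ Nat.card A ^ 6) : False := by
  haveI : Fact (ringChar F).Prime := ⟨CharP.char_is_prime F (ringChar F)⟩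
  haveI : CharP K (ringChar F) := by rw [hc]; exact ringChar.charP K
  have hC := core_of_residual b.core
  obtain ⟨j, hj0, hj⟩ := H905.Md.psl_card (l := 2) (ringChar F) hC.absIrred hC.perfect (by norm_num)
    (fun h => by omega) e hC.no_subfield
  have hA := card_A_le b (d := 3) (by norm_num) (fun h => by omega) e
  have hj2 : Fintype.card K = Fintype.card F ^ j := by
    rw [← Nat.card_eq_fintype_card (α := K), ← Nat.card_eq_fintype_card (α := F), hj]
  rw [hj2, ← pow_mul] at hA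
  have h1 := num_le b hUB hA
  have h13 := b.thirteen
  have hge := H650.Ppd.card_ge_A (ringChar F) hC (l := 2) le_rfl e hj.symm
  have e3 : (2 + 1).choose 2 = 3 := rfl
  rw [e3] at hge
  rcases Nat.lt_or_ge j 4 with h4 | h4
  · rcases form_of_kind b with ⟨-, ho⟩ | ⟨σ, f, hf, hP⟩
    · have h5 := num_lin ho hUB hA
      have h6 : 13 ^ 2 ≤ Fintype.card ι ^ 2 := Nat.pow_le_pow_left h13 2
      omega
    · have h7 := tri_mono h13
      norm_num only [] at h7
      have h8 : j = 1 ∨ j = 2 ∨ j = 3 := by omega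
      rcases h8 with rfl | rfl | rfl
      · omega
      · have h9 := sd_three (ringChar F) hC e hf hP hj.symm le_rfl
        have h10 := tri_mono h9
        norm_num only [] at h10
        omega
      · have h9 : 21 ≤ Fintype.card ι := by omega
        have h10 := tri_mono h9
        norm_num only [] at h10
        omega
  · have h5 := H650.Ppd.four_lt_two_pow h4
    have h6 : 12 * j - 3 ≤ Fintype.card ι := by omega
    have h7 := tri_mono h6
    have h8 : 54 * j + 4 ≤ (12 * j - 3) * (12 * j - 3 - 1) / 2 := by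
      rw [Nat.le_div_iff_mul_le (by norm_num)]
      obtain ⟨i, rfl⟩ : ∃ i, j = i + 4 := ⟨j - 4, by omega⟩
      have e1 : 12 * (i + 4) - 3 = 12 * i + 45 := by omega
      have e2 : 12 * (i + 4) - 3 - 1 = 12 * i + 44 := by omega
      rw [e2, e1]
      nlinarith only []
    omega

/-- `d ≥ 4`, `|K| = 2`: the natural module of `SL` -/
theorem natural (b : Big A Γ S P) {K : Type} [Field K] [Fintype K] (hK : Fintype.card K = 2) {d : ℕ} (hd : 2 ≤ d)
    (hF : Fintype.card F = 2) (hn : Fintype.card ι = d)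
    (e : socle P ≃* ProjectiveSpecialLinearGroup (Fin d) K) : False := by
  classical
  haveI : Finite (ProjectiveSpecialLinearGroup (Fin d) K) := by
    unfold ProjectiveSpecialLinearGroup
    infer_instance
  have h1 := Nat.le_of_dvd Nat.card_pos (b.hasSoc' e).card_dvd
  have h2 := S0243.result (F := K) hK d hd
  rw [show 2 - 1 = 1 from rfl, Nat.gcd_one_right, one_mul, one_mul] at h2
  have h3 : Nat.card Q ≤ Nat.card S := Nat.card_le_card_of_surjective _ b.m.surj
  have h4 : Nat.card S ≤ Nat.card (GL ι F) := Subgroup.card_le_card_group S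
  have h5 : Nat.card (GL ι F) = Nat.card (GL (Fin d) F) := by
    have eq : ι ≃ Fin d := Fintype.equivFinOfCardEq hn
    exact Nat.card_congr (Units.mapEquiv (Matrix.reindexAlgEquiv F F eq).toMulEquiv).toEquiv
  rw [Matrix.card_GL_field, hF] at h5
  have h6 : Nat.card Q ≤ Nat.card A := by
    rw [h5, ← h2] at h4
    exact h3.trans (h4.trans h1)
  exact b.ept.max.1 (Subgroup.eq_top_of_card_eq A (le_antisymm (Subgroup.card_le_card_group A) h6))

/-- **`d ≥ 4`, `|K| = 2`** -/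
theorem four (b : Big A Γ S P) {K : Type} [Field K] [Fintype K] (hc : ringChar F = ringChar K)
    (hK : Fintype.card K = 2) {l : ℕ} (hl : 3 ≤ l)
    (e : socle P ≃* ProjectiveSpecialLinearGroup (Fin (l + 1)) K) (hUB : Nat.card Q ≤ Nat.card A ^ 5) : False := by
  haveI : Fact (ringChar F).Prime := ⟨CharP.char_is_prime F (ringChar F)⟩
  haveI : CharP K (ringChar F) := by rw [hc]; exact ringChar.charP K
  have hC := core_of_residual b.core
  have h2 := b.two_le
  have h13 := b.thirteen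
  obtain ⟨j, hj0, hj⟩ := H905.Md.psl_card (l := l) (ringChar F) hC.absIrred hC.perfect (by omega)
    (fun h => by omega) e hC.no_subfield
  have hF : Fintype.card F = 2 := by
    rw [Nat.card_eq_fintype_card, Nat.card_eq_fintype_card, hK] at hj
    refine le_antisymm ?_ h2
    rw [← hj]
    exact Nat.le_self_pow (by omega) _
  have hA := card_A_le b (d := l + 1) (by omega) (fun h => by omega) e
  have hKF : Fintype.card K = Fintype.card F := hK.trans hF.symm
  rw [hKF] at hA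
  have h1 := num_le b hUB hA
  have hn : ∀ {t : ℕ}, t ≤ Fintype.card ι → t * (t - 1) / 2 ≤ (l + 1) ^ 2 * 5 + 3 := fun ht => (tri_mono ht).trans h1
  -- the case of `SL`
  have hlin : ¬ (S = specialLinear ι F ∧ Fintype.card F ^ (Fintype.card ι ^ 2 - 2) ≤ Nat.card Q) := by
    rintro ⟨-, ho⟩
    have h5 := num_lin ho hUB hA
    have h6 : 13 ^ 2 ≤ Fintype.card ι ^ 2 := Nat.pow_le_pow_left h13 2
    by_cases hch : Fintype.card ι < (l + 1).choose 2
    · have h7 := H905.Md.psl_dim (ringChar F) hC.absIrred hC.perfect (by omega) (fun h => by omega) e (by omega)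
        (Or.inl hch)
      exact natural b hK (by omega) hF h7 e
    · push Not at hch
      have h7 : (l + 1).choose 2 * 2 = (l + 1) * l := by
        rw [Nat.choose_two_right, Nat.add_sub_cancel, Nat.div_mul_cancel]
        rw [mul_comm]
        exact (Nat.even_mul_succ_self l).two_dvd
      rcases Nat.lt_or_ge l 6 with h8 | h8
      · have h9 : l = 3 ∨ l = 4 ∨ l = 5 := by omega
        rcases h9 with rfl | rfl | rfl
        · omega
        · omega
        · have h10 : 15 ≤ Fintype.card ι := by omega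
          have h11 : 15 ^ 2 ≤ Fintype.card ι ^ 2 := Nat.pow_le_pow_left h10 2
          omega
      · have h10 : 3 * (l + 1) ≤ Fintype.card ι := by nlinarith only [hch, h7, h8]
        have h11 : (3 * (l + 1)) ^ 2 ≤ Fintype.card ι ^ 2 := Nat.pow_le_pow_left h10 2
        have h12 : (3 * (l + 1)) ^ 2 = 9 * (l + 1) ^ 2 := by ring
        have h14 : 49 ≤ (l + 1) ^ 2 := by nlinarith only [h8]
        omega
  rcases form_of_kind b with h3 | ⟨σ, f, hf, hP⟩
  · exact hlin h3
  · have hdim := sd_bound (ringChar F) hC (l := l) (by omega) e hf hP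
    rcases Nat.lt_or_ge l 4 with h4 | h4
    · obtain rfl : l = 3 := by omega
      -- even dimension
      have hev : Even (Fintype.card ι) := by
        rcases b.kind with ⟨hS, ho, -, -, -⟩ | ⟨f, hf, hS, h3, ho, -, -⟩ | ⟨q, hq, σ, f, hf, hS, -, ho, -, -⟩ |
          ⟨Qf, hQ, hS, ho, -⟩
        · exact absurd ⟨hS, ho⟩ hlin
        · omega
        · rw [hF] at hq
          exfalso
          have h5 : q < 2 := by
            by_contra h6
            push Not at h6
            have := Nat.pow_le_pow_left h6 2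
            omega
          interval_cases q <;> omega
        · have h20 : (2 : F) = 0 := by
            have := Nat.cast_card_eq_zero F
            rw [hF] at this
            exact_mod_cast this
          have hp := hQ.polar_bilinear
          have halt : ∀ v, QuadraticMap.polar Qf v v = 0 := by
            intro v
            have h0 : Qf (v + v) = 4 * Qf v := by
              have h1 := hQ.smul 2 v
              rw [two_smul] at h1
              rw [h1]; ring
            show Qf (v + v) - Qf v - Qf v = 0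
            rw [h0]
            linear_combination Qf v * h20
          have hs : IsSymplecticForm (QuadraticMap.polar Qf) := ⟨hp, fun v w => by
            have h1 : QuadraticMap.polar Qf v w = QuadraticMap.polar Qf w v := QuadraticMap.polar_comm _ _ _
            rw [h1]
            linear_combination QuadraticMap.polar Qf w v * h20, halt, hQ.nondegenerate⟩
          have h3 := Cfsg.Agent.H953.even_finrank_of_alt (Cfsg.Agent.H953.toBil hs) halt (by
            intro u hu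
            by_contra hne
            obtain ⟨-, x, hx⟩ := hQ.nondegenerate u hne
            exact hx (hu x))
          rwa [Module.finrank_fintype_fun_eq_card] at h3
      obtain ⟨r, hr⟩ := hev
      have h5 := hn (t := 14) (by omega)
      norm_num at h5
    · rcases Nat.lt_or_ge l 6 with h6 | h6
      · have h20 : 20 ≤ Fintype.card ι := by
          have h7 : l = 4 ∨ l = 5 := by omega
          rcases h7 with rfl | rfl
          · rcases hdim with h8 | ⟨t, h8, -⟩
            · exact h8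
            · omega
          · rcases hdim with h8 | ⟨t, h8, h9⟩
            · omega
            · obtain rfl : t = 3 := by omega
              have h10 : (2 * 3).choose 3 = 20 := by decide
              omega
        have h7 := hn h20
        have h8 : (l + 1) ^ 2 ≤ 6 ^ 2 := Nat.pow_le_pow_left (by omega) 2
        norm_num at h7
        omega
      · have h7 : (l + 1) * l ≤ Fintype.card ι := by
          rcases hdim with h8 | ⟨t, h8, h9⟩
          · exact h8
          · have h10 := centralBinom_ge (t := t) (by omega)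
            rw [← h8] at h10 h9
            rw [Nat.add_sub_cancel] at h10
            exact h10.trans h9
        have h8 := hn h7
        have h9 : (l + 1) ^ 2 * 5 + 4 ≤ (l + 1) * l * ((l + 1) * l - 1) / 2 := by
          rw [Nat.le_div_iff_mul_le (by norm_num)]
          obtain ⟨i, rfl⟩ : ∃ i, l = i + 6 := ⟨l - 6, by omega⟩
          have e1 : (i + 6 + 1) * (i + 6) - 1 = i ^ 2 + 13 * i + 41 := by
            have : (i + 6 + 1) * (i + 6) = i ^ 2 + 13 * i + 42 := by ring
            (clear * - this; omega)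
          rw [e1]
          have e2 : (i + 6 + 1) * (i + 6) = i ^ 2 + 13 * i + 42 := by ring
          rw [e2]
          nlinarith only []
        omega

end Big

end Cfsg.Agent.H987.EP
end

-- part: H987/EP/OwnTwo
section
/-!
# S3499-VII, own characteristic: socle `PSL(d, 2)` (helper987)
-/

set_option autoImplicit false
set_option linter.unusedSectionVars false

namespace Cfsg.Agent.H987.EP

open Subgroup Matrix Cfsg Cfsg.Geo Cfsg.Agent.H284 Cfsg.Agent.H419.EP Cfsg.Agent.H12.EP.BT Cfsg.Agent.H59.EP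
open Cfsg.Agent.H915.LD (Core Soc core_of_residual)
open scoped MatrixGroups

theorem fam_two_ge {d : ℕ} (hd : 1 ≤ d) :
    (2 ^ (d + 1) + 4) * 2 ^ (d * (d + 1) / 2) ≤ 2 ^ (d + 1) * (4 * fam 2 d) := by
  induction d, hd using Nat.le_induction with
  | base => decide
  | succ d hd ih =>
    have h1 : (d + 1) * (d + 1 + 1) / 2 = d * (d + 1) / 2 + (d + 1) := by
      have : (d + 1) * (d + 1 + 1) = d * (d + 1) + 2 * (d + 1) := by ring
      rw [this, Nat.add_mul_div_left _ _ (by norm_num)]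
    have h2 : fam 2 (d + 1) = fam 2 d * (2 ^ (d + 1) - 1) := rfl
    rw [h1, h2, pow_add 2 (d * (d + 1) / 2) (d + 1), pow_succ 2 (d + 1)]
    have hu : 4 ≤ 2 ^ (d + 1) := by
      calc 4 = 2 ^ 2 := rfl
        _ ≤ _ := Nat.pow_le_pow_right (by norm_num) (by omega)
    generalize 2 ^ (d + 1) = u at ih hu ⊢
    generalize 2 ^ (d * (d + 1) / 2) = T at ih ⊢
    generalize fam 2 d = f at ih ⊢
    obtain ⟨w, rfl⟩ : ∃ w, u = w + 4 := ⟨u - 4, by omega⟩
    have e1 : w + 4 - 1 = w + 3 := by omega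
    rw [e1]
    have h3 := Nat.mul_le_mul_left (2 * (w + 3)) ih
    calc ((w + 4) * 2 + 4) * (T * (w + 4)) ≤ 2 * (w + 3) * ((w + 4 + 4) * T) := by linarith only [Nat.zero_le (w * T)]
      _ ≤ 2 * (w + 3) * ((w + 4) * (4 * f)) := h3
      _ = (w + 4) * 2 * (4 * (f * (w + 3))) := by ring

theorem two_pow_le_fam {d : ℕ} (hd : 1 ≤ d) : 2 ^ (d * (d + 1) / 2) ≤ 4 * fam 2 d := by
  have h1 := fam_two_ge hd
  have h2 : 2 ^ (d + 1) * 2 ^ (d * (d + 1) / 2) ≤ 2 ^ (d + 1) * (4 * fam 2 d) :=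
    (Nat.mul_le_mul_right _ (by omega)).trans h1
  exact Nat.le_of_mul_le_mul_left h2 (by positivity)

theorem fam_eq_prod (b d : ℕ) : fam b d = ∏ i ∈ Finset.range d, (b ^ (i + 1) - 1) := by
  induction d with
  | zero => rfl
  | succ d ih => rw [Finset.prod_range_succ, ← ih]; rfl

/-- `|GL(d, 2)|` -/
theorem card_GL_two {K : Type*} [Field K] [Fintype K] (hK : Fintype.card K = 2) (d : ℕ) :
    Nat.card (GL (Fin d) K) = 2 ^ (d * (d - 1) / 2) * fam 2 d := by
  rw [Matrix.card_GL_field, hK]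
  have h1 : ∀ i ∈ Finset.range d, 2 ^ d - 2 ^ i = 2 ^ i * (2 ^ (d - i) - 1) := by
    intro i hi
    have := Finset.mem_range.1 hi
    rw [Nat.mul_sub, mul_one, ← pow_add]
    congr 2
    omega
  rw [Finset.prod_range (fun i => 2 ^ d - 2 ^ i) |>.symm, Finset.prod_congr rfl h1, Finset.prod_mul_distrib,
    Finset.prod_pow_eq_pow_sum, Finset.sum_range_id, fam_eq_prod]
  congr 1
  rw [← Finset.prod_range_reflect]
  refine Finset.prod_congr rfl fun i hi => ?_
  have := Finset.mem_range.1 hi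
  congr 2
  omega

theorem two_pow_le_GL {K : Type*} [Field K] [Fintype K] (hK : Fintype.card K = 2) {d : ℕ} (hd : 2 ≤ d) :
    2 ^ (d ^ 2 - 2) ≤ Nat.card (GL (Fin d) K) := by
  have h1 := two_pow_le_fam (d := d) (by omega)
  have e1 : d * (d - 1) / 2 + d * (d + 1) / 2 = d ^ 2 := by
    obtain ⟨m, rfl⟩ : ∃ m, d = m + 1 := ⟨d - 1, by omega⟩
    rw [Nat.add_sub_cancel]
    have h2 : (m + 1) * (m + 1 + 1) / 2 = (m + 1) * m / 2 + (m + 1) := by
      have : (m + 1) * (m + 1 + 1) = (m + 1) * m + 2 * (m + 1) := by ring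
      rw [this, Nat.add_mul_div_left _ _ (by norm_num)]
    have h3 : (m + 1) * m / 2 * 2 = (m + 1) * m := Nat.div_mul_cancel (by
      rw [mul_comm]; exact (Nat.even_mul_succ_self m).two_dvd)
    rw [h2]
    linarith only [h3]
  have h4 : 4 ≤ d ^ 2 := by nlinarith only [hd]
  have h5 : 4 * 2 ^ (d ^ 2 - 2) ≤ 4 * Nat.card (GL (Fin d) K) := by
    rw [card_GL_two hK]
    calc 4 * 2 ^ (d ^ 2 - 2) = 2 ^ (d ^ 2) := by
          rw [show (4 : ℕ) = 2 ^ 2 from rfl, ← pow_add]
          congr 1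
          omega
      _ = 2 ^ (d * (d - 1) / 2) * 2 ^ (d * (d + 1) / 2) := by rw [← pow_add, e1]
      _ ≤ 2 ^ (d * (d - 1) / 2) * (4 * fam 2 d) := Nat.mul_le_mul_left _ h1
      _ = 4 * (2 ^ (d * (d - 1) / 2) * fam 2 d) := by ring
  omega

section Big

variable {Q : Type} [Group Q] [Finite Q] {A : Subgroup Q} {Γ : Subgroup (MulAut Q)} {ι : Type} [Fintype ι]
    [DecidableEq ι] {F : Type} [Field F] [Fintype F] {S P : Subgroup (GL ι F)}

/-- the order of `PSL(d, 2)` and of its automorphism group -/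
theorem card_psl_two {K : Type} [Field K] [Fintype K] (hK : Fintype.card K = 2) {d : ℕ} (hd : 3 ≤ d) :
    Nat.card (ProjectiveSpecialLinearGroup (Fin d) K) = Nat.card (GL (Fin d) K) ∧
      Nat.card (MulAut (ProjectiveSpecialLinearGroup (Fin d) K)) = 2 * Nat.card (GL (Fin d) K) := by
  classical
  constructor
  · have h1 := S0243.result (F := K) hK d (by omega)
    rw [show 2 - 1 = 1 from rfl, Nat.gcd_one_right, one_mul, one_mul] at h1
    rw [h1, Matrix.card_GL_field, hK]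
  · haveI : Fact (Nat.Prime 2) := ⟨Nat.prime_two⟩
    have : NeZero d := ⟨by omega⟩
    have h1 := S0813.result (F := K) 2 1 (by norm_num) (by rw [hK]; norm_num) d (by omega) (fun h => by omega)
    have h2 : Nat.card (ProjGenLinGroup (Fin d) K) * (Fintype.card K - 1) = Nat.card (GL (Fin d) K) :=
      Cfsg.Agent.ClassicalGeometry.PSL2Basic.card_PGL_mul (Fin d) K
    rw [hK, show 2 - 1 = 1 from rfl, mul_one] at h2
    rw [h1, h2, if_neg (by omega), mul_one]

/-- **the upper bound of `|Q|`** -/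
theorem card_two (b : Big A Γ S P) (hg : TwoGen.{0}) {K : Type} [Field K] [Fintype K]
    (hK : Fintype.card K = 2) {d : ℕ} (hd : 3 ≤ d)
    (e : socle P ≃* ProjectiveSpecialLinearGroup (Fin d) K) {j : ℕ} (hj0 : 1 ≤ j) (hj : Nat.card A < 60 ^ 60 ^ j) :
    Nat.card Q ≤ Nat.card A ^ (4 + j) := by
  classical
  haveI : Fact (Nat.Prime 2) := ⟨Nat.prime_two⟩
  haveI : CharP K 2 := by
    obtain ⟨p, hp⟩ := CharP.exists K
    obtain ⟨n, hpp, hn⟩ := FiniteField.card K p
    rw [hK] at hn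
    have h3 : p ∣ 2 := hn ▸ dvd_pow_self p n.pos.ne'
    rwa [(Nat.prime_dvd_prime_iff_eq hpp Nat.prime_two).1 h3] at hp
  haveI : Finite (ProjectiveSpecialLinearGroup (Fin d) K) := by
    unfold ProjectiveSpecialLinearGroup
    infer_instance
  have hsoc := b.hasSoc' e
  have := b.core.simple
  have hL : IsSimpleGroup (ProjectiveSpecialLinearGroup (Fin d) K) := e.symm.isSimpleGroup
  have hLn : ¬ ∀ x y : ProjectiveSpecialLinearGroup (Fin d) K, x * y = y * x := by
    intro h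
    apply b.core.nonabelian
    refine ⟨⟨fun x y => e.injective ?_⟩⟩
    rw [map_mul, map_mul]
    exact h _ _
  have hF : Cfsg.Agent.KFacts.RgdFilt.HasFilt 2 (ProjectiveSpecialLinearGroup (Fin d) K) := by
    obtain ⟨n, rfl⟩ : ∃ n, d = n + 1 := ⟨d - 1, by omega⟩
    exact Cfsg.Agent.KFacts.RgdFiltClass.hasFilt_PSL n
  obtain ⟨hc1, hc2⟩ := card_psl_two hK hd
  have hGL : 0 < Nat.card (GL (Fin d) K) := Nat.card_pos
  have hle : Nat.card A ≤ 2 * Nat.card (GL (Fin d) K) := by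
    rw [← hc2]; exact hsoc.card_le
  have hdvd : Nat.card A ∣ 2 * Nat.card (GL (Fin d) K) := by
    rw [← hc2]; exact Cfsg.Agent.H107.EP.HasSoc.dvd_aut hsoc
  have hge : Nat.card (GL (Fin d) K) ≤ Nat.card A := by
    rw [← hc1]; exact Nat.le_of_dvd Nat.card_pos hsoc.card_dvd
  have ha : ¬ 2 ^ 2 * Nat.card (ProjectiveSpecialLinearGroup (Fin d) K) ∣ Nat.card A := by
    rw [hc1]
    intro h
    have := Nat.le_of_dvd Nat.card_pos h
    omega
  have hC : galSumNe 2 (Nat.card A) ≤ Nat.card A := by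
    have h1 : Nat.card A ∣ 2 ^ (d * (d - 1) / 2 + 1) * fam 2 d := by
      rw [pow_succ, mul_assoc, mul_left_comm, ← card_GL_two hK]
      exact hdvd
    calc galSumNe 2 (Nat.card A) ≤ galSum (fam 2 d) := galSumNe_le (fam_pos (by norm_num) d).ne' h1
      _ ≤ 2 ^ (d ^ 2 - 2) := galSum_fam_two hd
      _ ≤ Nat.card (GL (Fin d) K) := two_pow_le_GL hK (by omega)
      _ ≤ _ := hge
  have h1 := card_own_one b.simple b.ept hg hsoc hL hLn hF ha hj0 hj (clsLe_gal 2) hC
  omega

end Big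

end Cfsg.Agent.H987.EP
end

-- part: H987/EP/OwnFin
section
/-!
# S3499-VII, own characteristic, `n ≥ 13`: socle `PSL(d, K)`, final form (helper987)

**`ownPSL`** : `TwoGen → OwnPSL`.
-/

set_option autoImplicit false
set_option linter.unusedSectionVars false
set_option linter.style.haveILetI false

namespace Cfsg.Agent.H987.EP

open Subgroup Matrix Cfsg Cfsg.Geo Cfsg.Agent.H284 Cfsg.Agent.H419.EP Cfsg.Agent.H59.EP
open Cfsg.Agent.H915.LD (Core Soc core_of_residual)
open scoped MatrixGroups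

section Big

variable {Q : Type} [Group Q] [Finite Q] {A : Subgroup Q} {Γ : Subgroup (MulAut Q)} {ι : Type} [Fintype ι]
    [DecidableEq ι] {F : Type} [Field F] [Fintype F] {S P : Subgroup (GL ι F)}

/-- **`d = 2`** -/
theorem two' (b : Big A Γ S P) {K : Type} [Field K] [Fintype K] (hc : ringChar F = ringChar K)
    (e : socle P ≃* ProjectiveSpecialLinearGroup (Fin 2) K) (hUB : Nat.card Q ≤ Fintype.card K ^ 17) : False := by
  haveI : Fact (ringChar F).Prime := ⟨CharP.char_is_prime F (ringChar F)⟩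
  haveI : CharP K (ringChar F) := by rw [hc]; exact ringChar.charP K
  obtain ⟨j, m, hj0, hj, hm, hn⟩ := H875.Psl2.exists_pow (ringChar F) (core_of_residual b.core) e
  have h13 := b.thirteen
  have h2' := b.two_le
  have h1 : Fintype.card ι * (Fintype.card ι - 1) / 2 ≤ 17 * j + 3 := by
    have h1 : Fintype.card F ^ (Fintype.card ι * (Fintype.card ι - 1) / 2) ≤ Fintype.card F ^ (17 * j + 3) := by
      refine b.ord.trans ?_
      calc 8 * Nat.card Q ≤ Fintype.card F ^ 3 * (Fintype.card F ^ j) ^ 17 :=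
            Nat.mul_le_mul ((by norm_num : 8 = 2 ^ 3).le.trans (Nat.pow_le_pow_left h2' 3)) (by rw [← hj]; exact hUB)
        _ = Fintype.card F ^ (17 * j + 3) := by rw [← pow_mul, ← pow_add]; congr 1; ring
    exact (Nat.pow_le_pow_iff_right (by omega)).1 h1
  have h2 : 2 ^ j ≤ Fintype.card ι := by rw [hn]; exact Nat.pow_le_pow_left hm j
  rcases Nat.lt_or_ge j 5 with h5 | h5
  · have h7 := tri_mono h13
    norm_num only [] at h7
    rcases Nat.lt_or_ge j 4 with h6 | h6
    · omega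
    · obtain rfl : j = 4 := by omega
      have h8 := tri_mono h2
      norm_num only [] at h8
      omega
  · have h6 := two_pow_six h5
    have h7 := tri_mono (h6.trans h2)
    have h8 : 20 * j + 4 ≤ (6 * j + 2) * (6 * j + 2 - 1) / 2 := by
      rw [Nat.le_div_iff_mul_le (by norm_num)]
      have e1 : 6 * j + 2 - 1 = 6 * j + 1 := by omega
      rw [e1]
      nlinarith only [h5]
    omega

/-- **`d ≥ 19`, `|K| = 2`** -/
theorem four_big (b : Big A Γ S P) {K : Type} [Field K] [Fintype K] (hc : ringChar F = ringChar K)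
    (hK : Fintype.card K = 2) {l : ℕ} (hl : 18 ≤ l)
    (e : socle P ≃* ProjectiveSpecialLinearGroup (Fin (l + 1)) K) (hUB : Nat.card Q ≤ Nat.card A ^ (l + 5)) :
    False := by
  haveI : Fact (ringChar F).Prime := ⟨CharP.char_is_prime F (ringChar F)⟩
  haveI : CharP K (ringChar F) := by rw [hc]; exact ringChar.charP K
  have hC := core_of_residual b.core
  have h2 := b.two_le
  obtain ⟨j, hj0, hj⟩ := H905.Md.psl_card (l := l) (ringChar F) hC.absIrred hC.perfect (by omega)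
    (fun h => by omega) e hC.no_subfield
  have hF : Fintype.card F = 2 := by
    rw [Nat.card_eq_fintype_card, Nat.card_eq_fintype_card, hK] at hj
    refine le_antisymm ?_ h2
    rw [← hj]
    exact Nat.le_self_pow (by omega) _
  have hA := card_A_le b (d := l + 1) (by omega) (fun h => by omega) e
  rw [hK.trans hF.symm] at hA
  have h1 := num_le b hUB hA
  obtain ⟨i, rfl⟩ : ∃ i, l = i + 18 := ⟨l - 18, by omega⟩
  rcases form_of_kind b with ⟨-, ho⟩ | ⟨σ, f, hf, hP⟩
  · have h5 := num_lin ho hUB hA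
    by_cases hch : Fintype.card ι < (i + 18 + 1).choose 2
    · have h7 := H905.Md.psl_dim (ringChar F) hC.absIrred hC.perfect (by omega) (fun h => by omega) e (by omega)
        (Or.inl hch)
      exact natural b hK (by omega) hF h7 e
    · push Not at hch
      have h7 : (i + 18 + 1).choose 2 * 2 = (i + 18 + 1) * (i + 18) := by
        rw [Nat.choose_two_right, Nat.add_sub_cancel, Nat.div_mul_cancel]
        rw [mul_comm]
        exact (Nat.even_mul_succ_self _).two_dvd
      have h8 : (i + 18 + 1) * (i + 18) ≤ 2 * Fintype.card ι := by omega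
      have h9 : ((i + 18 + 1) * (i + 18)) ^ 2 ≤ (2 * Fintype.card ι) ^ 2 := Nat.pow_le_pow_left h8 2
      have h10 : (2 * Fintype.card ι) ^ 2 = 4 * Fintype.card ι ^ 2 := by ring
      have h11 : Fintype.card ι ^ 2 ≤ (i + 18 + 1) ^ 2 * (i + 18 + 5) + 2 := by omega
      rw [h10] at h9
      have h12 : 4 * ((i + 18 + 1) ^ 2 * (i + 18 + 5) + 2) < ((i + 18 + 1) * (i + 18)) ^ 2 := by
        have e1 : ((i + 18 + 1) * (i + 18)) ^ 2 = (i + 19) ^ 2 * (i ^ 2 + 36 * i + 324) := by ring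
        have e2 : 4 * ((i + 18 + 1) ^ 2 * (i + 18 + 5) + 2) = (i + 19) ^ 2 * (4 * i + 92) + 8 := by ring
        rw [e1, e2]
        have h13 : (i + 19) ^ 2 * (4 * i + 92) + 8 < (i + 19) ^ 2 * (4 * i + 93) := by linarith only [_root_.sq_nonneg (↑i : ℤ), _root_.Nat.cast_nonneg (α := ℤ) (i)]
        refine h13.trans_le (Nat.mul_le_mul_left _ ?_)
        linarith only [_root_.sq_nonneg (↑i : ℤ), _root_.Nat.cast_nonneg (α := ℤ) (i)]
      omega
  · have hdim := sd_bound (ringChar F) hC (l := i + 18) (by omega) e hf hP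
    have h7 : (i + 18 + 1) * (i + 18) ≤ Fintype.card ι := by
      rcases hdim with h8 | ⟨t, h8, h9⟩
      · exact h8
      · have h10 := centralBinom_ge (t := t) (by omega)
        rw [← h8] at h10 h9
        rw [Nat.add_sub_cancel] at h10
        exact h10.trans h9
    have h8 := (tri_mono h7).trans h1
    have h9 : (i + 18 + 1) ^ 2 * (i + 18 + 5) + 4 ≤
        (i + 18 + 1) * (i + 18) * ((i + 18 + 1) * (i + 18) - 1) / 2 := by
      rw [Nat.le_div_iff_mul_le (by norm_num)]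
      have e2 : (i + 18 + 1) * (i + 18) = i ^ 2 + 37 * i + 342 := by ring
      have e1 : (i + 18 + 1) * (i + 18) - 1 = i ^ 2 + 37 * i + 341 := by (clear * - e2; omega)
      rw [e1, e2]
      linarith only [Nat.zero_le (i ^ 3), Nat.zero_le (i ^ 4), _root_.sq_nonneg (↑i : ℤ), _root_.Nat.cast_nonneg (α := ℤ) (i)]
    omega

/-- **`|K| = 2`** -/
theorem two_field (b : Big A Γ S P) (hg : TwoGen.{0}) {K : Type} [Field K] [Fintype K]
    (hc : ringChar F = ringChar K) (hK : Fintype.card K = 2) {d : ℕ} (hd : 3 ≤ d)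
    (e : socle P ≃* ProjectiveSpecialLinearGroup (Fin d) K) : False := by
  have hA := card_A_le b (d := d) (by omega) (fun h => by omega) e
  rw [hK] at hA
  have h18 : d ≤ 18 → Nat.card Q ≤ Nat.card A ^ 5 := by
    intro h
    refine card_two b hg hK hd e (j := 1) le_rfl (hA.trans_lt ?_)
    have h1 : d ^ 2 ≤ 18 ^ 2 := Nat.pow_le_pow_left h 2
    refine (Nat.pow_le_pow_right (by norm_num) h1).trans_lt ?_
    rw [show 18 ^ 2 = 162 * 2 by norm_num, pow_mul]
    norm_num
  rcases Nat.lt_or_ge d 4 with h | h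
  · obtain rfl : d = 3 := by omega
    exact three b hc e ((h18 (by norm_num)).trans (Nat.pow_le_pow_right Nat.card_pos (by norm_num)))
  · obtain ⟨l, rfl⟩ : ∃ l, d = l + 1 := ⟨d - 1, by omega⟩
    rcases Nat.lt_or_ge l 18 with h1 | h1
    · exact four b hc hK (by omega) e (h18 (by omega))
    · have h2 : Nat.card Q ≤ Nat.card A ^ (4 + (l + 1)) := by
        refine card_two b hg hK hd e (j := l + 1) (by omega) (hA.trans_lt ?_)
        have h3 : (l + 1) ^ 2 < 60 ^ (l + 1) := by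
          have h4 : l + 1 < 2 ^ (l + 1) := Nat.lt_two_pow_self
          calc (l + 1) ^ 2 < (2 ^ (l + 1)) ^ 2 := Nat.pow_lt_pow_left h4 (by norm_num)
            _ = 4 ^ (l + 1) := by rw [← pow_mul, mul_comm, pow_mul]; norm_num
            _ ≤ 60 ^ (l + 1) := Nat.pow_le_pow_left (by norm_num) _
        calc 2 ^ (l + 1) ^ 2 < 2 ^ 60 ^ (l + 1) := Nat.pow_lt_pow_right (by norm_num) h3
          _ ≤ 60 ^ 60 ^ (l + 1) := Nat.pow_le_pow_left (by norm_num) _
      rw [show 4 + (l + 1) = l + 5 by omega] at h2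
      exact four_big b hc hK h1 e h2

end Big

/-- **Socle `PSL(d, K)` in own characteristic, dimension at least 13.** -/
theorem ownPSL (hg : TwoGen.{0}) : OwnPSL := by
  intro Q _ _ A Γ ι _ _ F _ _ S P b K _ _ d hd hd4 hc hiso
  obtain ⟨e⟩ := hiso
  rcases Nat.lt_or_ge d 3 with h | h
  · obtain rfl : d = 2 := by omega
    exact two' b hc e (H36.EPL.card_le hg b.simple b.ept (hd4 rfl) (b.hasSoc' e))
  · rcases Nat.lt_or_ge 2 (Fintype.card K) with h5 | h5
    · obtain ⟨l, rfl⟩ : ∃ l, d = l + 1 := ⟨d - 1, by omega⟩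
      haveI : Fact (ringChar F).Prime := ⟨CharP.char_is_prime F (ringChar F)⟩
      haveI : CharP K (ringChar F) := by rw [hc]; exact ringChar.charP K
      refine H470.EPO.own_big b (by omega) e ((H284.Pan.filtC_PSL (F := K) l).mono ?_)
      rw [Nat.card_eq_fintype_card]
      exact h5
    · exact two_field b hg hc (le_antisymm h5 Fintype.one_lt_card) h e

end Cfsg.Agent.H987.EP
end
end

-- part: H241/Own/ExcTwoC
section
prune_inst 0x4000000122200000000809041001c128800040000480000088002000200882005002820080011000828800000000000000000900000000000000000000000000000100411400000000080000000000000000000000000000000000000000004000000000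
set_option linter.all false
open scoped Cfsg.Agent.FastGrp

-- part: H241/Own/G2D4
section
/-!
# S3499: the socles `G₂(K)`, `³D₄(q₀)` in the characteristic of the module (helper241, task 6141)

* `dim_two` : two orthogonal strings; `long_two` : `2 * 8 ^ j ≤ |ι|` for `³D₄`, the long node alone;
* `not_g2`, `not_3d4` : the rows.
-/

set_option autoImplicit false
set_option linter.unusedSectionVars false
set_option linter.style.haveILetI false

namespace Cfsg.Agent.H241.Own

open Matrix (SpecialLinearGroup)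
open Cfsg.Agent.H911.SLTwo Cfsg.Agent.H875.Fn Cfsg.Agent.H744.Ppd
open CoxeterSystem Cfsg.Agent.ChevalleyStructure.CoxeterGeom Cfsg.Agent.Tits.Roots Cfsg.Agent.Tits.Core
  Cfsg.Agent.Tits.Exchange Cfsg.Agent.Nodes.Reps Cfsg.Agent.Nodes.BNOf Cfsg.Agent.Nodes.StabComb
  Cfsg.Agent.Nodes.Bruhat Cfsg.Agent.Nodes.OppDec Cfsg.Agent.Nodes.LeviDec Cfsg.Agent.KFacts.RgdOpp
  Cfsg.Agent.Omega.CR Cfsg.Agent.Omega.FOne.Lift.Sd Cfsg.Agent.H905.Md Cfsg.Agent.H650.Ppd

/-! ### two strings -/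

section two

variable {E : Type*} [Field E] [Fintype E] {k : Type*} [Field k] {j : E →+* k} {V : Type*} [AddCommGroup V] [Module k V]
  {R : _root_.Matrix.SpecialLinearGroup (Fin 2) E →* Module.End k V}

theorem row_zero {φ : Module.Dual k V} {v : V} (lo : ∀ t x, φ (R (Lo t) x) = φ x) (up : ∀ t, R (U t) v = v)
    (tor : ∀ s : Eˣ, ∃ a : k, R (hh s) v = a • v) (h1 : φ v = 0) (h2 : φ (R ww v) = 0)
    (g : _root_.Matrix.SpecialLinearGroup (Fin 2) E) : φ (R g v) = 0 := by
  by_cases ha : g.1 0 0 = 0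
  · have hdet := det_eq g
    rw [ha, zero_mul, zero_sub] at hdet
    have hb : g.1 0 1 ≠ 0 := by
      intro h0
      rw [h0, zero_mul, neg_zero] at hdet
      exact zero_ne_one hdet
    obtain ⟨b, hb'⟩ : ∃ b : Eˣ, (b : E) = g.1 0 1 := ⟨Units.mk0 _ hb, rfl⟩
    have e : g = ww * hh b⁻¹ * U (-(g.1 0 1 * g.1 1 1)) := by
      have hb0 : (b : E) ≠ 0 := b.ne_zero
      apply ext' <;> simp only [m00, m01, m10, m11, hh00, hh01, hh10, hh11, U00, U01, U10, U11, ww00, ww01, ww10, ww11,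
        inv_inv, Units.val_inv_eq_inv_val, ha, ← hb']
      · simp
      · simp
      · have h1 : g.1 1 0 = -(b : E)⁻¹ := by
          field_simp
          rw [hb']
          linear_combination -hdet
        rw [h1]; ring
      · field_simp
        ring
    obtain ⟨a, hs⟩ := tor b⁻¹
    rw [e, map_mul, map_mul, Module.End.mul_apply, Module.End.mul_apply, up, hs, map_smul, map_smul, h2, smul_zero]
  · obtain ⟨a, ha'⟩ : ∃ a : Eˣ, (a : E) = g.1 0 0 := ⟨Units.mk0 _ ha, rfl⟩
    have hdet := det_eq g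
    have e : g = Lo (g.1 1 0 * (g.1 0 0)⁻¹) * hh a * U ((g.1 0 0)⁻¹ * g.1 0 1) := by
      apply ext' <;> simp only [m00, m01, m10, m11, hh00, hh01, hh10, hh11, U00, U01, U10, U11, Lo00, Lo01, Lo10, Lo11,
        Units.val_inv_eq_inv_val, ha'] <;> field_simp <;> (try ring1)
      linear_combination hdet
    have e2 : R g v = R (Lo (g.1 1 0 * (g.1 0 0)⁻¹)) (R (hh a) (R (U ((g.1 0 0)⁻¹ * g.1 0 1)) v)) := by
      conv_lhs => rw [e]
      rw [map_mul, map_mul, Module.End.mul_apply, Module.End.mul_apply]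
    obtain ⟨x, hs⟩ := tor a
    rw [e2, lo, up, hs, map_smul, h1, smul_zero]

variable (p : ℕ) [hp : Fact p.Prime] [CharP k p]

end two

/-! ### the vertices -/

section hx

variable {W Y : Type*} [Group W] [Group Y] {cs : CoxeterSystem CoxeterMatrix.G₂ W} {A : Fin 2 → Fin 2 → ℤ}
  {h : IsCartan CoxeterMatrix.G₂ A} {p : ℕ} {T : Subgroup Y} {n : Fin 2 → Y} {X : (Fin 2 → ℤ) → Subgroup Y}
  {K E : Type*} [Field K] [Field E] {k V : Type*} [Field k] [AddCommGroup V] [Module k V]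
  {R : RGD cs h p T n X} {s l : Fin 2} {ss : _root_.Matrix.SpecialLinearGroup (Fin 2) K →* Y}
  {sl : _root_.Matrix.SpecialLinearGroup (Fin 2) E →* Y} {ε : E →+* K} {N : Kˣ → Eˣ} {f : ℕ} [Finite Y] [Finite W] [Fact p.Prime]
  [CharP k p] {ρ : Y →* Module.End k V} [FiniteDimensional k V] [Nontrivial V]
  (H : Hx R s l ss sl ε N f) (hirr : ∀ L : Submodule k V, Ivt ρ (GG cs h T X) L → L = ⊥ ∨ L = ⊤)
  {v₀ : V} (hv₀ : v₀ ∈ D cs h X ρ) {φ₀ : Module.Dual k V} (hφ₀ : φ₀ ∈ fx ((dualRep ρ :)) (UN cs h X)) (hne : φ₀ v₀ ≠ 0)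

/-- the representatives of the vertices -/
local notation "g6" => ((![1, sl ww, ss ww * sl ww, sl ww * (ss ww * sl ww),
    ss ww * (sl ww * (ss ww * sl ww)), sl ww * (ss ww * (sl ww * (ss ww * sl ww)))] : Fin 6 → Y))

include H hirr hv₀ hφ₀

include hne

/-- the string of the short node through the fourth vertex -/
theorem str_four [Fintype K] (hl : l ∉ Jx cs h X ρ) (j : K →+* k) {c : ℕ} (h1 : 1 ≤ c) (h2 : c ≤ Fintype.card K - 1)
    (htor : ∀ t : Kˣ, ρ (ss (hh t)) (ρ (sl ww * (ss ww * sl ww)) v₀) = j (t : K) ^ c • ρ (sl ww * (ss ww * sl ww)) v₀) :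
    Str j (ρ.comp ss) (dualRep ρ (sl ww * (ss ww * sl ww)) φ₀) (ρ (sl ww * (ss ww * sl ww)) v₀) c := by
  refine str_of_rgd R hirr j (H.wl.mul (H.ws.mul H.wl)) (i := s) ?_ ?_ (fun t => (H.Ns.up _).2 ⟨t, rfl⟩)
    (fun t => (H.Ns.lo _).2 ⟨t, rfl⟩) H.ws hv₀ hφ₀ hne h1 h2 htor
  · intro i
    rw [mul_inv_rev, mul_inv_rev, inv_simple, inv_simple, rep_mul_apply, rep_mul_apply]
    rcases H.cases i with rfl | rfl
    · simp only [(H.rep_l _).1, (H.rep_l _).2, (H.rep_s _).1, sr_self, sr_ne (Ne.symm H.ne)]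
      norm_num
    · simp only [(H.rep_l _).1, (H.rep_l _).2, (H.rep_s _).1, (H.rep_s _).2, sr_self, sr_ne (Ne.symm H.ne)]
      norm_num
  · intro hw
    have h3 := coord_of_mem_WJ (h := h) hw (sr s) hl
    rw [mul_inv_rev, mul_inv_rev, inv_simple, inv_simple] at h3
    simp only [rep_mul_apply, (H.rep_l _).1, (H.rep_l _).2, (H.rep_s _).1, (H.rep_s _).2, sr_self,
      sr_ne (Ne.symm H.ne)] at h3
    norm_num at h3

end hx

/-! ### `³D₄` -/

section d4

open Cfsg Cfsg.Geo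
open Cfsg.Agent.H911 (lin)
open Cfsg.Lie Cfsg.Agent.ChevalleyStructure Cfsg.Agent.ChevalleyStructure.CoxeterGeomTypes
open Cfsg.Agent.Nodes.RGDTwD4 (isCartan)
open Cfsg.Agent.Nodes.RGDFoldSL (Fx mem_Fx)
open Cfsg.Agent.H744.Ppd.D4

universe u

/-- the Coxeter system -/
local notation "cs4" => CoxeterMatrix.toCoxeterSystem CoxeterMatrix.G₂

variable {F : Type u} [Field F] [Finite F] {ι : Type} [Fintype ι] [DecidableEq ι] [Nonempty ι]
  {P : Subgroup (Matrix.GeneralLinearGroup ι F)}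
  (p : ℕ) [hp : Fact p.Prime] [CharP F p] {K : Type} [Field K] [Fintype K] [CharP K p] {q : ℕ} {φ : K →+* K}
  (hK : Fintype.card K = q ^ 3) (hφ : ∀ x, φ x = x ^ q)
  {θ : ↥(twistedD4 K q) →* Matrix.GeneralLinearGroup ι F} (hθ : θ.range = P)
  (hP : ActsAbsolutelyIrreducibly (matrixSet P))

/-- the root groups -/
local notation "Jn" => Jx cs4 isCartan (Nodes.RGDTwD4.X φ q) (lin (acRep θ))

include p hK hφ hθ hP

end d4

/-! ### orders -/

section orders

theorem conj_inj {S : Type*} [Group S] (hs : IsSimpleGroup S) (hna : ¬ IsMulCommutative S) :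
    Function.Injective (MulAut.conj : S →* MulAut S) := by
  rw [← MonoidHom.ker_eq_bot_iff]
  rcases (inferInstance : (MonoidHom.ker (MulAut.conj : S →* MulAut S)).Normal).eq_bot_or_eq_top with h | h
  · exact h
  · exfalso
    apply hna
    refine ⟨⟨fun a b => ?_⟩⟩
    have h1 : a ∈ MonoidHom.ker (MulAut.conj : S →* MulAut S) := h ▸ Subgroup.mem_top a
    have h2 := DFunLike.congr_fun (MonoidHom.mem_ker.1 h1) b
    rw [MulAut.conj_apply, MulAut.one_apply] at h2
    exact mul_inv_eq_iff_eq_mul.1 h2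

theorem three_mul_le (f : ℕ) (hf : 1 ≤ f) : 3 * f ≤ 4 ^ f := by
  induction f, hf using Nat.le_induction with
  | base => norm_num
  | succ f hf ih => rw [pow_succ]; omega

end orders

/-! ### the rows -/

section rows

open Cfsg Cfsg.Geo
open Cfsg.Agent.H419.EP Cfsg.Agent.H915.LD Cfsg.Agent.H100.Ppd
open scoped MatrixGroups

variable {Q : Type} [Group Q] [Finite Q] {A : Subgroup Q} {Γ : Subgroup (MulAut Q)} {ι : Type} [Fintype ι]
    [DecidableEq ι] {F : Type} [Field F] [Fintype F] {S P : Subgroup (GL ι F)}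

theorem nonempty_of_big (b : Big A Γ S P) : Nonempty ι := Fintype.card_pos_iff.1 (by have := b.thirteen; omega)

end rows

end Cfsg.Agent.H241.Own
end

-- part: H241/Own/UBTwo
section
/-!
# S3499: the order bound for the exceptional socles over the field with two elements (helper241)

`ub_F4`, `ub_E6`, `ub_E7`, `ub_E8`, `ub_2E6`, `ub_3D4` : `10000 |Q| ≤ 14 |A| ^ 5` and `|A| ≤ |Aut L|` (a number).
-/

set_option autoImplicit false
set_option linter.unusedSectionVars false
set_option linter.style.haveILetI false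

namespace Cfsg.Agent.H241.Own

open Cfsg Cfsg.Geo
open Cfsg.Agent.H419.EP Cfsg.Agent.H59.EP Cfsg.Agent.H12.EP.BT
open Cfsg.Agent.KFacts.RgdFilt
open scoped MatrixGroups

variable {Q : Type} [Group Q] [Finite Q] {A : Subgroup Q} {Γ : Subgroup (MulAut Q)} {ι : Type} [Fintype ι]
    [DecidableEq ι] {F : Type} [Field F] [Fintype F] {S P : Subgroup (GL ι F)}

theorem simple_of (b : Big A Γ S P) {L : Type} [Group L] (e : socle P ≃* L) :
    IsSimpleGroup L ∧ ¬ ∀ x y : L, x * y = y * x := by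
  refine ⟨?_, fun h => b.core.nonabelian ⟨⟨fun x y => ?_⟩⟩⟩
  · haveI := b.core.simple
    exact e.symm.isSimpleGroup
  · apply e.injective
    rw [map_mul, map_mul]
    exact h _ _

/-- **the order bound over the field with two elements** -/
theorem ub_two (hg : TwoGen.{0}) (b : Big A Γ S P) {L : Type} [Group L] (e : socle P ≃* L) (hF : HasFilt 2 L)
    {M o N k : ℕ} (hM : Nat.card L = M) (ho : Nat.card (Cfsg.Out L) = o) (h0 : M ≠ 0) (h4 : ¬ 4 ∣ o) (hk : k ≠ 0)
    (hd : M * o ∣ 2 ^ N * k) (hgal : galSum k ≤ M) (h60 : M * o < 60 ^ 60) :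
    10000 * Nat.card Q ≤ Nat.card A ^ 5 * 14 ∧ Nat.card A ≤ M * o := by
  have hfin : Finite L := Nat.finite_of_card_ne_zero (by rw [hM]; exact h0)
  obtain ⟨hL, hLn⟩ := simple_of b e
  have hsoc := b.hasSoc' e
  have hna : ¬ IsMulCommutative L := fun h => hLn fun x y => h.is_comm.comm x y
  have hA1 : Nat.card A ∣ M * o := by
    obtain ⟨f, hf⟩ := hsoc.exists_hom
    rw [← hM, ← ho, ← Cfsg.Agent.H107.PglExc.card_mulAut (conj_inj hL hna)]
    exact Subgroup.card_dvd_of_injective f hf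
  have hA2 : M ∣ Nat.card A := hM ▸ hsoc.card_dvd
  have ho0 : o ≠ 0 := fun h => h4 (h ▸ dvd_zero 4)
  have hAle : Nat.card A ≤ M * o := Nat.le_of_dvd (Nat.pos_of_ne_zero (Nat.mul_ne_zero h0 ho0)) hA1
  have hMA : M ≤ Nat.card A := Nat.le_of_dvd Nat.card_pos hA2
  have : Fact (Nat.Prime 2) := ⟨Nat.prime_two⟩
  refine ⟨?_, hAle⟩
  refine card_own_one (j := 1) b.simple b.ept hg hsoc hL hLn hF (p := 2) ?_ le_rfl ?_ (clsLe_gal 2) ?_
  · intro h
    apply h4
    have h1 : M * 4 ∣ M * o := by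
      rw [hM] at h
      exact (by rw [mul_comm]; exact h : M * 4 ∣ Nat.card A).trans hA1
    exact Nat.dvd_of_mul_dvd_mul_left (Nat.pos_of_ne_zero h0) h1
  · rw [pow_one]
    omega
  · exact ((galSumNe_le hk (hA1.trans hd)).trans hgal).trans hMA

variable {K : Type} [Field K] [Fintype K]

theorem charP_two {n : ℕ} (hK : Fintype.card K = 2 ^ n) : CharP K 2 := by
  obtain ⟨p, hp⟩ := CharP.exists K
  have hpp : p.Prime := CharP.char_is_prime K p
  obtain ⟨k, -, hk⟩ := FiniteField.card K p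
  have h1 : p ∣ 2 ^ n := by
    rw [← hK, hk]
    exact dvd_pow_self p k.ne_zero
  have h2 := (Nat.prime_dvd_prime_iff_eq hpp Nat.prime_two).1 (hpp.dvd_of_dvd_pow h1)
  exact h2 ▸ hp

theorem ub_F4 (hg : TwoGen.{0}) (b : Big A Γ S P) (hK : Fintype.card K = 2)
    (e : socle P ≃* ↥(Lie.chevF4.group K)) :
    10000 * Nat.card Q ≤ Nat.card A ^ 5 * 14 ∧ Nat.card A ≤ 3311126603366400 * 2 := by
  have : Fact (Nat.Prime 2) := ⟨Nat.prime_two⟩
  have hc : CharP K 2 := charP_two (n := 1) (by rw [hK, pow_one])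
  refine ub_two hg b e (Cfsg.Agent.KFacts.RgdFiltChev.hasFilt_F4 K 2) (N := 25) (k := 3 ^ 6 * 5 ^ 2 * 7 ^ 2 * 13 * 17) ?_ ?_ (by norm_num)
    (by norm_num) (by norm_num) (by norm_num) ?_ (by norm_num)
  · rw [S1062.result hK]
    norm_num
  · rw [S2122.result 2 1 (by rw [hK, pow_one])]
    norm_num
  · exact galSum_of_list [(3, 6), (5, 2), (7, 2), (13, 1), (17, 1)] (by intro x hx; fin_cases hx <;> norm_num)
      (by decide) (by norm_num) (by decide +kernel)

theorem ub_E6 (hg : TwoGen.{0}) (b : Big A Γ S P) (hK : Fintype.card K = 2)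
    (e : socle P ≃* ↥(Lie.chevE6.group K)) :
    10000 * Nat.card Q ≤ Nat.card A ^ 5 * 14 ∧ Nat.card A ≤ 214841575522005575270400 * 2 := by
  have : Fact (Nat.Prime 2) := ⟨Nat.prime_two⟩
  have hc : CharP K 2 := charP_two (n := 1) (by rw [hK, pow_one])
  refine ub_two hg b e (Cfsg.Agent.KFacts.RgdFiltChev.hasFilt_E6 K 2) (N := 37) (k := 3 ^ 6 * 5 ^ 2 * 7 ^ 3 * 13 * 17 * 31 * 73) ?_ ?_ (by norm_num)
    (by norm_num) (by norm_num) (by norm_num) ?_ (by norm_num)
  · have h1 := S1063.result (F := K) hK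
    norm_num only [_root_.one_mul] at h1
    exact h1
  · rw [S2123.result 2 1 (by rw [hK, pow_one])]
    norm_num
  · exact galSum_of_list [(3, 6), (5, 2), (7, 3), (13, 1), (17, 1), (31, 1), (73, 1)]
      (by intro x hx; fin_cases hx <;> norm_num) (by decide) (by norm_num) (by decide +kernel)

theorem ub_E7 (hg : TwoGen.{0}) (b : Big A Γ S P) (hK : Fintype.card K = 2)
    (e : socle P ≃* ↥(Lie.chevE7.group K)) :
    10000 * Nat.card Q ≤ Nat.card A ^ 5 * 14 ∧ Nat.card A ≤ 7997476042075799759100487262680802918400 * 1 := by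
  have : Fact (Nat.Prime 2) := ⟨Nat.prime_two⟩
  have hc : CharP K 2 := charP_two (n := 1) (by rw [hK, pow_one])
  refine ub_two hg b e (Cfsg.Agent.KFacts.RgdFiltChev.hasFilt_E7 K 2) (N := 63)
    (k := 3 ^ 11 * 5 ^ 2 * 7 ^ 3 * 11 * 13 * 17 * 19 * 31 * 43 * 73 * 127) ?_ ?_ (by norm_num)
    (by norm_num) (by norm_num) (by norm_num) ?_ (by norm_num)
  · have h1 := S1064.result (F := K) hK
    norm_num only [_root_.one_mul] at h1
    exact h1
  · rw [S2124.result 2 1 (by rw [hK, pow_one])]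
    norm_num
  · exact galSum_of_list [(3, 11), (5, 2), (7, 3), (11, 1), (13, 1), (17, 1), (19, 1), (31, 1), (43, 1), (73, 1),
      (127, 1)] (by intro x hx; fin_cases hx <;> norm_num) (by decide) (by norm_num) (by decide +kernel)

theorem ub_E8 (hg : TwoGen.{0}) (b : Big A Γ S P) (hK : Fintype.card K = 2)
    (e : socle P ≃* ↥(Lie.chevE8.group K)) :
    10000 * Nat.card Q ≤ Nat.card A ^ 5 * 14 ∧
      Nat.card A ≤ 337804753143634806261388190614085595079991692242467651576160959909068800000 * 1 := by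
  have : Fact (Nat.Prime 2) := ⟨Nat.prime_two⟩
  have hc : CharP K 2 := charP_two (n := 1) (by rw [hK, pow_one])
  refine ub_two hg b e (Cfsg.Agent.KFacts.RgdFiltChev.hasFilt_E8 K 2) (N := 120)
    (k := 3 ^ 13 * 5 ^ 5 * 7 ^ 4 * 11 ^ 2 * 13 ^ 2 * 17 ^ 2 * 19 * 31 ^ 2 * 41 * 43 * 73 * 127 * 151 * 241 * 331)
    ?_ ?_ (by norm_num) (by norm_num) (by norm_num) (by norm_num) ?_ (by norm_num)
  · have h1 := S1065.result (F := K) hK
    norm_num only [] at h1
    exact h1
  · rw [S2125.result 2 1 (by rw [hK, pow_one])]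
  · exact galSum_of_list [(3, 13), (5, 5), (7, 4), (11, 2), (13, 2), (17, 2), (19, 1), (31, 2), (41, 1), (43, 1),
      (73, 1), (127, 1), (151, 1), (241, 1), (331, 1)] (by intro x hx; fin_cases hx <;> norm_num) (by decide)
      (by norm_num) (by decide +kernel)

theorem ub_2E6 (hg : TwoGen.{0}) (b : Big A Γ S P) (hK : Fintype.card K = 2 ^ 2)
    (e : socle P ≃* ↥(Lie.twistedE6 K 2)) :
    10000 * Nat.card Q ≤ Nat.card A ^ 5 * 14 ∧ Nat.card A ≤ 76532479683774853939200 * 6 := by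
  have : Fact (Nat.Prime 2) := ⟨Nat.prime_two⟩
  have hc : CharP K 2 := charP_two (n := 2) hK
  have hq : IsPrimePow 2 := Nat.prime_two.isPrimePow
  refine ub_two hg b e (Cfsg.Agent.KFacts.RgdFiltTwAll.hasFilt_E6 hq hK 2) (N := 37)
    (k := 3 ^ 10 * 5 ^ 2 * 7 ^ 2 * 11 * 13 * 17 * 19) ?_ ?_ (by norm_num)
    (by norm_num) (by norm_num) (by norm_num) ?_ (by norm_num)
  · have h1 := S1066.result hq hK
    norm_num only [] at h1
    omega
  · have h1 := S2130.result (K := K) 2 1 (by rw [hK]) le_rfl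
    norm_num only [] at h1
    exact h1
  · exact galSum_of_list [(3, 10), (5, 2), (7, 2), (11, 1), (13, 1), (17, 1), (19, 1)]
      (by intro x hx; fin_cases hx <;> norm_num) (by decide) (by norm_num) (by decide +kernel)

theorem ub_3D4 (hg : TwoGen.{0}) (b : Big A Γ S P) (hK : Fintype.card K = 2 ^ 3)
    (e : socle P ≃* ↥(Lie.twistedD4 K 2)) :
    10000 * Nat.card Q ≤ Nat.card A ^ 5 * 14 ∧ Nat.card A ≤ 211341312 * 3 := by
  have : Fact (Nat.Prime 2) := ⟨Nat.prime_two⟩
  have hc : CharP K 2 := charP_two (n := 3) hK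
  have hq : IsPrimePow 2 := Nat.prime_two.isPrimePow
  refine ub_two hg b e (Cfsg.Agent.KFacts.RgdFiltTwAll.hasFilt_D4 hq hK 2) (N := 12)
    (k := 3 ^ 5 * 7 ^ 2 * 13) ?_ ?_ (by norm_num) (by norm_num) (by norm_num) (by norm_num) ?_ (by norm_num)
  · rw [S1067.result hq hK]
    norm_num
  · have h1 := S2129.result (K := K) 2 1 (by rw [hK]) le_rfl
    norm_num only [] at h1
    exact h1
  · exact galSum_of_list [(3, 5), (7, 2), (13, 1)]
      (by intro x hx; fin_cases hx <;> norm_num) (by decide) (by norm_num) (by decide +kernel)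

end Cfsg.Agent.H241.Own
end

-- part: H243/EP/Weyl
section
/-!
# `27 ≤ |W(E₆) : W_J|` (helper243)
-/

set_option autoImplicit false
set_option linter.style.longLine false

namespace Cfsg.Agent.H243.EP

open CoxeterSystem Cfsg.Agent.ChevalleyStructure.CoxeterGeom Cfsg.Agent.Tits.Roots Cfsg.Agent.Tits.Core
  Cfsg.Agent.H905.DC Cfsg.Agent.H2.Ppd

/-- vectors from their codes -/
private def vl (n : ℕ) (L : List ℕ) : List (Fin n → ℤ) :=
  L.map fun c j => Int.subNatNat (Nat.mod (Nat.shiftRight c (Nat.mul 3 j.1)) 8) 4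

private theorem _root_.Cfsg.Agent.KO27864e8.e0.{ku, kv} {α : Type kv} {M : List α → Sort ku} (φ : ∀ l, M l) {z : M List.nil} {s : ∀ a l, M l → M (List.cons a l)} (h0 : φ List.nil = z) (hs : ∀ a l, φ (List.cons a l) = s a l (φ l)) (l : List α) : φ l = @List.rec α M z s l := List.rec h0 (fun a l ih => (hs a l).trans (congrArg (s a l) ih)) l
private noncomputable def _root_.Cfsg.Agent.KO27864e8.k1.{ku0} : type_of% @List.all.{ku0} := @(fun x0 x1 x2 => @List.rec.{(ku0+1), ku0} @x0 @(fun x3 => (@x0 → @Bool) → @Bool) @(fun x3 => @Bool.true) @(fun x3 x4 x5 x6 => @Bool.rec.{1} @(fun x7 => @Bool) @Bool.false (@x5 @x6) (@x6 @x3)) @x1 @x2)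
private theorem _root_.Cfsg.Agent.KO27864e8.e1.{ku0} : @List.all.{ku0} = @_root_.Cfsg.Agent.KO27864e8.k1.{ku0} := by delta _root_.Cfsg.Agent.KO27864e8.k1; funext a0 a1 a2; refine (congrFun (_root_.Cfsg.Agent.KO27864e8.e0 (fun a1 a2 => @List.all.{ku0} a0 a1 a2) ?_ (fun c0 c1 => ?_) a1) a2 :) <;> (rfl')
private theorem _root_.Cfsg.Agent.KO27864e8.e2.{ku} {M : Nat → Sort ku} (φ : ∀ n, M n) {z : M Nat.zero} {s : ∀ n, M n → M (Nat.succ n)} (h0 : φ Nat.zero = z) (hs : ∀ n, φ (Nat.succ n) = s n (φ n)) (n : Nat) : φ n = @Nat.rec M z s n := Nat.rec h0 (fun n ih => (hs n).trans (congrArg (s n) ih)) n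
private noncomputable def _root_.Cfsg.Agent.KO27864e8.k3.{ku0} : type_of% @Fin.foldr.loop.{ku0} := @(fun x0 x1 x2 x3 x4 x5 => @Nat.rec.{ku0} @(fun x6 => (@LE.le.{0} _ _ @x6 @x1) → @x0 → @x0) @(fun x6 x7 => @x7) @(fun x6 x7 x8 x9 => @x7 (@Nat.le_of_lt _ _ @x8) (@x2 (@Fin.mk _ @x6 @x8) @x9)) @x3 @x4 @x5)
private theorem _root_.Cfsg.Agent.KO27864e8.e3.{ku0} : @Fin.foldr.loop.{ku0} = @_root_.Cfsg.Agent.KO27864e8.k3.{ku0} := by delta _root_.Cfsg.Agent.KO27864e8.k3; funext a0 a1 a2 a3 a4 a5; refine (congrFun (congrFun (_root_.Cfsg.Agent.KO27864e8.e2 (fun a3 a4 a5 => @Fin.foldr.loop.{ku0} a0 a1 a2 a3 a4 a5) ?_ (fun c0 => ?_) a3) a4) a5 :) <;> (rfl')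
private noncomputable def _root_.Cfsg.Agent.KO27864e8.k4 : type_of% @Nat.decEq := @(fun x0 x1 => @Bool.rec.{1} @(fun x2 => (@Eq.{1} _ (@Nat.beq @x0 @x1) @x2) → @Decidable (@Eq.{1} _ @x0 @x1)) @(fun x2 => @Decidable.isFalse _ (@Nat.ne_of_beq_eq_false _ _ @x2)) @(fun x2 => @Decidable.isTrue _ (@Nat.eq_of_beq_eq_true _ _ @x2)) (@Nat.beq @x0 @x1) (@Eq.refl.{1} _ (@Nat.beq @x0 @x1)))
private theorem _root_.Cfsg.Agent.KO27864e8.e4 : @Nat.decEq = @_root_.Cfsg.Agent.KO27864e8.k4 := by delta _root_.Cfsg.Agent.KO27864e8.k4; rfl'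
private noncomputable def _root_.Cfsg.Agent.KO27864e8.k5 : type_of% @Int.decEq := @(fun x0 x1 => @Int.rec.{1} @(fun x2 => @Decidable (@Eq.{1} _ @x2 @x1)) @(fun x2 => @Int.rec.{1} @(fun x3 => @Decidable (@Eq.{1} _ (@Int.ofNat @x2) @x3)) @(fun x3 => @Decidable.rec.{1} _ @(fun x4 => @Decidable (@Eq.{1} _ (@Int.ofNat @x2) (@Int.ofNat @x3))) @(fun x4 => @Decidable.isFalse _ (@Int.decEq._proof_2 @x2 @x3 @x4)) @(fun x4 => @Decidable.isTrue _ (@Int.decEq._proof_1 @x2 @x3 @x4)) (@Cfsg.Agent.KO27864e8.k4 @x2 @x3)) @(fun x3 => @Decidable.isFalse _ (@Int.decEq._proof_3 @x2 @x3)) @x1) @(fun x2 => @Int.rec.{1} @(fun x3 => @Decidable (@Eq.{1} _ (@Int.negSucc @x2) @x3)) @(fun x3 => @Decidable.isFalse _ (@Int.decEq._proof_4 @x2 @x3)) @(fun x3 => @Decidable.rec.{1} _ @(fun x4 => @Decidable (@Eq.{1} _ (@Int.negSucc @x2) (@Int.negSucc @x3))) @(fun x4 => @Decidable.isFalse _ (@Int.decEq._proof_6 @x2 @x3 @x4)) @(fun x4 => @Decidable.isTrue _ (@Int.decEq._proof_5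 @x2 @x3 @x4)) (@Cfsg.Agent.KO27864e8.k4 @x2 @x3)) @x1) @x0)
private theorem _root_.Cfsg.Agent.KO27864e8.e5 : @Int.decEq = @_root_.Cfsg.Agent.KO27864e8.k5 := by delta _root_.Cfsg.Agent.KO27864e8.k5; rewrite [← Cfsg.Agent.KO27864e8.e4]; rfl'
private noncomputable def _root_.Cfsg.Agent.KO27864e8.k6 : (by first | exact type_of% @Cfsg.Agent.H2.Ppd.eqv | exact Unit : Sort _) := by first | (refine @Subtype.val _ (fun g => @Cfsg.Agent.H2.Ppd.eqv = @g) (@Subtype.mk _ _ (@(fun x0 x1 x2 => @Cfsg.Agent.KO27864e8.k1.{0} _ (@Cfsg.Agent.KO27864e8.k3.{1} _ @x0 @(fun x3 x4 => @x3 :: @x4) @x0 (@Nat.le_refl @x0) []) @(fun x3 => @Decidable.rec.{1} _ @(fun x4 => @Bool) @(fun x4 => @Bool.false) @(fun x4 => @Bool.true) (@Cfsg.Agent.KO27864e8.k5 (@x1 @x3) (@x2 @x3))))) ?_); rewrite [← Cfsg.Agent.KO27864e8.e5, ← Cfsg.Agent.KO27864e8.e3.{1}, ← Cfsg.Agent.KO27864e8.e1.{0}]; rfl') | exact @Cfsg.Agent.H2.Ppd.eqv | exact ()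
private theorem _root_.Cfsg.Agent.KO27864e8.e6 : (by first | exact @Cfsg.Agent.H2.Ppd.eqv = @_root_.Cfsg.Agent.KO27864e8.k6 | exact True : Prop) := by first | (delta _root_.Cfsg.Agent.KO27864e8.k6; exact @Subtype.property _ (fun g => @Cfsg.Agent.H2.Ppd.eqv = @g) _) | rfl | trivial
private noncomputable def _root_.Cfsg.Agent.KO27864e8.k7.{ku0} : type_of% @List.any.{ku0} := @(fun x0 x1 x2 => @List.rec.{(ku0+1), ku0} @x0 @(fun x3 => (@x0 → @Bool) → @Bool) @(fun x3 => @Bool.false) @(fun x3 x4 x5 x6 => @Bool.rec.{1} @(fun x7 => @Bool) (@x5 @x6) @Bool.true (@x6 @x3)) @x1 @x2)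
private theorem _root_.Cfsg.Agent.KO27864e8.e7.{ku0} : @List.any.{ku0} = @_root_.Cfsg.Agent.KO27864e8.k7.{ku0} := by delta _root_.Cfsg.Agent.KO27864e8.k7; funext a0 a1 a2; refine (congrFun (_root_.Cfsg.Agent.KO27864e8.e0 (fun a1 a2 => @List.any.{ku0} a0 a1 a2) ?_ (fun c0 c1 => ?_) a1) a2 :) <;> (rfl')
private noncomputable def _root_.Cfsg.Agent.KO27864e8.k8 : type_of% @Int.add := @(fun x0 x1 => @Int.rec.{1} @(fun x2 => ℤ) @(fun x2 => @Int.rec.{1} @(fun x3 => ℤ) @(fun x3 => @Int.ofNat (@Nat.add @x2 @x3)) @(fun x3 => @Nat.rec.{1} @(fun x4 => ℤ) (@Int.ofNat (@Nat.sub @x2 (@Nat.succ @x3))) @(fun x4 x5 => @Int.negSucc @x4) (@Nat.sub (@Nat.succ @x3) @x2)) @x1) @(fun x2 => @Int.rec.{1} @(fun x3 => ℤ) @(fun x3 => @Nat.rec.{1} @(fun x4 => ℤ) (@Int.ofNat (@Nat.sub @x3 (@Nat.succ @x2))) @(fun x4 x5 => @Int.negSucc @x4) (@Nat.sub (@Nat.succ @x2) @x3)) @(fun x3 => @Int.negSucc (@Nat.succ (@Nat.add @x2 @x3))) @x1) @x0)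
private theorem _root_.Cfsg.Agent.KO27864e8.e8 : @Int.add = @_root_.Cfsg.Agent.KO27864e8.k8 := by delta _root_.Cfsg.Agent.KO27864e8.k8; rfl'
private noncomputable def _root_.Cfsg.Agent.KO27864e8.k9 : type_of% @Int.mul := @(fun x0 x1 => @Int.rec.{1} @(fun x2 => ℤ) @(fun x2 => @Int.rec.{1} @(fun x3 => ℤ) @(fun x3 => @Int.ofNat (@Nat.mul @x2 @x3)) @(fun x3 => @Nat.rec.{1} @(fun x4 => ℤ) (@Int.ofNat (nat_lit 0)) @(fun x4 x5 => @Int.negSucc @x4) (@Nat.mul @x2 (@Nat.succ @x3))) @x1) @(fun x2 => @Int.rec.{1} @(fun x3 => ℤ) @(fun x3 => @Nat.rec.{1} @(fun x4 => ℤ) (@Int.ofNat (nat_lit 0)) @(fun x4 x5 => @Int.negSucc @x4) (@Nat.mul (@Nat.succ @x2) @x3)) @(fun x3 => @Int.ofNat (@Nat.mul (@Nat.succ @x2) (@Nat.succ @x3))) @x1) @x0)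
private theorem _root_.Cfsg.Agent.KO27864e8.e9 : @Int.mul = @_root_.Cfsg.Agent.KO27864e8.k9 := by delta _root_.Cfsg.Agent.KO27864e8.k9; rfl'
private noncomputable def _root_.Cfsg.Agent.KO27864e8.k10.{ku0} : (by first | exact type_of% @Cfsg.Agent.H905.DC.fire.{ku0} | exact Unit : Sort _) := by first | (refine @Subtype.val _ (fun g => @Cfsg.Agent.H905.DC.fire.{ku0} = @g) (@Subtype.mk _ _ (@(fun x0 x1 x2 x3 x4 => @Cfsg.Agent.KO27864e8.k8 (@x2 @x4) (@Int.rec.{1} @(fun x5 => ℤ) @(fun x5 => @Nat.rec.{1} @(fun x6 => ℤ) (@Int.ofNat (nat_lit 0)) @(fun x6 x7 => @Int.negSucc @x6) @x5) @(fun x5 => @Int.ofNat (@Nat.succ @x5)) (@Cfsg.Agent.KO27864e8.k9 (@x1 @x3 @x4) (@x2 @x3))))) ?_); rewrite [← Cfsg.Agent.KO27864e8.e9, ← Cfsg.Agent.KO27864e8.e8]; rfl') | exact @Cfsg.Agent.H905.DC.fire.{ku0} | exact ()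
private theorem _root_.Cfsg.Agent.KO27864e8.e10.{ku0} : (by first | exact @Cfsg.Agent.H905.DC.fire.{ku0} = @_root_.Cfsg.Agent.KO27864e8.k10.{ku0} | exact True : Prop) := by first | (delta _root_.Cfsg.Agent.KO27864e8.k10; exact @Subtype.property _ (fun g => @Cfsg.Agent.H905.DC.fire.{ku0} = @g) _) | rfl | trivial
private noncomputable def _root_.Cfsg.Agent.KO27864e8.k11 : (by first | exact type_of% @Cfsg.Agent.H2.Ppd.chn | exact Unit : Sort _) := by first | (refine @Subtype.val _ (fun g => @Cfsg.Agent.H2.Ppd.chn = @g) (@Subtype.mk _ _ (@(fun x0 x1 x2 x3 => @List.rec.{1, 0} ((@Fin @x0) → ℤ) @(fun x4 => @Bool) @Bool.true @(fun x4 x5 x6 => @Bool.rec.{1} @(fun x7 => @Bool) @Bool.false @x6 (@Bool.rec.{1} @(fun x7 => @Bool) @Bool.false (@Cfsg.Agent.KO27864e8.k1.{0} _ @x5 @(fun x7 => @Bool.rec.{1} @(fun x8 => @Bool) @Bool.true @Bool.false (@Cfsg.Agent.KO27864e8.k6 _ @x4 @x7))) (@Bool.rec.{1} @(fun x7 => @Bool) (@Cfsg.Agent.KO27864e8.k7.{0} _ @x5 @(fun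 x7 => @Cfsg.Agent.KO27864e8.k7.{0} _ (@Cfsg.Agent.KO27864e8.k3.{1} _ @x0 @(fun x8 x9 => @x8 :: @x9) @x0 (@Nat.le_refl @x0) []) @(fun x8 => @Cfsg.Agent.KO27864e8.k6 _ @x4 (@Cfsg.Agent.KO27864e8.k10.{0} _ @x1 @x7 @x8)))) @Bool.true (@Cfsg.Agent.KO27864e8.k6 _ @x4 @x2)))) @x3)) ?_); rewrite [← Cfsg.Agent.KO27864e8.e10.{0}, ← Cfsg.Agent.KO27864e8.e3.{1}, ← Cfsg.Agent.KO27864e8.e7.{0}, ← Cfsg.Agent.KO27864e8.e6, ← Cfsg.Agent.KO27864e8.e1.{0}]; funext a0 a1 a2 a3; refine (_root_.Cfsg.Agent.KO27864e8.e0 (fun a3 => @Cfsg.Agent.H2.Ppd.chn a0 a1 a2 a3) ?_ (fun c0 c1 => ?_) a3 :) <;> ((try delta Cfsg.Agent.H2.Ppd.chn Cfsg.Agent.H2.Ppd.chn._f); (try generalize @Cfsg.Agent.H2.Ppd.eqv = g0); (try generalize @Cfsg.Agent.H905.DC.fire.{0} = g1); rfl')) | exact @Cfsg.Agent.H2.Ppd.chn | exact ()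
private theorem _root_.Cfsg.Agent.KO27864e8.e11 : (by first | exact @Cfsg.Agent.H2.Ppd.chn = @_root_.Cfsg.Agent.KO27864e8.k11 | exact True : Prop) := by first | (delta _root_.Cfsg.Agent.KO27864e8.k11; exact @Subtype.property _ (fun g => @Cfsg.Agent.H2.Ppd.chn = @g) _) | rfl | trivial
private noncomputable def _root_.Cfsg.Agent.KO27864e8.k12.{ku0} : type_of% @Fin.induction.go.{ku0} := @(fun x0 x1 x2 x3 x4 x5 => @Nat.rec.{ku0} @(fun x6 => (x7 : @LT.lt.{0} _ _ @x6 (@HAdd.hAdd.{0, 0, 0} _ _ _ _ @x0 ((1 : ℕ)))) → @x1 (@Fin.mk _ @x6 @x7)) @(fun x6 => @Eq.rec.{ku0, (ku0+1)} (Sort ku0) (@x1 (@OfNat.ofNat.{0} _ (nat_lit 0) _)) @(fun x7 x8 => @x7) @x2 (@x1 (@Fin.mk _ ((0 : ℕ)) @x6)) (@Eq.symm.{(ku0+1)} _ _ _ (@Fin.induction.go._proof_1.{ku0} _ _ @x6))) @(fun x6 x7 x8 => @x3 (@Fin.mk _ @x6 (@Nat.lt_of_succ_lt_succ _ _ @x8)) (@x7 (@Fin.induction.go._proof_2 _ @x6 @x8))) @x4 @x5)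
private theorem _root_.Cfsg.Agent.KO27864e8.e12.{ku0} : @Fin.induction.go.{ku0} = @_root_.Cfsg.Agent.KO27864e8.k12.{ku0} := by delta _root_.Cfsg.Agent.KO27864e8.k12; funext a0 a1 a2 a3 a4 a5; refine (congrFun (_root_.Cfsg.Agent.KO27864e8.e2 (fun a4 a5 => @Fin.induction.go.{ku0} a0 a1 a2 a3 a4 a5) ?_ (fun c0 => ?_) a4) a5 :) <;> (rfl')
private noncomputable def _root_.Cfsg.Agent.KO27864e8.k13.{ku0} : type_of% @Fin.induction.{ku0} := @(fun x0 x1 x2 x3 x4 => @Fin.rec.{ku0} (@Nat.add @x0 (nat_lit 1)) @(fun x5 => @x1 @x5) @(fun x5 x6 => @Cfsg.Agent.KO27864e8.k12.{ku0} _ _ @x2 @x3 @x5 @x6) @x4)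
private theorem _root_.Cfsg.Agent.KO27864e8.e13.{ku0} : @Fin.induction.{ku0} = @_root_.Cfsg.Agent.KO27864e8.k13.{ku0} := by delta _root_.Cfsg.Agent.KO27864e8.k13; rewrite [← Cfsg.Agent.KO27864e8.e12.{ku0}]; rfl'
private noncomputable def _root_.Cfsg.Agent.KO27864e8.k14.{ku0} : type_of% @Fin.cases.{ku0} := @(fun x0 x1 x2 x3 x4 => @Cfsg.Agent.KO27864e8.k13.{ku0} _ @(fun x5 => @x1 @x5) @x2 @(fun x5 x6 => @x3 @x5) @x4)
private theorem _root_.Cfsg.Agent.KO27864e8.e14.{ku0} : @Fin.cases.{ku0} = @_root_.Cfsg.Agent.KO27864e8.k14.{ku0} := by delta _root_.Cfsg.Agent.KO27864e8.k14; rewrite [← Cfsg.Agent.KO27864e8.e13.{ku0}]; rfl'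
private noncomputable def _root_.Cfsg.Agent.KO27864e8.k15.{ku0} : type_of% @Fin.cons.{ku0} := @(fun x0 x1 x2 x3 x4 => @Cfsg.Agent.KO27864e8.k14.{ku0} _ @(fun x5 => @x1 @x5) @x2 @x3 @x4)
private theorem _root_.Cfsg.Agent.KO27864e8.e15.{ku0} : @Fin.cons.{ku0} = @_root_.Cfsg.Agent.KO27864e8.k15.{ku0} := by delta _root_.Cfsg.Agent.KO27864e8.k15; rewrite [← Cfsg.Agent.KO27864e8.e14.{ku0}]; rfl'
private noncomputable def _root_.Cfsg.Agent.KO27864e8.k16.{ku0} : type_of% @Fin.elim0.{ku0} := @(fun x0 x1 => @Fin.rec.{ku0} (nat_lit 0) @(fun x2 => @x0) @(fun x2 x3 => @False.rec.{ku0} @(fun x4 => @x0) (@Nat.not_lt_zero @x2 @x3)) @x1)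
private theorem _root_.Cfsg.Agent.KO27864e8.e16.{ku0} : @Fin.elim0.{ku0} = @_root_.Cfsg.Agent.KO27864e8.k16.{ku0} := by delta _root_.Cfsg.Agent.KO27864e8.k16; rfl'
private noncomputable def _root_.Cfsg.Agent.KO27864e8.k17 : (by first | exact type_of% @Cfsg.Agent.H905.DC.cE6 | exact Unit : Sort _) := by first | (refine @Subtype.val _ (fun g => @Cfsg.Agent.H905.DC.cE6 = @g) (@Subtype.mk _ _ (@Cfsg.Agent.KO27864e8.k15.{1} _ @(fun x0 => (@Fin ((6 : ℕ))) → ℤ) (@Cfsg.Agent.KO27864e8.k15.{1} _ @(fun x0 => ℤ) (@Int.ofNat (nat_lit 2)) (@Cfsg.Agent.KO27864e8.k15.{1} _ @(fun x0 => ℤ) (@Int.ofNat (nat_lit 0)) (@Cfsg.Agent.KO27864e8.k15.{1} _ @(fun x0 => ℤ) (@Nat.rec.{1} @(fun x0 => ℤ) (@Int.ofNat (nat_lit 0)) @(fun x0 x1 => @Int.negSucc @x0) (nat_lit 1)) (@Cfsg.Agent.KO27864e8.k15.{1} _ @(fun x0 => ℤ) (@Int.ofNat (nat_lit 0)) (@Cfsg.Agent.KO27864e8.k15.{1} _ @(fun x0 => ℤ) (@Int.ofNat (nat_lit 0)) (@Cfsg.Agent.KO27864e8.k15.{1} _ @(fun x0 => ℤ) (@Int.ofNat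 (nat_lit 0)) (@Cfsg.Agent.KO27864e8.k16.{1} _))))))) (@Cfsg.Agent.KO27864e8.k15.{1} _ @(fun x0 => (@Fin ((6 : ℕ))) → ℤ) (@Cfsg.Agent.KO27864e8.k15.{1} _ @(fun x0 => ℤ) (@Int.ofNat (nat_lit 0)) (@Cfsg.Agent.KO27864e8.k15.{1} _ @(fun x0 => ℤ) (@Int.ofNat (nat_lit 2)) (@Cfsg.Agent.KO27864e8.k15.{1} _ @(fun x0 => ℤ) (@Int.ofNat (nat_lit 0)) (@Cfsg.Agent.KO27864e8.k15.{1} _ @(fun x0 => ℤ) (@Nat.rec.{1} @(fun x0 => ℤ) (@Int.ofNat (nat_lit 0)) @(fun x0 x1 => @Int.negSucc @x0) (nat_lit 1)) (@Cfsg.Agent.KO27864e8.k15.{1} _ @(fun x0 => ℤ) (@Int.ofNat (nat_lit 0)) (@Cfsg.Agent.KO27864e8.k15.{1} _ @(fun x0 => ℤ) (@Int.ofNat (nat_lit 0)) (@Cfsg.Agent.KO27864e8.k16.{1} _))))))) (@Cfsg.Agent.KO27864e8.k15.{1} _ @(fun x0 => (@Fin ((6 : ℕ))) → ℤ) (@Cfsg.Agent.KO27864e8.k15.{1} _ @(fun x0 => ℤ) (@Nat.rec.{1} @(fun x0 => ℤ) (@Int.ofNat (nat_lit 0)) @(fun x0 x1 => @Int.negSucc @x0) (nat_lit 1)) (@Cfsg.Agent.KO27864e8.k15.{1} _ @(fun x0 => ℤ) (@Int.ofNat (nat_lit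 0)) (@Cfsg.Agent.KO27864e8.k15.{1} _ @(fun x0 => ℤ) (@Int.ofNat (nat_lit 2)) (@Cfsg.Agent.KO27864e8.k15.{1} _ @(fun x0 => ℤ) (@Nat.rec.{1} @(fun x0 => ℤ) (@Int.ofNat (nat_lit 0)) @(fun x0 x1 => @Int.negSucc @x0) (nat_lit 1)) (@Cfsg.Agent.KO27864e8.k15.{1} _ @(fun x0 => ℤ) (@Int.ofNat (nat_lit 0)) (@Cfsg.Agent.KO27864e8.k15.{1} _ @(fun x0 => ℤ) (@Int.ofNat (nat_lit 0)) (@Cfsg.Agent.KO27864e8.k16.{1} _))))))) (@Cfsg.Agent.KO27864e8.k15.{1} _ @(fun x0 => (@Fin ((6 : ℕ))) → ℤ) (@Cfsg.Agent.KO27864e8.k15.{1} _ @(fun x0 => ℤ) (@Int.ofNat (nat_lit 0)) (@Cfsg.Agent.KO27864e8.k15.{1} _ @(fun x0 => ℤ) (@Nat.rec.{1} @(fun x0 => ℤ) (@Int.ofNat (nat_lit 0)) @(fun x0 x1 => @Int.negSucc @x0) (nat_lit 1)) (@Cfsg.Agent.KO27864e8.k15.{1} _ @(fun x0 => ℤ) (@Nat.rec.{1} @(fun x0 => ℤ) (@Int.ofNat (nat_lit 0)) @(fun x0 x1 => @Int.negSucc @x0) (nat_lit 1)) (@Cfsg.Agent.KO27864e8.k15.{1} _ @(fun x0 => ℤ) (@Int.ofNat (nat_lit 2)) (@Cfsg.Agent.KO27864e8.k15.{1} _ @(fun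 x0 => ℤ) (@Nat.rec.{1} @(fun x0 => ℤ) (@Int.ofNat (nat_lit 0)) @(fun x0 x1 => @Int.negSucc @x0) (nat_lit 1)) (@Cfsg.Agent.KO27864e8.k15.{1} _ @(fun x0 => ℤ) (@Int.ofNat (nat_lit 0)) (@Cfsg.Agent.KO27864e8.k16.{1} _))))))) (@Cfsg.Agent.KO27864e8.k15.{1} _ @(fun x0 => (@Fin ((6 : ℕ))) → ℤ) (@Cfsg.Agent.KO27864e8.k15.{1} _ @(fun x0 => ℤ) (@Int.ofNat (nat_lit 0)) (@Cfsg.Agent.KO27864e8.k15.{1} _ @(fun x0 => ℤ) (@Int.ofNat (nat_lit 0)) (@Cfsg.Agent.KO27864e8.k15.{1} _ @(fun x0 => ℤ) (@Int.ofNat (nat_lit 0)) (@Cfsg.Agent.KO27864e8.k15.{1} _ @(fun x0 => ℤ) (@Nat.rec.{1} @(fun x0 => ℤ) (@Int.ofNat (nat_lit 0)) @(fun x0 x1 => @Int.negSucc @x0) (nat_lit 1)) (@Cfsg.Agent.KO27864e8.k15.{1} _ @(fun x0 => ℤ) (@Int.ofNat (nat_lit 2)) (@Cfsg.Agent.KO27864e8.k15.{1} _ @(fun x0 => ℤ) (@Nat.rec.{1} @(fun x0 => ℤ) (@Int.ofNat (nat_lit 0)) @(fun x0 x1 => @Int.negSucc @x0) (nat_lit 1)) (@Cfsg.Agent.KO27864e8.k16.{1} _))))))) (@Cfsg.Agent.KO27864e8.k15.{1} _ @(fun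 x0 => (@Fin ((6 : ℕ))) → ℤ) (@Cfsg.Agent.KO27864e8.k15.{1} _ @(fun x0 => ℤ) (@Int.ofNat (nat_lit 0)) (@Cfsg.Agent.KO27864e8.k15.{1} _ @(fun x0 => ℤ) (@Int.ofNat (nat_lit 0)) (@Cfsg.Agent.KO27864e8.k15.{1} _ @(fun x0 => ℤ) (@Int.ofNat (nat_lit 0)) (@Cfsg.Agent.KO27864e8.k15.{1} _ @(fun x0 => ℤ) (@Int.ofNat (nat_lit 0)) (@Cfsg.Agent.KO27864e8.k15.{1} _ @(fun x0 => ℤ) (@Nat.rec.{1} @(fun x0 => ℤ) (@Int.ofNat (nat_lit 0)) @(fun x0 x1 => @Int.negSucc @x0) (nat_lit 1)) (@Cfsg.Agent.KO27864e8.k15.{1} _ @(fun x0 => ℤ) (@Int.ofNat (nat_lit 2)) (@Cfsg.Agent.KO27864e8.k16.{1} _))))))) (@Cfsg.Agent.KO27864e8.k16.{1} _))))))) ?_); rewrite [← Cfsg.Agent.KO27864e8.e16.{1}, ← Cfsg.Agent.KO27864e8.e15.{1}]; rfl') | exact @Cfsg.Agent.H905.DC.cE6 | exact ()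
private theorem _root_.Cfsg.Agent.KO27864e8.e17 : (by first | exact @Cfsg.Agent.H905.DC.cE6 = @_root_.Cfsg.Agent.KO27864e8.k17 | exact True : Prop) := by first | (delta _root_.Cfsg.Agent.KO27864e8.k17; exact @Subtype.property _ (fun g => @Cfsg.Agent.H905.DC.cE6 = @g) _) | rfl | trivial
private noncomputable def _root_.Cfsg.Agent.KO27864e8.k18.{ku0, ku1} : type_of% @Function.update.{ku0, ku1} := @(fun x0 x1 x2 x3 x4 x5 x6 => @Decidable.rec.{ku1} _ @(fun x7 => @x1 @x6) @(fun x7 => @x3 @x6) @(fun x7 => @Eq.rec.{ku1, ku0} @x0 @x4 @(fun x8 x9 => @x1 @x8) @x5 @x6 (@Eq.symm.{ku0} _ _ _ @x7)) (@x2 @x6 @x4))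
private theorem _root_.Cfsg.Agent.KO27864e8.e18.{ku0, ku1} : @Function.update.{ku0, ku1} = @_root_.Cfsg.Agent.KO27864e8.k18.{ku0, ku1} := by delta _root_.Cfsg.Agent.KO27864e8.k18; rfl'
private noncomputable def _root_.Cfsg.Agent.KO27864e8.k19.{ku0, ku1} : type_of% @Pi.single.{ku0, ku1} := @(fun x0 x1 x2 x3 x4 x5 => @Cfsg.Agent.KO27864e8.k18.{(ku0+1), (ku1+1)} _ _ @x3 @(fun x6 => @Zero.zero.{ku1} _ (@x2 @x6)) @x4 @x5)
private theorem _root_.Cfsg.Agent.KO27864e8.e19.{ku0, ku1} : @Pi.single.{ku0, ku1} = @_root_.Cfsg.Agent.KO27864e8.k19.{ku0, ku1} := by delta _root_.Cfsg.Agent.KO27864e8.k19; rewrite [← Cfsg.Agent.KO27864e8.e18.{(ku0+1), (ku1+1)}]; rfl'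
private noncomputable def _root_.Cfsg.Agent.KO27864e8.k20 : type_of% @instDecidableEqFin := @(fun x0 x1 x2 => @Decidable.rec.{1} _ @(fun x3 => @Decidable (@Eq.{1} _ @x1 @x2)) @(fun x3 => @Decidable.isFalse _ (@instDecidableEqFin._proof_1 @x0 @x1 @x2 @x3)) @(fun x3 => @Decidable.isTrue _ (@Fin.eq_of_val_eq _ _ _ @x3)) (@Cfsg.Agent.KO27864e8.k4 (@Fin.val _ @x1) (@Fin.val _ @x2)))
private theorem _root_.Cfsg.Agent.KO27864e8.e20 : @instDecidableEqFin = @_root_.Cfsg.Agent.KO27864e8.k20 := by delta _root_.Cfsg.Agent.KO27864e8.k20; rewrite [← Cfsg.Agent.KO27864e8.e4]; rfl'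
private noncomputable def _root_.Cfsg.Agent.KO27864e8.k21.{ku0, ku1} : type_of% @List.map.{ku0, ku1} := @(fun x0 x1 x2 x3 => @List.rec.{(ku1+1), ku0} @x0 @(fun x4 => @List.{ku1} @x1) [] @(fun x4 x5 x6 => (@x2 @x4) :: @x6) @x3)
private theorem _root_.Cfsg.Agent.KO27864e8.e21.{ku0, ku1} : @List.map.{ku0, ku1} = @_root_.Cfsg.Agent.KO27864e8.k21.{ku0, ku1} := by delta _root_.Cfsg.Agent.KO27864e8.k21; funext a0 a1 a2 a3; refine (_root_.Cfsg.Agent.KO27864e8.e0 (fun a3 => @List.map.{ku0, ku1} a0 a1 a2 a3) ?_ (fun c0 c1 => ?_) a3 :) <;> (rfl')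
private noncomputable def _root_.Cfsg.Agent.KO27864e8.k22 : (by first | exact type_of% @Cfsg.Agent.H243.EP.vl | exact Unit : Sort _) := by first | (refine @Subtype.val _ (fun g => @Cfsg.Agent.H243.EP.vl = @g) (@Subtype.mk _ _ (@(fun x0 x1 => @Cfsg.Agent.KO27864e8.k21.{0, 0} _ _ @(fun x2 x3 => @Nat.rec.{1} @(fun x4 => ℤ) (@Int.ofNat (@Nat.sub (@Nat.mod (@Nat.shiftRight @x2 (@Nat.mul (nat_lit 3) (@Fin.val _ @x3))) (nat_lit 8)) (nat_lit 4))) @(fun x4 x5 => @Int.negSucc @x4) (@Nat.sub (nat_lit 4) (@Nat.mod (@Nat.shiftRight @x2 (@Nat.mul (nat_lit 3) (@Fin.val _ @x3))) (nat_lit 8)))) @x1)) ?_); rewrite [← Cfsg.Agent.KO27864e8.e21.{0, 0}]; rfl') | exact @Cfsg.Agent.H243.EP.vl | exact ()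
private theorem _root_.Cfsg.Agent.KO27864e8.e22 : (by first | exact @Cfsg.Agent.H243.EP.vl = @_root_.Cfsg.Agent.KO27864e8.k22 | exact True : Prop) := by first | (delta _root_.Cfsg.Agent.KO27864e8.k22; exact @Subtype.property _ (fun g => @Cfsg.Agent.H243.EP.vl = @g) _) | rfl | trivial

theorem index_E6 {W : Type*} [Group W] [Finite W] (cs : CoxeterSystem CoxeterMatrix.E₆ W) {J : Set (Fin 6)} {i : Fin 6} (hi : i ∉ J) :
    27 ≤ (WJ cs J).index := by
  fin_cases i
  · exact index_ge cs isCartan_cE6 hi (vl 6 [117028, 178468, 153380, 150236, 149740, 149851, 149789, 149355, 149293, 146211, 146149, 121123, 145764, 121061, 182563, 120676, 182501, 117532, 182116, 117036, 178972, 178476, 153884, 153388, 150244, 149859, 149797]) (by (first | (rewrite [Cfsg.Agent.KO27864e8.e11, Cfsg.Agent.KO27864e8.e17, Cfsg.Agent.KO27864e8.e19.{0, 0}, Cfsg.Agent.KO27864e8.e20, Cfsg.Agent.KO27864e8.e22]; decide +kernel) | decide +kernel))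
  · exact index_ge cs isCartan_cE6 hi (vl 6 [121564, 186148, 146205, 145771, 121068, 121179, 183004, 145709, 121117, 120683, 182508, 182619, 120621, 182557, 117539, 182123, 117477, 182061, 178979, 117092, 178917, 153891, 178532, 153829, 153444, 150300, 149804]) (by (first | (rewrite [Cfsg.Agent.KO27864e8.e11, Cfsg.Agent.KO27864e8.e17, Cfsg.Agent.KO27864e8.e19.{0, 0}, Cfsg.Agent.KO27864e8.e20, Cfsg.Agent.KO27864e8.e22]; decide +kernel) | decide +kernel))
  · exact index_ge cs isCartan_cE6 hi (vl 6 [207652, 120677, 182502, 117484, 182068, 117595, 182179, 179420, 157476, 117533, 182117, 117099, 178924, 179035, 154332, 117037, 178973, 178539, 153836, 153947, 178477, 153885, 153451, 153389, 150307, 150245, 149860]) (by (first | (rewrite [Cfsg.Agent.KO27864e8.e11, Cfsg.Agent.KO27864e8.e17, Cfsg.Agent.KO27864e8.e19.{0, 0}, Cfsg.Agent.KO27864e8.e20, Cfsg.Agent.KO27864e8.e22]; decide +kernel) | decide +kernel))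
  · exact index_ge cs isCartan_cE6 hi (vl 6 [117547, 182131, 120740, 182950, 117981, 185709, 207653, 179483, 157539, 117485, 182069, 178987, 117596, 182180, 179421, 157477, 154395, 117100, 178925, 153899, 179036, 154333, 178540, 153837, 153948, 153452, 150308]) (by (first | (rewrite [Cfsg.Agent.KO27864e8.e11, Cfsg.Agent.KO27864e8.e17, Cfsg.Agent.KO27864e8.e19.{0, 0}, Cfsg.Agent.KO27864e8.e20, Cfsg.Agent.KO27864e8.e22]; decide +kernel) | decide +kernel))
  · exact index_ge cs isCartan_cE6 hi (vl 6 [186596, 149301, 146219, 149412, 146653, 124709, 211237, 121627, 186211, 146157, 121131, 146268, 121565, 186149, 183067, 145772, 121069, 182571, 121180, 183005, 120684, 182509, 182620, 117540, 182124, 178980, 153892]) (by (first | (rewrite [Cfsg.Agent.KO27864e8.e11, Cfsg.Agent.KO27864e8.e17, Cfsg.Agent.KO27864e8.e19.{0, 0}, Cfsg.Agent.KO27864e8.e20, Cfsg.Agent.KO27864e8.e22]; decide +kernel) | decide +kernel))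
  · exact index_ge cs isCartan_cE6 hi (vl 6 [149795, 149733, 149348, 146204, 145708, 121116, 120620, 182556, 117476, 182060, 117091, 178916, 117029, 178531, 153828, 178469, 153443, 153381, 150299, 149803, 150237, 149741, 149852, 149356, 146212, 121124, 182564]) (by (first | (rewrite [Cfsg.Agent.KO27864e8.e11, Cfsg.Agent.KO27864e8.e17, Cfsg.Agent.KO27864e8.e19.{0, 0}, Cfsg.Agent.KO27864e8.e20, Cfsg.Agent.KO27864e8.e22]; decide +kernel) | decide +kernel))

end Cfsg.Agent.H243.EP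
end

-- part: H243/EP/OwnExc
section
/-!
# S3499, VII13-EXC-big: the socles `F₄, E₆, E₇, E₈, ²E₆` in their characteristic, dimension at least 13 (helper243)

`own_f4`, `own_e6`, `own_e7`, `own_e8`, `own_2e6` : `Big A Γ S P`, `|Q| ≤ |A| ^ 4`, `socle P ≅ X(K)`, `char F = char K` : `False`.
-/

set_option autoImplicit false
set_option linter.unusedSectionVars false
set_option linter.style.haveILetI false

namespace Cfsg.Agent.H243.EP

open Matrix CoxeterSystem Cfsg.Agent.ChevalleyStructure.CoxeterGeom Cfsg.Agent.Tits.Roots Cfsg.Agent.Tits.Core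
  Cfsg.Agent.Tits.Exchange Cfsg.Agent.Nodes.Reps Cfsg.Agent.Nodes.BNOf Cfsg.Agent.Nodes.Bruhat
open Cfsg.Agent.H905.DC Cfsg.Agent.H915.LD Cfsg.Agent.KFacts.MulOdd.Inst
open Cfsg.Agent.H64.CrossChev (Nd nd isType_F4 isType_E6 isType_E7 isType_E8 parity_E7)
open Cfsg.Agent.Nodes.RGDChev (IsType)
open Cfsg.Lie Cfsg.Agent.ChevalleyStructure Cfsg.Agent.ChevalleyStructure.Elts
  Cfsg.Agent.ChevalleyStructure.CoxeterGeomTypes Cfsg.Agent.KFacts.MulOdd.InstChev
open Cfsg.Agent.H419.EP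
open Cfsg.Agent.H2.Ppd (exists_J diag_comm div_gcd_le three_mul_le)
open scoped MatrixGroups

section

variable {Q : Type} [Group Q] [Finite Q] {A : Subgroup Q} {Γ : Subgroup (MulAut Q)} {ι : Type} [Fintype ι]
    [DecidableEq ι] {F : Type} [Field F] [Fintype F] {S P : Subgroup (GL ι F)}

variable {p : ℕ} [hp : Fact p.Prime] [hcF : CharP F p] {K : Type} [Field K] [Fintype K] [hcK : CharP K p]
  (b : Big A Γ S P) (hUB : Nat.card Q ≤ Nat.card A ^ 4)
include hp hcF hcK b hUB

end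

/-! ### with `ringChar` -/

section ring

variable {Q : Type} [Group Q] [Finite Q] {A : Subgroup Q} {Γ : Subgroup (MulAut Q)} {ι : Type} [Fintype ι]
    [DecidableEq ι] {F : Type} [Field F] [Fintype F] {S P : Subgroup (GL ι F)}

end ring

end Cfsg.Agent.H243.EP
end

-- part: H241/Own/ExcTwo
section
/-!
# S3499: the exceptional socles over the field with two elements, dimension at least 13 (helper241)

`two_f4`, `two_e6`, `two_e7`, `two_e8`, `two_2e6`, `two_3d4` (no order bound as a hypothesis).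
-/

set_option autoImplicit false
set_option linter.unusedSectionVars false
set_option linter.style.haveILetI false

namespace Cfsg.Agent.H241.Own

open Matrix (SpecialLinearGroup)
open Cfsg.Agent.H911.SLTwo Cfsg.Agent.H875.Fn Cfsg.Agent.H744.Ppd
open CoxeterSystem Cfsg.Agent.ChevalleyStructure.CoxeterGeom Cfsg.Agent.Tits.Roots Cfsg.Agent.Tits.Core
  Cfsg.Agent.Tits.Exchange Cfsg.Agent.Nodes.Reps Cfsg.Agent.Nodes.BNOf Cfsg.Agent.Nodes.StabComb
  Cfsg.Agent.Nodes.Bruhat Cfsg.Agent.Nodes.OppDec Cfsg.Agent.Nodes.LeviDec Cfsg.Agent.KFacts.RgdOpp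
  Cfsg.Agent.Omega.CR Cfsg.Agent.Omega.FOne.Lift.Sd Cfsg.Agent.H905.Md Cfsg.Agent.H650.Ppd

/-! ### two strings and two more vectors -/

section two

variable {E : Type*} [Field E] [Fintype E] {k : Type*} [Field k] {j : E →+* k} {V : Type*} [AddCommGroup V] [Module k V]
  {R : _root_.Matrix.SpecialLinearGroup (Fin 2) E →* Module.End k V}

theorem emb_eq_zero {φ : Module.Dual k V} (lo : ∀ t x, φ (R (Lo t) x) = φ x) {v : V} (h : ∀ g, φ (R g v) = 0) :
    emb R φ v = 0 := by
  funext x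
  by_cases hx : x = 0
  · rw [hx, emb_zero]; rfl
  · obtain ⟨g, rfl⟩ := exists_row x hx
    rw [emb_row lo, h]; rfl

variable (p : ℕ) [hp : Fact p.Prime] [CharP k p]

include hp in
/-- two orthogonal strings and two vectors orthogonal to them -/
theorem dim_two_ker {φ₁ φ₂ : Module.Dual k V} {v₁ v₂ : V} {c : ℕ} (H₁ : Str j R φ₁ v₁ c) (H₂ : Str j R φ₂ v₂ c)
    (h12 : φ₁ v₂ = 0) (h12' : φ₁ (R ww v₂) = 0) (h21 : φ₂ v₁ = 0) (h21' : φ₂ (R ww v₁) = 0)
    [FiniteDimensional k V] {x : Fin 2 → V} (hx : LinearIndependent k x) (h1 : ∀ i g, φ₁ (R g (x i)) = 0)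
    (h2 : ∀ i g, φ₂ (R g (x i)) = 0) : 2 * (SS p c).card + 2 ≤ Module.finrank k V := by
  have e12 : emb R φ₁ v₂ = 0 := emb_eq_zero H₁.lo (row_zero H₁.lo H₂.up (fun s => ⟨_, H₂.tor s⟩) h12 h12')
  have e21 : emb R φ₂ v₁ = 0 := emb_eq_zero H₂.lo (row_zero H₂.lo H₁.up (fun s => ⟨_, H₁.tor s⟩) h21 h21')
  set Ψ : V →ₗ[k] (E × E → k) × (E × E → k) := (emb R φ₁).prod (emb R φ₂) with hΨ
  have k1 : L j c ≤ (LinearMap.range Ψ).comap (LinearMap.inl k (E × E → k) (E × E → k)) := by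
    rw [L_eq_span j p H₁.le, Submodule.span_le]
    rintro _ ⟨m, hm, rfl⟩
    refine mono_mem_span_Lo j p H₁.le (fun t => ?_) hm
    rw [Submodule.mem_comap, LinearMap.inl_apply]
    refine ⟨(φ₁ v₁)⁻¹ • R (Lo t) v₁, ?_⟩
    rw [map_smul]
    refine Prod.ext ?_ ?_
    · change (φ₁ v₁)⁻¹ • emb R φ₁ (R (Lo t) v₁) = _
      rw [emb_act H₁.lo, H₁.emb_eq, map_smul, smul_smul, inv_mul_cancel₀ H₁.ne, one_smul]
    · change (φ₁ v₁)⁻¹ • emb R φ₂ (R (Lo t) v₁) = _
      rw [emb_act H₂.lo, e21, map_zero, smul_zero]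
  have k2 : L j c ≤ (LinearMap.range Ψ).comap (LinearMap.inr k (E × E → k) (E × E → k)) := by
    rw [L_eq_span j p H₂.le, Submodule.span_le]
    rintro _ ⟨m, hm, rfl⟩
    refine mono_mem_span_Lo j p H₂.le (fun t => ?_) hm
    rw [Submodule.mem_comap, LinearMap.inr_apply]
    refine ⟨(φ₂ v₂)⁻¹ • R (Lo t) v₂, ?_⟩
    rw [map_smul]
    refine Prod.ext ?_ ?_
    · change (φ₂ v₂)⁻¹ • emb R φ₁ (R (Lo t) v₂) = _
      rw [emb_act H₁.lo, e12, map_zero, smul_zero]
    · change (φ₂ v₂)⁻¹ • emb R φ₂ (R (Lo t) v₂) = _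
      rw [emb_act H₂.lo, H₂.emb_eq, map_smul, smul_smul, inv_mul_cancel₀ H₂.ne, one_smul]
  have k3 : LinearMap.range ((L j c).subtype.prodMap (L j c).subtype) ≤ LinearMap.range Ψ := by
    rintro _ ⟨⟨f, g⟩, rfl⟩
    have h1 : ((f : E × E → k), (0 : E × E → k)) ∈ LinearMap.range Ψ := k1 f.2
    have h2 : ((0 : E × E → k), (g : E × E → k)) ∈ LinearMap.range Ψ := k2 g.2
    have h3 := Submodule.add_mem _ h1 h2
    rwa [Prod.mk_add_mk, add_zero, zero_add] at h3
  have k4 := Submodule.finrank_mono k3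
  rw [LinearMap.finrank_range_of_inj (Function.Injective.prodMap (Submodule.subtype_injective _)
    (Submodule.subtype_injective _)), Module.finrank_prod, finrank_L j p H₁.le] at k4
  -- the kernel
  have k5 : ∀ i, x i ∈ LinearMap.ker Ψ := fun i => by
    rw [LinearMap.mem_ker]
    refine Prod.ext ?_ ?_
    · exact emb_eq_zero H₁.lo (h1 i)
    · exact emb_eq_zero H₂.lo (h2 i)
  have k6 : LinearIndependent k fun i : Fin 2 => (⟨x i, k5 i⟩ : LinearMap.ker Ψ) :=
    LinearIndependent.of_comp (LinearMap.ker Ψ).subtype hx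
  have k7 := k6.fintype_card_le_finrank
  rw [Fintype.card_fin] at k7
  have k8 := LinearMap.finrank_range_add_finrank_ker Ψ
  omega

end two

/-! ### `³D₄(2)` : the vertices -/

section hx

variable {W Y : Type*} [Group W] [Group Y] {cs : CoxeterSystem CoxeterMatrix.G₂ W} {A : Fin 2 → Fin 2 → ℤ}
  {h : IsCartan CoxeterMatrix.G₂ A} {p : ℕ} {T : Subgroup Y} {n : Fin 2 → Y} {X : (Fin 2 → ℤ) → Subgroup Y}
  {K E : Type*} [Field K] [Field E] {k V : Type*} [Field k] [AddCommGroup V] [Module k V]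
  {R : RGD cs h p T n X} {s l : Fin 2} {ss : _root_.Matrix.SpecialLinearGroup (Fin 2) K →* Y}
  {sl : _root_.Matrix.SpecialLinearGroup (Fin 2) E →* Y} {ε : E →+* K} {N : Kˣ → Eˣ} {f : ℕ} [Finite Y] [Finite W] [Fact p.Prime]
  [CharP k p] {ρ : Y →* Module.End k V} [FiniteDimensional k V] [Nontrivial V]

variable (R s l) in
/-- `g` represents the vertex with coordinates `α, β` -/
def Vx (g : Y) (α β : ℤ) : Prop := ∃ w : W, Rp cs R.nsys w g ∧
  ∀ x : Fin 2 → ℤ, rep cs h w⁻¹ x l = α * x s + β * x l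

theorem Vx.one : Vx R s l (1 : Y) 0 1 :=
  ⟨1, rp_one, fun x => by rw [inv_one, map_one, Module.End.one_apply]; ring⟩

variable (H : Hx R s l ss sl ε N f)
include H

theorem Vx.st {g : Y} {α β : ℤ} (hg : Vx R s l g α β) : Vx R s l (ss ww * g) (-α) (3 * α + β) := by
  obtain ⟨w, hw, hx⟩ := hg
  exact ⟨_, H.ws.mul hw, fun x => by
    rw [mul_inv_rev, inv_simple, rep_mul_apply, hx, (H.rep_s x).1, (H.rep_s x).2]; ring⟩

theorem Vx.lt {g : Y} {α β : ℤ} (hg : Vx R s l g α β) : Vx R s l (sl ww * g) (α + β) (-β) := by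
  obtain ⟨w, hw, hx⟩ := hg
  exact ⟨_, H.wl.mul hw, fun x => by
    rw [mul_inv_rev, inv_simple, rep_mul_apply, hx, (H.rep_l x).1, (H.rep_l x).2]; ring⟩

variable (hirr : ∀ L : Submodule k V, Ivt ρ (GG cs h T X) L → L = ⊥ ∨ L = ⊤)
  {v₀ : V} (hv₀ : v₀ ∈ D cs h X ρ) {φ₀ : Module.Dual k V} (hφ₀ : φ₀ ∈ fx ((dualRep ρ :)) (UN cs h X)) (hne : φ₀ v₀ ≠ 0)

include hirr hv₀ hφ₀

theorem Vx.pair (hl : l ∉ Jx cs h X ρ) {g g' : Y} {α β α' β' : ℤ} (hg : Vx R s l g α β) (hg' : Vx R s l g' α' β')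
    (hab : ¬ (α = α' ∧ β = β')) : φ₀ (ρ g⁻¹ (ρ g' v₀)) = 0 := by
  obtain ⟨w, hw, hx⟩ := hg
  obtain ⟨w', hw', hx'⟩ := hg'
  by_contra h2
  rw [← rho_mul] at h2
  have h3 := mem_WJ_of_pair R hirr hφ₀ (hw.inv.mul hw') hv₀ h2
  have h4 : ∀ x : Fin 2 → ℤ, rep cs h w⁻¹ x l = rep cs h w'⁻¹ x l := by
    intro x
    have h5 := coord_of_mem_WJ (h := h) h3 (rep cs h w'⁻¹ x) hl
    rwa [← rep_mul_apply, mul_inv_cancel_right] at h5
  have e1 := h4 (sr s)
  have e2 := h4 (sr l)
  rw [hx, hx', sr_self, sr_ne (Ne.symm H.ne)] at e1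
  rw [hx, hx', sr_self, sr_ne H.ne] at e2
  exact hab ⟨by linarith, by linarith⟩

omit [Finite Y] [Finite W] [Fact p.Prime] [CharP k p] [FiniteDimensional k V] [Nontrivial V] H hirr hφ₀ in
theorem up_of {w : W} {g : Y} (N' : Nd T X s ss) (hg : Rp cs R.nsys w g) (hpos : 0 ≤ rep cs h w⁻¹ (sr s)) (t : K) :
    ρ (ss (U t)) (ρ g v₀) = ρ g v₀ := by
  have hroot : IsRoot cs h (rep cs h w⁻¹ (sr s)) := (isRoot_sr cs h s).act _
  have h3 := R.conj_mem' hg (isRoot_sr cs h s) ((N'.up _).2 ⟨t, rfl⟩)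
  have h4 : ρ (g⁻¹ * ss (U t) * g) v₀ = v₀ := hv₀ _ (RGD.le_Sup (S := RGD.Pos cs h) ⟨hroot, hpos⟩ h3)
  have e : ss (U t) * g = g * (g⁻¹ * ss (U t) * g) := by group
  rw [← rho_mul, e, rho_mul, h4]

/-- the representatives of the vertices -/
local notation "g1" => (sl ww : Y)
local notation "g3" => (sl ww * (ss ww * sl ww) : Y)
local notation "g5" => (sl ww * (ss ww * (sl ww * (ss ww * sl ww))) : Y)

include hne

/-- **two strings and two vertices** -/
theorem dim_strings' [Fintype K] (hl : l ∉ Jx cs h X ρ) (j : K →+* k) {c : ℕ} (h1 : 1 ≤ c) (h2 : c ≤ Fintype.card K - 1)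
    (ht0 : ∀ t : Kˣ, ∃ a : k, ρ (ss (hh t)) v₀ = a • v₀)
    (ht1 : ∀ t : Kˣ, ρ (ss (hh t)) (ρ g1 v₀) = j (t : K) ^ c • ρ g1 v₀)
    (ht3 : ∀ t : Kˣ, ρ (ss (hh t)) (ρ g3 v₀) = j (t : K) ^ c • ρ g3 v₀)
    (ht5 : ∀ t : Kˣ, ∃ a : k, ρ (ss (hh t)) (ρ g5 v₀) = a • ρ g5 v₀) :
    2 * (SS p c).card + 2 ≤ Module.finrank k V := by
  have H₁ := H.str_sl hirr hv₀ hφ₀ hne hl j h1 h2 ht1
  have H₂ := str_four H hirr hv₀ hφ₀ hne hl j h1 h2 ht3
  have V0 : Vx R s l (1 : Y) 0 1 := Vx.one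
  have V1 : Vx R s l g1 1 (-1) := by simpa using V0.lt H
  have V2 : Vx R s l (ss ww * g1) (-1) 2 := by simpa using V1.st H
  have V3 : Vx R s l g3 1 (-2) := by simpa using V2.lt H
  have V4 : Vx R s l (ss ww * g3) (-1) 1 := by simpa using V3.st H
  have V5 : Vx R s l g5 0 (-1) := by simpa using V4.lt H
  have V0' : Vx R s l (ss ww * 1) 0 1 := by simpa using V0.st H
  have V5' : Vx R s l (ss ww * g5) 0 (-1) := by simpa using V5.st H
  have P := fun {g g' : Y} {α β α' β' : ℤ} (hg : Vx R s l g α β) (hg' : Vx R s l g' α' β')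
    (hab : ¬ (α = α' ∧ β = β')) => Vx.pair H hirr hv₀ hφ₀ hl hg hg' hab
  have hv5 : ρ g5 v₀ ≠ 0 := Cfsg.Agent.Omega.CR.rho_ne_zero ρ _ (fun h0 => hne (by rw [h0, map_zero]))
  have u0 : ∀ t, (ρ.comp ss) (U t) v₀ = v₀ := fun t => by
    rw [MonoidHom.comp_apply]
    have h3 := up_of (R := R) (ρ := ρ) hv₀ H.Ns (rp_one (cs := cs) (hN := R.nsys)) (by
      rw [inv_one, map_one]; exact sr_nonneg s) t
    rwa [map_one] at h3
  have u5 : ∀ t, (ρ.comp ss) (U t) (ρ g5 v₀) = ρ g5 v₀ := fun t => by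
    rw [MonoidHom.comp_apply]
    refine up_of (R := R) (ρ := ρ) hv₀ H.Ns (H.wl.mul (H.ws.mul (H.wl.mul (H.ws.mul H.wl)))) ?_ t
    intro i
    simp only [mul_inv_rev, inv_simple, rep_mul_apply]
    rcases H.cases i with rfl | rfl
    · simp only [(H.rep_l _).1, (H.rep_l _).2, (H.rep_s _).1, (H.rep_s _).2, sr_self, sr_ne (Ne.symm H.ne)]
      norm_num
    · simp only [(H.rep_l _).1, (H.rep_l _).2, (H.rep_s _).1, (H.rep_s _).2, sr_self, sr_ne (Ne.symm H.ne)]
      norm_num
  have li : LinearIndependent k ![v₀, ρ g5 v₀] := by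
    rw [LinearIndependent.pair_iff]
    intro a b hab
    have hp : φ₀ (ρ g5 v₀) = 0 := by
      have := P V0 V5 (by norm_num)
      rwa [inv_one, map_one] at this
    have ha : a = 0 := by
      have h3 := congrArg φ₀ hab
      rw [map_add, map_smul, map_smul, map_zero, hp, smul_zero, add_zero, smul_eq_mul] at h3
      exact (mul_eq_zero.1 h3).resolve_right hne
    refine ⟨ha, ?_⟩
    rw [ha, zero_smul, zero_add] at hab
    exact (smul_eq_zero.1 hab).resolve_right hv5
  refine dim_two_ker p H₁ H₂ ?_ ?_ ?_ ?_ li ?_ ?_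
  · rw [dualRep_apply]
    exact P V1 V3 (by norm_num)
  · rw [dualRep_apply, MonoidHom.comp_apply, ← rho_mul ρ (ss ww)]
    exact P V1 V4 (by norm_num)
  · rw [dualRep_apply]
    exact P V3 V1 (by norm_num)
  · rw [dualRep_apply, MonoidHom.comp_apply, ← rho_mul ρ (ss ww)]
    exact P V3 V2 (by norm_num)
  · intro i
    fin_cases i
    · refine row_zero H₁.lo u0 ht0 ?_ ?_
      · rw [dualRep_apply]
        have := P V1 V0 (by norm_num)
        rwa [map_one] at this
      · rw [dualRep_apply, MonoidHom.comp_apply]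
        have := P V1 V0' (by norm_num)
        rwa [mul_one] at this
    · refine row_zero H₁.lo u5 ht5 ?_ ?_
      · rw [dualRep_apply]
        exact P V1 V5 (by norm_num)
      · rw [dualRep_apply, MonoidHom.comp_apply]
        have := P V1 V5' (by norm_num)
        rwa [rho_mul ρ (ss ww)] at this
  · intro i
    fin_cases i
    · refine row_zero H₂.lo u0 ht0 ?_ ?_
      · rw [dualRep_apply]
        have := P V3 V0 (by norm_num)
        rwa [map_one] at this
      · rw [dualRep_apply, MonoidHom.comp_apply]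
        have := P V3 V0' (by norm_num)
        rwa [mul_one] at this
    · refine row_zero H₂.lo u5 ht5 ?_ ?_
      · rw [dualRep_apply]
        exact P V3 V5 (by norm_num)
      · rw [dualRep_apply, MonoidHom.comp_apply]
        have := P V3 V5' (by norm_num)
        rwa [rho_mul ρ (ss ww)] at this

end hx

/-! ### `³D₄` -/

section d4

open Cfsg Cfsg.Geo
open Cfsg.Agent.H911 (lin)
open Cfsg.Lie Cfsg.Agent.ChevalleyStructure Cfsg.Agent.ChevalleyStructure.CoxeterGeomTypes
open Cfsg.Agent.Nodes.RGDTwD4 (isCartan)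
open Cfsg.Agent.Nodes.RGDFoldSL (Fx mem_Fx)
open Cfsg.Agent.H744.Ppd.D4

universe u

/-- the Coxeter system -/
local notation "cs4" => CoxeterMatrix.toCoxeterSystem CoxeterMatrix.G₂

variable {F : Type u} [Field F] [Finite F] {ι : Type} [Fintype ι] [DecidableEq ι] [Nonempty ι]
  {P : Subgroup (Matrix.GeneralLinearGroup ι F)}
  (p : ℕ) [hp : Fact p.Prime] [CharP F p] {K : Type} [Field K] [Fintype K] [CharP K p] {q : ℕ} {φ : K →+* K}
  (hK : Fintype.card K = q ^ 3) (hφ : ∀ x, φ x = x ^ q)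
  {θ : ↥(twistedD4 K q) →* Matrix.GeneralLinearGroup ι F} (hθ : θ.range = P)
  (hP : ActsAbsolutelyIrreducibly (matrixSet P))

/-- the root groups -/
local notation "Jn" => Jx cs4 isCartan (Nodes.RGDTwD4.X φ q) (lin (acRep θ))

include p hK hφ hθ hP

/-- **the long node alone** -/
theorem long_two' (hq : 1 < q) (h1 : (1 : Fin 2) ∈ Jn) (h0 : (0 : Fin 2) ∉ Jn) {a j : ℕ} (hj : j ≠ 0)
    (hF : Nat.card F = p ^ a) (hE : q = p ^ (a * j)) : 2 * 8 ^ j + 2 ≤ Fintype.card ι := by
  have : Finite CoxeterMatrix.G₂.Group := Cfsg.Agent.H249.PPTwD4.finiteW cs4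
  have i1 := Fintype.ofFinite (Fx φ 1)
  have i3 := Fintype.ofFinite (Fx φ 3)
  have c1 : Fintype.card (Fx φ 1) = q := by rw [← Nat.card_eq_fintype_card]; exact card_Fx1 hq hK hφ
  have c3 : Fintype.card (Fx φ 3) = q ^ 3 := by rw [← Nat.card_eq_fintype_card]; exact card_Fx3 hK hφ
  have hchar : CharP (AlgebraicClosure F) p := charP_of_injective_algebraMap (algebraMap F _).injective p
  have R := Nodes.RGDTwD4.rgd (K := K) cs4 hK hφ p
  have H := hx_d4 hK hφ cs4 p
  have hirr := ac_irr R (GG4 hK hφ) Cfsg.Agent.H249.PPTwD4.T_comm hθ hP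
  have hfin : Module.finrank (AlgebraicClosure F) (ι → AlgebraicClosure F) = Fintype.card ι :=
    Module.finrank_fintype_fun_eq_card _
  obtain ⟨c, hc, hc0, χ, hχ⟩ := exists_chi R hirr Cfsg.Agent.H249.PPTwD4.T_comm
  obtain ⟨ι₀⟩ := Cfsg.Agent.H875.Psl2.exists_emb F (Fx φ 3) p
  have hgcd : Nat.gcd a (a * j) = a := Nat.gcd_eq_left (Dvd.intro j rfl)
  obtain ⟨r₀, hr0, hrlt, hr, -⟩ := edge_data R (GG4 hK hφ) Cfsg.Agent.H249.PPTwD4.T_comm hθ hP
    (nd_sl hK hφ cs4 p) h0 hF (by rw [card_Fx1 hq hK hφ]; exact hE) (s := j) (by rw [hgcd, mul_comm])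
    (ι₀.comp (incl φ)) hc hc0 hχ
  rw [hgcd] at hrlt hr
  obtain ⟨φ₀, hφ₀, hne⟩ := exists_pair_D R hirr hc hc0
  have hQ1 : 1 ≤ p ^ a := Nat.one_le_pow _ _ hp.out.pos
  have hqj : q = (p ^ a) ^ j := by rw [hE, pow_mul]
  set b : ℕ := r₀ * ∑ l ∈ Finset.range j, (p ^ a) ^ l with hb
  set cS : ℕ := r₀ * ∑ l ∈ Finset.range (3 * j), (p ^ a) ^ l with hcS
  have hbc : cS = (1 + q + q ^ 2) * b := by
    rw [hcS, hb, ← geom_split, hqj]
    ring
  have htor0 : ∀ t : (Fx φ 1)ˣ, _root_.Cfsg.Agent.H911.lin (acRep θ) (sl hK hφ (hh t)) c = ι₀ (incl φ (t : Fx φ 1)) ^ b • c := fun t => by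
    rw [hχ _ ((nd_sl hK hφ cs4 p).tor t), hr t]
    rfl
  have h3 : IsOcc (_root_.Cfsg.Agent.H911.lin (acRep θ)) (ss hK hφ) (sl hK hφ) (incl φ) ι₀ c 0 (b : ℤ) :=
    ⟨fun t => by rw [fix_J H.Ns h1 hc, zpow_zero, one_smul], fun t => by rw [htor0, zpow_natCast]⟩
  have h4 := h3.refl_l H.two
  have h5 := (h4.refl_s H.two).refl_l H.two
  have h5' := (h5.refl_s H.two).refl_l H.two
  have hcS1 : 1 ≤ cS := by
    rw [hbc]
    have hb1 : b ≠ 0 := by
      rw [hb]
      refine Nat.mul_ne_zero hr0 ?_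
      have h5 : 1 ≤ ∑ l ∈ Finset.range j, (p ^ a) ^ l := by
        rw [← pow_zero (p ^ a)]
        exact Finset.single_le_sum (f := fun l => (p ^ a) ^ l) (fun _ _ => Nat.zero_le _)
          (Finset.mem_range.2 (Nat.pos_of_ne_zero hj))
      omega
    exact Nat.one_le_iff_ne_zero.2 (Nat.mul_ne_zero (by omega) hb1)
  have hcS2 : cS ≤ Fintype.card (Fx φ 3) - 1 := by
    rw [c3, hqj, ← pow_mul, mul_comm j 3]
    exact geom_bd hQ1 hrlt
  have hc3' : ((Fintype.card (Fx φ 3) - 1 : ℕ) : ℤ) = (q : ℤ) ^ 3 - 1 := by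
    rw [c3, Nat.cast_sub (Nat.one_le_pow _ _ (by omega))]
    push_cast
    ring
  have h6 := h5.congr (a' := (cS : ℤ)) (b' := -(-(b : ℤ) + (0 + ((1 + q + q ^ 2 : ℕ) : ℤ) * b))) (by
    rw [hc3', hbc]
    push_cast
    exact ⟨-((q : ℤ) + 2) * b, by ring⟩) (by
    rw [sub_self]
    exact dvd_zero _)
  have S := dim_strings' H hirr hc hφ₀ hne h0 ι₀ hcS1 hcS2 (fun t => ⟨_, h3.1 t⟩) (fun t => by
    rw [h4.1 t]
    congr 1
    rw [← zpow_natCast, hbc]
    congr 1
    push_cast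
    ring) (fun t => by
    rw [rho_mul, rho_mul, h6.1 t, zpow_natCast]) (fun t => ⟨_, by
    rw [rho_mul, rho_mul, rho_mul, rho_mul]
    exact h5'.1 t⟩)
  rw [card_SS_geom hrlt, hfin] at S
  have h7 := two_le_card_SS (p := p) hr0
  have h8 := Nat.pow_le_pow_left h7 (3 * j)
  rw [pow_mul] at h8
  norm_num at h8
  omega

end d4

/-! ### the rows -/

section rows

open Cfsg Cfsg.Geo
open Cfsg.Agent.H419.EP Cfsg.Agent.H915.LD Cfsg.Agent.H100.Ppd Cfsg.Agent.H59.EP
open scoped MatrixGroups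

variable {Q : Type} [Group Q] [Finite Q] {A : Subgroup Q} {Γ : Subgroup (MulAut Q)} {ι : Type} [Fintype ι]
    [DecidableEq ι] {F : Type} [Field F] [Fintype F] {S P : Subgroup (GL ι F)}

/-- `2 ^ E ≤ 8 |Q|` and the order bound -/
theorem kill_num (b : Big A Γ S P) {B E : ℕ} (hQ : 10000 * Nat.card Q ≤ Nat.card A ^ 5 * 14) (hA : Nat.card A ≤ B)
    (hE : 2 ^ E ≤ Fintype.card F ^ (Fintype.card ι * (Fintype.card ι - 1) / 2)) (h : 8 * (B ^ 5 * 14) < 10000 * 2 ^ E) :
    False := by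
  have h1 := hE.trans b.ord
  have h2 : Nat.card A ^ 5 * 14 ≤ B ^ 5 * 14 := Nat.mul_le_mul_right _ (Nat.pow_le_pow_left hA 5)
  omega

open Cfsg.Agent.H744.Ppd.D4 in
/-- **Socle `³D₄(2)`.** -/
theorem two_3d4 (b : Big A Γ S P) (hg : TwoGen.{0}) {K : Type} [Field K] [Fintype K]
    (hK : Fintype.card K = 2 ^ 3) (hc : ringChar F = ringChar K)
    (e : Nonempty (socle P ≃* Lie.twistedD4 K 2)) : False := by
  obtain ⟨e⟩ := e
  obtain ⟨hQ, hAle⟩ := ub_3D4 hg b hK e
  have hC : Core P := core_of_residual b.core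
  have hcK : CharP K 2 := charP_two hK
  have hcF : CharP F 2 := by
    have h1 : ringChar F = 2 := hc.trans (ringChar.eq K 2)
    exact h1 ▸ ringChar.charP F
  have hp : Fact (Nat.Prime 2) := ⟨Nat.prime_two⟩
  have hq : IsPrimePow 2 := Nat.prime_two.isPrimePow
  have hne : Nonempty ι := nonempty_of_big b
  have hn := b.thirteen
  obtain ⟨f⟩ := Cfsg.Agent.H48.DsChev.d4_equiv hC hq hK e
  obtain ⟨φ, hφ⟩ := Cfsg.Agent.ChevalleyStructure.D4Fixed.exists_frob hq hK
  have h2 : 2 ≤ Fintype.card ι := by omega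
  have hθ : (P.subtype.comp f.symm.toMonoidHom).range = P := by
    rw [MonoidHom.range_comp, MonoidHom.range_eq_top.2 f.symm.surjective, ← MonoidHom.range_eq_map,
      Subgroup.range_subtype]
  have : Finite CoxeterMatrix.G₂.Group := Cfsg.Agent.H249.PPTwD4.finiteW CoxeterMatrix.G₂.toCoxeterSystem
  obtain ⟨j, hj1, hj⟩ := card_pow_eq 2 (show 3 ≠ 0 by norm_num) (fun x => pow_eq_of_no_subfield hC.absIrred
    hC.no_subfield 2 3 (fun g hg => trace_pow (Nodes.RGDTwD4.rgd CoxeterMatrix.G₂.toCoxeterSystem hK hφ 2) (GG4 hK hφ)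
      Cfsg.Agent.H249.PPTwD4.T_comm hθ hC.absIrred (fun t ht => by rw [← hK]; exact T_pow t ht) hg) x)
  have hj' : Fintype.card F ^ j = 2 ^ 3 := by rw [← Nat.card_eq_fintype_card]; exact hj
  obtain ⟨a, ha⟩ : ∃ a : ℕ, Nat.card F = 2 ^ a := by
    obtain ⟨a, -, ha⟩ := FiniteField.card F 2
    exact ⟨a, by rw [Nat.card_eq_fintype_card, ha]⟩
  have haj : a * j = 3 := by
    have h3 : 2 ^ (a * j) = 2 ^ 3 := by rw [pow_mul, ← ha, hj]
    exact Nat.pow_right_injective (le_refl 2) h3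
  have hF : Fintype.card F = 2 ^ a := by rw [← Nat.card_eq_fintype_card, ha]
  have hcase : (a = 3 ∧ j = 1) ∨ (a = 1 ∧ j = 3) := by
    rcases (Nat.dvd_prime Nat.prime_three).1 (Dvd.intro j haj) with h | h
    · right; exact ⟨h, by rw [h] at haj; omega⟩
    · left; exact ⟨h, by rw [h] at haj; omega⟩
  rcases hcase with ⟨rfl, rfl⟩ | ⟨rfl, rfl⟩
  · -- `|F| = 8`
    refine kill_num b hQ hAle (E := 3 * 78) ?_ (by norm_num)
    rw [hF, ← pow_mul]
    refine Nat.pow_le_pow_right (by norm_num) (Nat.mul_le_mul_left 3 ?_)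
    have h9 : 13 * 12 ≤ Fintype.card ι * (Fintype.card ι - 1) := Nat.mul_le_mul (by omega) (by omega)
    omega
  · -- `|F| = 2`
    have h18 : 18 ≤ Fintype.card ι := by
      rcases exists_node 2 hK hφ hθ hC.absIrred h2 with h1 | ⟨h1, h0⟩
      · have h4 := short_ge 2 hK hφ hθ hC.absIrred h1 ha (f := 3) rfl (s := 3) (by norm_num)
        norm_num at h4
        omega
      · exact long_two' 2 hK hφ hθ hC.absIrred (by norm_num) h1 h0 (j := 1) (by norm_num) ha (by norm_num)
    refine kill_num b hQ hAle (E := 153) ?_ (by norm_num)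
    rw [hF, pow_one]
    refine Nat.pow_le_pow_right (by norm_num) ?_
    have h9 : 18 * 17 ≤ Fintype.card ι * (Fintype.card ι - 1) := Nat.mul_le_mul (by omega) (by omega)
    omega

end rows

end Cfsg.Agent.H241.Own
end

-- part: H241/Own/ExcTwoB
section
/-!
# S3499: `F₄(2)`, `E₇(2)`, `E₈(2)`, `²E₆(2)` in dimension at least 13 (helper241)
-/

set_option autoImplicit false
set_option linter.unusedSectionVars false
set_option linter.style.haveILetI false
set_option linter.style.longLine false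

namespace Cfsg.Agent.H241.Own

open Matrix CoxeterSystem Cfsg.Agent.ChevalleyStructure.CoxeterGeom Cfsg.Agent.Tits.Roots Cfsg.Agent.Tits.Core
  Cfsg.Agent.Tits.Exchange Cfsg.Agent.Nodes.Reps Cfsg.Agent.Nodes.BNOf Cfsg.Agent.Nodes.Bruhat
open Cfsg.Agent.H905.DC Cfsg.Agent.H915.LD Cfsg.Agent.KFacts.MulOdd.Inst
open Cfsg.Agent.H64.CrossChev (Nd nd isType_F4 isType_E6 isType_E7 isType_E8 parity_E7)
open Cfsg.Agent.Nodes.RGDChev (IsType)
open Cfsg.Lie Cfsg.Agent.ChevalleyStructure Cfsg.Agent.ChevalleyStructure.Elts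
  Cfsg.Agent.ChevalleyStructure.CoxeterGeomTypes Cfsg.Agent.KFacts.MulOdd.InstChev
open Cfsg.Agent.H419.EP Cfsg.Agent.H59.EP
open Cfsg.Agent.H2.Ppd (exists_J diag_comm div_gcd_le three_mul_le index_ge)
open scoped MatrixGroups

private noncomputable def _root_.Cfsg.Agent.KO27864e8.k23 : (by first | exact type_of% @Cfsg.Agent.H905.DC.cE7 | exact Unit : Sort _) := by first | (refine @Subtype.val _ (fun g => @Cfsg.Agent.H905.DC.cE7 = @g) (@Subtype.mk _ _ (@Cfsg.Agent.KO27864e8.k15.{1} (nat_lit 6) @(fun (x0 : @Fin (@Nat.succ (@OfNat.ofNat.{0} @Nat (nat_lit 6) (@instOfNatNat (nat_lit 6))))) => ((@Fin (@OfNat.ofNat.{0} @Nat (nat_lit 7) (@instOfNatNat (nat_lit 7)))) → @Int)) (@Cfsg.Agent.KO27864e8.k15.{1} (nat_lit 6) @(fun (x0 : @Fin (@Nat.succ (@OfNat.ofNat.{0} @Nat (nat_lit 6) (@instOfNatNat (nat_lit 6))))) => @Int) (@Int.ofNat (nat_lit 2)) (@Cfsg.Agent.KO27864e8.k15.{1} (nat_lit 5) @(fun (x0 : @Fin (@Nat.succ (@OfNat.ofNat.{0} @Nat (nat_lit 5) (@instOfNatNat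 (nat_lit 5))))) => @Int) (@Int.ofNat (nat_lit 0)) (@Cfsg.Agent.KO27864e8.k15.{1} (nat_lit 4) @(fun (x0 : @Fin (@Nat.succ (@OfNat.ofNat.{0} @Nat (nat_lit 4) (@instOfNatNat (nat_lit 4))))) => @Int) (@Nat.rec.{1} @(fun (x0 : @Nat) => @Int) (@Int.ofNat (nat_lit 0)) @(fun (x0 : @Nat) (x1 : @Int) => @Int.negSucc @x0) (nat_lit 1)) (@Cfsg.Agent.KO27864e8.k15.{1} (nat_lit 3) @(fun (x0 : @Fin (@Nat.succ (@OfNat.ofNat.{0} @Nat (nat_lit 3) (@instOfNatNat (nat_lit 3))))) => @Int) (@Int.ofNat (nat_lit 0)) (@Cfsg.Agent.KO27864e8.k15.{1} (nat_lit 2) @(fun (x0 : @Fin (@Nat.succ (@OfNat.ofNat.{0} @Nat (nat_lit 2) (@instOfNatNat (nat_lit 2))))) => @Int) (@Int.ofNat (nat_lit 0)) (@Cfsg.Agent.KO27864e8.k15.{1} (nat_lit 1) @(fun (x0 : @Fin (@Nat.succ (@OfNat.ofNat.{0} @Nat (nat_lit 1) (@instOfNatNat (nat_lit 1))))) => @Int) (@Int.ofNat (nat_lit 0)) (@Cfsg.Agent.KO27864e8.k15.{1} (nat_lit 0) @(fun (x0 : @Fin (@Nat.succ (@OfNat.ofNat.{0} @Nat (nat_lit 0) (@instOfNatNat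 (nat_lit 0))))) => @Int) (@Int.ofNat (nat_lit 0)) (@Cfsg.Agent.KO27864e8.k16.{1} @Int)))))))) (@Cfsg.Agent.KO27864e8.k15.{1} (nat_lit 5) @(fun (x0 : @Fin (@Nat.succ (@OfNat.ofNat.{0} @Nat (nat_lit 5) (@instOfNatNat (nat_lit 5))))) => ((@Fin (@OfNat.ofNat.{0} @Nat (nat_lit 7) (@instOfNatNat (nat_lit 7)))) → @Int)) (@Cfsg.Agent.KO27864e8.k15.{1} (nat_lit 6) @(fun (x0 : @Fin (@Nat.succ (@OfNat.ofNat.{0} @Nat (nat_lit 6) (@instOfNatNat (nat_lit 6))))) => @Int) (@Int.ofNat (nat_lit 0)) (@Cfsg.Agent.KO27864e8.k15.{1} (nat_lit 5) @(fun (x0 : @Fin (@Nat.succ (@OfNat.ofNat.{0} @Nat (nat_lit 5) (@instOfNatNat (nat_lit 5))))) => @Int) (@Int.ofNat (nat_lit 2)) (@Cfsg.Agent.KO27864e8.k15.{1} (nat_lit 4) @(fun (x0 : @Fin (@Nat.succ (@OfNat.ofNat.{0} @Nat (nat_lit 4) (@instOfNatNat (nat_lit 4))))) => @Int) (@Int.ofNat (nat_lit 0)) (@Cfsg.Agent.KO27864e8.k15.{1} (nat_lit 3) @(fun (x0 : @Fin (@Nat.succ (@OfNat.ofNat.{0} @Nat (nat_lit 3) (@instOfNatNat (nat_lit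 3))))) => @Int) (@Nat.rec.{1} @(fun (x0 : @Nat) => @Int) (@Int.ofNat (nat_lit 0)) @(fun (x0 : @Nat) (x1 : @Int) => @Int.negSucc @x0) (nat_lit 1)) (@Cfsg.Agent.KO27864e8.k15.{1} (nat_lit 2) @(fun (x0 : @Fin (@Nat.succ (@OfNat.ofNat.{0} @Nat (nat_lit 2) (@instOfNatNat (nat_lit 2))))) => @Int) (@Int.ofNat (nat_lit 0)) (@Cfsg.Agent.KO27864e8.k15.{1} (nat_lit 1) @(fun (x0 : @Fin (@Nat.succ (@OfNat.ofNat.{0} @Nat (nat_lit 1) (@instOfNatNat (nat_lit 1))))) => @Int) (@Int.ofNat (nat_lit 0)) (@Cfsg.Agent.KO27864e8.k15.{1} (nat_lit 0) @(fun (x0 : @Fin (@Nat.succ (@OfNat.ofNat.{0} @Nat (nat_lit 0) (@instOfNatNat (nat_lit 0))))) => @Int) (@Int.ofNat (nat_lit 0)) (@Cfsg.Agent.KO27864e8.k16.{1} @Int)))))))) (@Cfsg.Agent.KO27864e8.k15.{1} (nat_lit 4) @(fun (x0 : @Fin (@Nat.succ (@OfNat.ofNat.{0} @Nat (nat_lit 4) (@instOfNatNat (nat_lit 4))))) => ((@Fin (@OfNat.ofNat.{0} @Nat (nat_lit 7) (@instOfNatNat (nat_lit 7)))) → @Int)) (@Cfsg.Agent.KO27864e8.k15.{1}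 (nat_lit 6) @(fun (x0 : @Fin (@Nat.succ (@OfNat.ofNat.{0} @Nat (nat_lit 6) (@instOfNatNat (nat_lit 6))))) => @Int) (@Nat.rec.{1} @(fun (x0 : @Nat) => @Int) (@Int.ofNat (nat_lit 0)) @(fun (x0 : @Nat) (x1 : @Int) => @Int.negSucc @x0) (nat_lit 1)) (@Cfsg.Agent.KO27864e8.k15.{1} (nat_lit 5) @(fun (x0 : @Fin (@Nat.succ (@OfNat.ofNat.{0} @Nat (nat_lit 5) (@instOfNatNat (nat_lit 5))))) => @Int) (@Int.ofNat (nat_lit 0)) (@Cfsg.Agent.KO27864e8.k15.{1} (nat_lit 4) @(fun (x0 : @Fin (@Nat.succ (@OfNat.ofNat.{0} @Nat (nat_lit 4) (@instOfNatNat (nat_lit 4))))) => @Int) (@Int.ofNat (nat_lit 2)) (@Cfsg.Agent.KO27864e8.k15.{1} (nat_lit 3) @(fun (x0 : @Fin (@Nat.succ (@OfNat.ofNat.{0} @Nat (nat_lit 3) (@instOfNatNat (nat_lit 3))))) => @Int) (@Nat.rec.{1} @(fun (x0 : @Nat) => @Int) (@Int.ofNat (nat_lit 0)) @(fun (x0 : @Nat) (x1 : @Int) => @Int.negSucc @x0) (nat_lit 1)) (@Cfsg.Agent.KO27864e8.k15.{1} (nat_lit 2) @(fun (x0 : @Fin (@Nat.succ (@OfNat.ofNat.{0} @Nat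 (nat_lit 2) (@instOfNatNat (nat_lit 2))))) => @Int) (@Int.ofNat (nat_lit 0)) (@Cfsg.Agent.KO27864e8.k15.{1} (nat_lit 1) @(fun (x0 : @Fin (@Nat.succ (@OfNat.ofNat.{0} @Nat (nat_lit 1) (@instOfNatNat (nat_lit 1))))) => @Int) (@Int.ofNat (nat_lit 0)) (@Cfsg.Agent.KO27864e8.k15.{1} (nat_lit 0) @(fun (x0 : @Fin (@Nat.succ (@OfNat.ofNat.{0} @Nat (nat_lit 0) (@instOfNatNat (nat_lit 0))))) => @Int) (@Int.ofNat (nat_lit 0)) (@Cfsg.Agent.KO27864e8.k16.{1} @Int)))))))) (@Cfsg.Agent.KO27864e8.k15.{1} (nat_lit 3) @(fun (x0 : @Fin (@Nat.succ (@OfNat.ofNat.{0} @Nat (nat_lit 3) (@instOfNatNat (nat_lit 3))))) => ((@Fin (@OfNat.ofNat.{0} @Nat (nat_lit 7) (@instOfNatNat (nat_lit 7)))) → @Int)) (@Cfsg.Agent.KO27864e8.k15.{1} (nat_lit 6) @(fun (x0 : @Fin (@Nat.succ (@OfNat.ofNat.{0} @Nat (nat_lit 6) (@instOfNatNat (nat_lit 6))))) => @Int) (@Int.ofNat (nat_lit 0)) (@Cfsg.Agent.KO27864e8.k15.{1} (nat_lit 5) @(fun (x0 : @Fin (@Nat.succ (@OfNat.ofNat.{0} @Nat (nat_lit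 5) (@instOfNatNat (nat_lit 5))))) => @Int) (@Nat.rec.{1} @(fun (x0 : @Nat) => @Int) (@Int.ofNat (nat_lit 0)) @(fun (x0 : @Nat) (x1 : @Int) => @Int.negSucc @x0) (nat_lit 1)) (@Cfsg.Agent.KO27864e8.k15.{1} (nat_lit 4) @(fun (x0 : @Fin (@Nat.succ (@OfNat.ofNat.{0} @Nat (nat_lit 4) (@instOfNatNat (nat_lit 4))))) => @Int) (@Nat.rec.{1} @(fun (x0 : @Nat) => @Int) (@Int.ofNat (nat_lit 0)) @(fun (x0 : @Nat) (x1 : @Int) => @Int.negSucc @x0) (nat_lit 1)) (@Cfsg.Agent.KO27864e8.k15.{1} (nat_lit 3) @(fun (x0 : @Fin (@Nat.succ (@OfNat.ofNat.{0} @Nat (nat_lit 3) (@instOfNatNat (nat_lit 3))))) => @Int) (@Int.ofNat (nat_lit 2)) (@Cfsg.Agent.KO27864e8.k15.{1} (nat_lit 2) @(fun (x0 : @Fin (@Nat.succ (@OfNat.ofNat.{0} @Nat (nat_lit 2) (@instOfNatNat (nat_lit 2))))) => @Int) (@Nat.rec.{1} @(fun (x0 : @Nat) => @Int) (@Int.ofNat (nat_lit 0)) @(fun (x0 : @Nat) (x1 : @Int) => @Int.negSucc @x0) (nat_lit 1)) (@Cfsg.Agent.KO27864e8.k15.{1} (nat_lit 1) @(fun (x0 : @Fin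 (@Nat.succ (@OfNat.ofNat.{0} @Nat (nat_lit 1) (@instOfNatNat (nat_lit 1))))) => @Int) (@Int.ofNat (nat_lit 0)) (@Cfsg.Agent.KO27864e8.k15.{1} (nat_lit 0) @(fun (x0 : @Fin (@Nat.succ (@OfNat.ofNat.{0} @Nat (nat_lit 0) (@instOfNatNat (nat_lit 0))))) => @Int) (@Int.ofNat (nat_lit 0)) (@Cfsg.Agent.KO27864e8.k16.{1} @Int)))))))) (@Cfsg.Agent.KO27864e8.k15.{1} (nat_lit 2) @(fun (x0 : @Fin (@Nat.succ (@OfNat.ofNat.{0} @Nat (nat_lit 2) (@instOfNatNat (nat_lit 2))))) => ((@Fin (@OfNat.ofNat.{0} @Nat (nat_lit 7) (@instOfNatNat (nat_lit 7)))) → @Int)) (@Cfsg.Agent.KO27864e8.k15.{1} (nat_lit 6) @(fun (x0 : @Fin (@Nat.succ (@OfNat.ofNat.{0} @Nat (nat_lit 6) (@instOfNatNat (nat_lit 6))))) => @Int) (@Int.ofNat (nat_lit 0)) (@Cfsg.Agent.KO27864e8.k15.{1} (nat_lit 5) @(fun (x0 : @Fin (@Nat.succ (@OfNat.ofNat.{0} @Nat (nat_lit 5) (@instOfNatNat (nat_lit 5))))) => @Int) (@Int.ofNat (nat_lit 0)) (@Cfsg.Agent.KO27864e8.k15.{1} (nat_lit 4) @(fun (x0 : @Fin (@Nat.succ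 (@OfNat.ofNat.{0} @Nat (nat_lit 4) (@instOfNatNat (nat_lit 4))))) => @Int) (@Int.ofNat (nat_lit 0)) (@Cfsg.Agent.KO27864e8.k15.{1} (nat_lit 3) @(fun (x0 : @Fin (@Nat.succ (@OfNat.ofNat.{0} @Nat (nat_lit 3) (@instOfNatNat (nat_lit 3))))) => @Int) (@Nat.rec.{1} @(fun (x0 : @Nat) => @Int) (@Int.ofNat (nat_lit 0)) @(fun (x0 : @Nat) (x1 : @Int) => @Int.negSucc @x0) (nat_lit 1)) (@Cfsg.Agent.KO27864e8.k15.{1} (nat_lit 2) @(fun (x0 : @Fin (@Nat.succ (@OfNat.ofNat.{0} @Nat (nat_lit 2) (@instOfNatNat (nat_lit 2))))) => @Int) (@Int.ofNat (nat_lit 2)) (@Cfsg.Agent.KO27864e8.k15.{1} (nat_lit 1) @(fun (x0 : @Fin (@Nat.succ (@OfNat.ofNat.{0} @Nat (nat_lit 1) (@instOfNatNat (nat_lit 1))))) => @Int) (@Nat.rec.{1} @(fun (x0 : @Nat) => @Int) (@Int.ofNat (nat_lit 0)) @(fun (x0 : @Nat) (x1 : @Int) => @Int.negSucc @x0) (nat_lit 1)) (@Cfsg.Agent.KO27864e8.k15.{1} (nat_lit 0) @(fun (x0 : @Fin (@Nat.succ (@OfNat.ofNat.{0} @Nat (nat_lit 0) (@instOfNatNat (nat_lit 0)))))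 => @Int) (@Int.ofNat (nat_lit 0)) (@Cfsg.Agent.KO27864e8.k16.{1} @Int)))))))) (@Cfsg.Agent.KO27864e8.k15.{1} (nat_lit 1) @(fun (x0 : @Fin (@Nat.succ (@OfNat.ofNat.{0} @Nat (nat_lit 1) (@instOfNatNat (nat_lit 1))))) => ((@Fin (@OfNat.ofNat.{0} @Nat (nat_lit 7) (@instOfNatNat (nat_lit 7)))) → @Int)) (@Cfsg.Agent.KO27864e8.k15.{1} (nat_lit 6) @(fun (x0 : @Fin (@Nat.succ (@OfNat.ofNat.{0} @Nat (nat_lit 6) (@instOfNatNat (nat_lit 6))))) => @Int) (@Int.ofNat (nat_lit 0)) (@Cfsg.Agent.KO27864e8.k15.{1} (nat_lit 5) @(fun (x0 : @Fin (@Nat.succ (@OfNat.ofNat.{0} @Nat (nat_lit 5) (@instOfNatNat (nat_lit 5))))) => @Int) (@Int.ofNat (nat_lit 0)) (@Cfsg.Agent.KO27864e8.k15.{1} (nat_lit 4) @(fun (x0 : @Fin (@Nat.succ (@OfNat.ofNat.{0} @Nat (nat_lit 4) (@instOfNatNat (nat_lit 4))))) => @Int) (@Int.ofNat (nat_lit 0)) (@Cfsg.Agent.KO27864e8.k15.{1} (nat_lit 3) @(fun (x0 : @Fin (@Nat.succ (@OfNat.ofNat.{0} @Nat (nat_lit 3) (@instOfNatNat (nat_lit 3))))) => @Int)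 (@Int.ofNat (nat_lit 0)) (@Cfsg.Agent.KO27864e8.k15.{1} (nat_lit 2) @(fun (x0 : @Fin (@Nat.succ (@OfNat.ofNat.{0} @Nat (nat_lit 2) (@instOfNatNat (nat_lit 2))))) => @Int) (@Nat.rec.{1} @(fun (x0 : @Nat) => @Int) (@Int.ofNat (nat_lit 0)) @(fun (x0 : @Nat) (x1 : @Int) => @Int.negSucc @x0) (nat_lit 1)) (@Cfsg.Agent.KO27864e8.k15.{1} (nat_lit 1) @(fun (x0 : @Fin (@Nat.succ (@OfNat.ofNat.{0} @Nat (nat_lit 1) (@instOfNatNat (nat_lit 1))))) => @Int) (@Int.ofNat (nat_lit 2)) (@Cfsg.Agent.KO27864e8.k15.{1} (nat_lit 0) @(fun (x0 : @Fin (@Nat.succ (@OfNat.ofNat.{0} @Nat (nat_lit 0) (@instOfNatNat (nat_lit 0))))) => @Int) (@Nat.rec.{1} @(fun (x0 : @Nat) => @Int) (@Int.ofNat (nat_lit 0)) @(fun (x0 : @Nat) (x1 : @Int) => @Int.negSucc @x0) (nat_lit 1)) (@Cfsg.Agent.KO27864e8.k16.{1} @Int)))))))) (@Cfsg.Agent.KO27864e8.k15.{1} (nat_lit 0) @(fun (x0 : @Fin (@Nat.succ (@OfNat.ofNat.{0} @Nat (nat_lit 0) (@instOfNatNat (nat_lit 0))))) => ((@Fin (@OfNat.ofNat.{0}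 @Nat (nat_lit 7) (@instOfNatNat (nat_lit 7)))) → @Int)) (@Cfsg.Agent.KO27864e8.k15.{1} (nat_lit 6) @(fun (x0 : @Fin (@Nat.succ (@OfNat.ofNat.{0} @Nat (nat_lit 6) (@instOfNatNat (nat_lit 6))))) => @Int) (@Int.ofNat (nat_lit 0)) (@Cfsg.Agent.KO27864e8.k15.{1} (nat_lit 5) @(fun (x0 : @Fin (@Nat.succ (@OfNat.ofNat.{0} @Nat (nat_lit 5) (@instOfNatNat (nat_lit 5))))) => @Int) (@Int.ofNat (nat_lit 0)) (@Cfsg.Agent.KO27864e8.k15.{1} (nat_lit 4) @(fun (x0 : @Fin (@Nat.succ (@OfNat.ofNat.{0} @Nat (nat_lit 4) (@instOfNatNat (nat_lit 4))))) => @Int) (@Int.ofNat (nat_lit 0)) (@Cfsg.Agent.KO27864e8.k15.{1} (nat_lit 3) @(fun (x0 : @Fin (@Nat.succ (@OfNat.ofNat.{0} @Nat (nat_lit 3) (@instOfNatNat (nat_lit 3))))) => @Int) (@Int.ofNat (nat_lit 0)) (@Cfsg.Agent.KO27864e8.k15.{1} (nat_lit 2) @(fun (x0 : @Fin (@Nat.succ (@OfNat.ofNat.{0} @Nat (nat_lit 2) (@instOfNatNat (nat_lit 2))))) => @Int) (@Int.ofNat (nat_lit 0)) (@Cfsg.Agent.KO27864e8.k15.{1} (nat_lit 1) @(fun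 (x0 : @Fin (@Nat.succ (@OfNat.ofNat.{0} @Nat (nat_lit 1) (@instOfNatNat (nat_lit 1))))) => @Int) (@Nat.rec.{1} @(fun (x0 : @Nat) => @Int) (@Int.ofNat (nat_lit 0)) @(fun (x0 : @Nat) (x1 : @Int) => @Int.negSucc @x0) (nat_lit 1)) (@Cfsg.Agent.KO27864e8.k15.{1} (nat_lit 0) @(fun (x0 : @Fin (@Nat.succ (@OfNat.ofNat.{0} @Nat (nat_lit 0) (@instOfNatNat (nat_lit 0))))) => @Int) (@Int.ofNat (nat_lit 2)) (@Cfsg.Agent.KO27864e8.k16.{1} @Int)))))))) (@Cfsg.Agent.KO27864e8.k16.{1} ((@Fin (@OfNat.ofNat.{0} @Nat (nat_lit 7) (@instOfNatNat (nat_lit 7)))) → @Int))))))))) ?_); rewrite [← Cfsg.Agent.KO27864e8.e16.{1}, ← Cfsg.Agent.KO27864e8.e15.{1}]; rfl') | exact @Cfsg.Agent.H905.DC.cE7 | exact ()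
private theorem _root_.Cfsg.Agent.KO27864e8.e23 : (by first | exact @Cfsg.Agent.H905.DC.cE7 = @_root_.Cfsg.Agent.KO27864e8.k23 | exact True : Prop) := by first | (delta _root_.Cfsg.Agent.KO27864e8.k23; exact @Subtype.property _ (fun g => @Cfsg.Agent.H905.DC.cE7 = @g) _) | rfl | trivial

theorem index_E7 {W : Type*} [Group W] [Finite W] (cs : CoxeterSystem CoxeterMatrix.E₇ W) {J : Set (Fin 7)} {i : Fin 7}
    (hi : i ∉ J) : 37 ≤ (WJ cs J).index := by
  fin_cases i
  · exact index_ge cs isCartan_cE7 hi (Cfsg.Agent.H243.EP.vl 7 [968989, 1166115, 968555, 1460460, 1460571, 1166053, 968493, 1460509, 965411, 1460075, 1165668, 965349, 1460013, 940323, 1456931, 964964, 940261, 1456869, 1431843, 939876, 1456484, 1431781, 1231139, 936732, 1431396, 1231077, 936236, 1428252, 1230692, 1427756, 1227548, 1227052, 1202460, 1201964, 1198820, 1198435, 1198373]) (by (first | (rewrite [Cfsg.Agent.KO27864e8.e11, Cfsg.Agent.KO27864e8.e23, Cfsg.Agent.KO27864e8.e19.{0,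 0}, Cfsg.Agent.KO27864e8.e20, Cfsg.Agent.KO27864e8.e22]; decide +kernel) | decide +kernel))
  · exact index_ge cs isCartan_cE7 hi (Cfsg.Agent.H243.EP.vl 7 [1456876, 940379, 1456987, 1432284, 1234724, 964909, 940317, 1456925, 939883, 1456491, 1431788, 1431899, 1231580, 939821, 1456429, 1431837, 936739, 1431403, 1231084, 1231195, 936677, 1431341, 1231133, 1428259, 1230699, 936292, 1428197, 1230637, 1227555, 1427812, 1227493, 1202467, 1227108, 1202405, 1202020, 1198876, 1198380]) (by (first | (rewrite [Cfsg.Agent.KO27864e8.e11, Cfsg.Agent.KO27864e8.e23, Cfsg.Agent.KO27864e8.e19.{0, 0}, Cfsg.Agent.KO27864e8.e20, Cfsg.Agent.KO27864e8.e22]; decide +kernel) | decide +kernel))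
  · exact index_ge cs isCartan_cE7 hi (Cfsg.Agent.H243.EP.vl 7 [1431348, 1231636, 936795, 1431459, 1231525, 1428700, 1234284, 1256228, 936733, 1431397, 1231078, 936299, 1428204, 1230644, 1428315, 1230755, 1227996, 1206052, 936237, 1428253, 1230693, 1427819, 1227500, 1227611, 1202908, 1427757, 1227549, 1227115, 1202412, 1202523, 1227053, 1202461, 1202027, 1201965, 1198883, 1198821, 1198436]) (by (first | (rewrite [Cfsg.Agent.KO27864e8.e11, Cfsg.Agent.KO27864e8.e23, Cfsg.Agent.KO27864e8.e19.{0, 0}, Cfsg.Agent.KO27864e8.e20, Cfsg.Agent.KO27864e8.e22]; decide +kernel) | decide +kernel))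
  · exact index_ge cs isCartan_cE7 hi (Cfsg.Agent.H243.EP.vl 7 [1259373, 1428763, 1234347, 1256291, 1206500, 936685, 1431349, 1231637, 1428267, 1230707, 936796, 1431460, 1231526, 1428701, 1234285, 1256229, 1228059, 1206115, 936300, 1428205, 1230645, 1227563, 1428316, 1230756, 1227997, 1206053, 1202971, 1427820, 1227501, 1202475, 1227612, 1202909, 1227116, 1202413, 1202524, 1202028, 1198884]) (by (first | (rewrite [Cfsg.Agent.KO27864e8.e11, Cfsg.Agent.KO27864e8.e23, Cfsg.Agent.KO27864e8.e19.{0, 0}, Cfsg.Agent.KO27864e8.e20, Cfsg.Agent.KO27864e8.e22]; decide +kernel) | decide +kernel))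
  · exact index_ge cs isCartan_cE7 hi (Cfsg.Agent.H243.EP.vl 7 [1235172, 1165676, 965357, 1460021, 940331, 1456939, 965468, 1460132, 940765, 1457373, 1435429, 1259813, 1432347, 1234787, 964972, 940269, 1456877, 1431851, 940380, 1456988, 1432285, 1234725, 1231643, 939884, 1456492, 1431789, 1231147, 1431900, 1231581, 936740, 1431404, 1231085, 1231196, 1428260, 1230700, 1227556, 1202468]) (by (first | (rewrite [Cfsg.Agent.KO27864e8.e11, Cfsg.Agent.KO27864e8.e23, Cfsg.Agent.KO27864e8.e19.{0, 0}, Cfsg.Agent.KO27864e8.e20, Cfsg.Agent.KO27864e8.e22]; decide +kernel) | decide +kernel))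
  · exact index_ge cs isCartan_cE7 hi (Cfsg.Agent.H243.EP.vl 7 [1173285, 997669, 1689893, 1170203, 972643, 1489251, 1464548, 1194733, 1169707, 1194844, 1170141, 972581, 1489189, 969499, 1464163, 1194348, 1169645, 969003, 1169756, 969437, 1464101, 1461019, 1169260, 968941, 1460523, 969052, 1460957, 1166116, 968556, 1460461, 1460572, 965412, 1460076, 940324, 1456932, 1431844, 1231140]) (by (first | (rewrite [Cfsg.Agent.KO27864e8.e11, Cfsg.Agent.KO27864e8.e23, Cfsg.Agent.KO27864e8.e19.{0, 0}, Cfsg.Agent.KO27864e8.e20, Cfsg.Agent.KO27864e8.e22]; decide +kernel) | decide +kernel))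
  · exact index_ge cs isCartan_cE7 hi (Cfsg.Agent.H243.EP.vl 7 [1166108, 968548, 1460453, 1165612, 965404, 1460068, 964908, 940316, 1456924, 939820, 1456428, 1431836, 936676, 1431340, 1231132, 936291, 1428196, 1230636, 936229, 1427811, 1227492, 1427749, 1227107, 1202404, 1227045, 1202019, 1201957, 1198875, 1198379, 1198813, 1198317, 1198428, 1197932, 1194788, 1169700, 968996, 1460516]) (by (first | (rewrite [Cfsg.Agent.KO27864e8.e11, Cfsg.Agent.KO27864e8.e23, Cfsg.Agent.KO27864e8.e19.{0, 0}, Cfsg.Agent.KO27864e8.e20, Cfsg.Agent.KO27864e8.e22]; decide +kernel) | decide +kernel))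

section

variable {Q : Type} [Group Q] [Finite Q] {A : Subgroup Q} {Γ : Subgroup (MulAut Q)} {ι : Type} [Fintype ι]
    [DecidableEq ι] {F : Type} [Field F] [Fintype F] {S P : Subgroup (GL ι F)}
  (b : Big A Γ S P) {K : Type} [Field K] [Fintype K]
include b

/-- **Chevalley groups over a field with two elements: the dimension.** -/
theorem two_chev (hK : Fintype.card K = 2) (hc : ringChar F = ringChar K) {D : ChevalleyDatum} {l : ℕ}
    {M : CoxeterMatrix (Fin l)} (ht : IsType D l M) (hpar : parity D l = true) {c : ℕ}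
    (hidx : ∀ (_ : Finite M.Group) (J : Set (Fin l)) (i : Fin l), i ∉ J → c ≤ (WJ M.toCoxeterSystem J).index)
    (e : socle P ≃* ↥(D.group K)) : c ≤ Fintype.card ι := by
  have hp : Fact (Nat.Prime 2) := ⟨Nat.prime_two⟩
  have hcK : CharP K 2 := charP_two (n := 1) (by rw [hK, pow_one])
  have hcF : CharP F 2 := by
    have h1 : ringChar F = 2 := hc.trans (ringChar.eq K 2)
    exact h1 ▸ ringChar.charP F
  obtain ⟨a, -, hF⟩ := FiniteField.card F 2
  have hF' : Nat.card F = 2 ^ (a : ℕ) := by rw [Nat.card_eq_fintype_card, hF]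
  have : Finite M.Group := Cfsg.Agent.Nodes.RGDChev.finite_W ht M.toCoxeterSystem
  obtain ⟨J, ⟨i, hi⟩, h2, -⟩ := exists_J (core_of_residual b.core)
    (Cfsg.Agent.Nodes.RGDChev.rgd (K := K) ht M.toCoxeterSystem 2)
    (Cfsg.Agent.Nodes.RGDChev.G1_eq_top ht M.toCoxeterSystem)
    (fun s hs t ht' => Subtype.ext (diag_comm ht.inList hs ht')) (E := fun _ => K) (_root_.Cfsg.Agent.H64.CrossChev.nd ht hpar K) e hF'
    (f := fun _ => 1) (fun _ => by rw [hK, pow_one])
  have h3 := h2 i hi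
  have h4 := hidx this J i hi
  have h5 : Nat.gcd (a : ℕ) 1 = 1 := Nat.gcd_one_right _
  simp only [h5] at h3
  omega

omit b in
theorem pow_le_of {N n q : ℕ} (hn : N ≤ n) (hq : 2 ≤ q) : 2 ^ (N * (N - 1) / 2) ≤ q ^ (n * (n - 1) / 2) := by
  have h1 : N * (N - 1) / 2 ≤ n * (n - 1) / 2 := Nat.div_le_div_right (Nat.mul_le_mul hn (by omega))
  exact (Nat.pow_le_pow_right (by norm_num) h1).trans (Nat.pow_le_pow_left hq _)

/-- **Socle `F₄(2)`.** -/
theorem two_f4 (hg : TwoGen.{0}) (hK : Fintype.card K = 2) (hc : ringChar F = ringChar K)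
    (e : Nonempty (socle P ≃* ↥(Lie.chevF4.group K))) : False := by
  obtain ⟨e⟩ := e
  obtain ⟨hQ, hA⟩ := ub_F4 hg b hK e
  have hn := two_chev b hK hc isType_F4 parity_F4 (c := 24) (fun _ J i hi => Cfsg.Agent.H2.Ppd.index_F4 _ hi) e
  exact kill_num b hQ hA (E := 24 * (24 - 1) / 2) (pow_le_of hn Fintype.one_lt_card)
    (by decide +kernel)

/-- **Socle `E₇(2)`.** -/
theorem two_e7 (hg : TwoGen.{0}) (hK : Fintype.card K = 2) (hc : ringChar F = ringChar K)
    (e : Nonempty (socle P ≃* ↥(Lie.chevE7.group K))) : False := by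
  obtain ⟨e⟩ := e
  obtain ⟨hQ, hA⟩ := ub_E7 hg b hK e
  have hn := two_chev b hK hc isType_E7 parity_E7 (c := 37) (fun _ J i hi => index_E7 _ hi) e
  exact kill_num b hQ hA (E := 37 * (37 - 1) / 2) (pow_le_of hn Fintype.one_lt_card)
    (by decide +kernel)

/-- **Socle `E₈(2)`.** -/
theorem two_e8 (hg : TwoGen.{0}) (hK : Fintype.card K = 2) (hc : ringChar F = ringChar K)
    (e : Nonempty (socle P ≃* ↥(Lie.chevE8.group K))) : False := by
  obtain ⟨e⟩ := e
  obtain ⟨hQ, hA⟩ := ub_E8 hg b hK e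
  have hn := two_chev b hK hc isType_E8 parity_E8 (c := 60) (fun _ J i hi => Cfsg.Agent.H2.Ppd.index_E8 _ hi) e
  exact kill_num b hQ hA (E := 60 * (60 - 1) / 2) (pow_le_of hn Fintype.one_lt_card)
    (by decide +kernel)

/-- **Socle `²E₆(2)`.** -/
theorem two_2e6 (hg : TwoGen.{0}) (hK : Fintype.card K = 2 ^ 2) (hc : ringChar F = ringChar K)
    (e : Nonempty (socle P ≃* ↥(Lie.twistedE6 K 2))) : False := by
  classical
  obtain ⟨e⟩ := e
  obtain ⟨hQ, hAle⟩ := ub_2E6 hg b hK e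
  have hp : Fact (Nat.Prime 2) := ⟨Nat.prime_two⟩
  have hq : IsPrimePow 2 := Nat.prime_two.isPrimePow
  have hq1 := hq.one_lt
  have hcK : CharP K 2 := charP_two (n := 2) hK
  have hcF : CharP F 2 := by
    have h1 : ringChar F = 2 := hc.trans (ringChar.eq K 2)
    exact h1 ▸ ringChar.charP F
  obtain ⟨a, -, hF⟩ := FiniteField.card F 2
  have hF' : Nat.card F = 2 ^ (a : ℕ) := by rw [Nat.card_eq_fintype_card, hF]
  -- the data
  obtain ⟨φ, hφ, hqq⟩ := TwE6Basic.exists_frob hq hK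
  let _ : ∀ i : Fin 4, Fintype (Cfsg.Agent.Nodes.RGDFoldSL.Fx φ ((Nodes.RGDTwNode.E6.rest i).length + 1)) :=
    fun i => Fintype.ofFinite _
  have hch : ∀ i : Fin 4, CharP (Cfsg.Agent.Nodes.RGDFoldSL.Fx φ ((Nodes.RGDTwNode.E6.rest i).length + 1)) 2 :=
    fun i => (RingHom.charP_iff (Cfsg.Agent.Nodes.RGDFoldSL.Fx φ _).subtype
      (Cfsg.Agent.Nodes.RGDFoldSL.Fx φ _).subtype_injective 2).2 inferInstance
  have hN := fun i : Fin 4 =>
    Cfsg.Agent.H59.CrossTw.nd_fold (Nodes.RGDTwE6.foldGrp hφ hqq) (Nodes.RGDTwNode.E6.nodeOK i) (φ := φ)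
      (fun s hs t => by rw [Nodes.RGDTwNode.E6.eps_one i s hs, Int.cast_one, one_mul])
      (Cfsg.Agent.KFacts.MulOdd.InstTw.parityTw_spec Cfsg.Agent.KFacts.MulOdd.InstTw.parity_E6 i).choose_spec.1
      (Cfsg.Agent.KFacts.MulOdd.InstTw.parityTw_spec Cfsg.Agent.KFacts.MulOdd.InstTw.parity_E6 i).choose_spec.2
  have hW : Finite CoxeterMatrix.F₄.Group :=
    Cfsg.Agent.Nodes.RGDFold.finite_W (hp := isType_E6) CoxeterMatrix.F₄.toCoxeterSystem Nodes.RGDTwE6.isCartan
      Nodes.RGDTwE6.foldData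
  have hcard : ∀ i : Fin 4, Fintype.card (Cfsg.Agent.Nodes.RGDFoldSL.Fx φ ((Nodes.RGDTwNode.E6.rest i).length + 1)) =
      2 ^ (![1, 1, 2, 2] i) := by
    have e1 : Nat.card (Cfsg.Agent.Nodes.RGDFoldSL.Fx φ 1) = 2 := by
      have h2 := Cfsg.Agent.H59.CrossTw.card_Fx_one hq1 hK hφ
      have h3 : 0 < Nat.card (Cfsg.Agent.Nodes.RGDFoldSL.Fx φ 1) := Nat.card_pos
      omega
    have e2 := Cfsg.Agent.H59.CrossTw.card_Fx_eq hK hφ
    intro i
    rw [← Nat.card_eq_fintype_card]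
    fin_cases i
    · exact e1
    · exact e1
    · exact e2
    · exact e2
  obtain ⟨J, ⟨i, hi⟩, h2, h3⟩ := exists_J (core_of_residual b.core)
    (Nodes.RGDFold.rgd CoxeterMatrix.F₄.toCoxeterSystem Nodes.RGDTwE6.isCartan Nodes.RGDTwE6.foldData
      (Nodes.RGDTwE6.foldGrp hφ hqq) 2)
    (Nodes.RGDFold.G1_eq_top CoxeterMatrix.F₄.toCoxeterSystem Nodes.RGDTwE6.isCartan Nodes.RGDTwE6.foldData
      (Nodes.RGDTwE6.foldGrp hφ hqq) 2)
    (fun s hs t ht' => Subtype.ext (diag_comm isType_E6.inList (Subgroup.mem_subgroupOf.1 hs).1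
      (Subgroup.mem_subgroupOf.1 ht').1)) hN e hF' hcard
  have g2 := h2 2
  have g3 := h2 3
  have g1 := h2 1
  change 2 ∉ J → _ * 2 ^ (2 / Nat.gcd a 2) ≤ _ at g2
  change 3 ∉ J → _ * 2 ^ (2 / Nat.gcd a 2) ≤ _ at g3
  change 1 ∉ J → _ * 2 ^ (1 / Nat.gcd a 1) ≤ _ at g1
  have g0 := fun h0 : (0 : Fin 4) ∉ J => fun hJ => h3 0 h0 hJ 3 (H2.Ppd.LF.filter fun v => decide (0 < v 3))
    (H2.Ppd.LF.filter fun v => decide (v 3 = 0))
  change ∀ h0 : (0 : Fin 4) ∉ J, _ → _ → _ → _ → _ → _ → _ →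
    _ * 2 ^ (2 / Nat.gcd a 2) + _ ≤ _ at g0
  rw [Nat.gcd_one_right] at g1
  -- the dimension
  have key : (Nat.gcd a 2 = 2 ∧ 24 ≤ Fintype.card ι) ∨ (Nat.gcd a 2 = 1 ∧ 36 ≤ Fintype.card ι) := by
    have hgcd : Nat.gcd (a : ℕ) 2 = 1 ∨ Nat.gcd (a : ℕ) 2 = 2 :=
      (Nat.dvd_prime Nat.prime_two).1 (Nat.gcd_dvd_right _ _)
    have hdim : 24 * (2 / Nat.gcd (a : ℕ) 2) ≤ Fintype.card ι ∨
        (Nat.gcd (a : ℕ) 2 = 1 ∧ 36 ≤ Fintype.card ι) := by
      by_cases h20 : (2 : Fin 4) ∈ J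
      swap
      · left
        have h9 := g2 h20
        have h10 := H2.Ppd.index_F4 CoxeterMatrix.F₄.toCoxeterSystem h20
        rcases hgcd with h | h <;> rw [h] at h9 ⊢ <;> norm_num only [_root_.ge_iff_le] at h9 ⊢ <;> (clear * - h10 h9; omega)
      by_cases h30 : (3 : Fin 4) ∈ J
      swap
      · left
        have h9 := g3 h30
        have h10 := H2.Ppd.index_F4 CoxeterMatrix.F₄.toCoxeterSystem h30
        rcases hgcd with h | h <;> rw [h] at h9 ⊢ <;> norm_num only [_root_.ge_iff_le] at h9 ⊢ <;> (clear * - h10 h9; omega)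
      by_cases h10 : (1 : Fin 4) ∈ J
      swap
      · left
        have h9 := g1 h10
        have h11 := H2.Ppd.index_F4' CoxeterMatrix.F₄.toCoxeterSystem h10
        rcases hgcd with h | h <;> rw [h] <;> norm_num only [_root_.ge_iff_le] at h9 ⊢ <;> (clear * - h11 h9; omega)
      have h00 : (0 : Fin 4) ∉ J := by
        intro h0
        apply hi
        fin_cases i
        · exact h0
        · exact h10
        · exact h20
        · exact h30
      obtain ⟨o1, o2⟩ := H2.Ppd.exists_of_chn CoxeterMatrix.F₄.toCoxeterSystem Nodes.RGDTwE6.isCartan H2.Ppd.chn_LF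
      have h9 := g0 h00 (by
          intro i hi
          fin_cases i
          · rfl
          · exact absurd h10 hi
          · exact absurd h20 hi
          · exact absurd h30 hi)
        (fun v hv => of_decide_eq_true (List.mem_filter.1 hv).2)
        (fun v hv => of_decide_eq_true (List.mem_filter.1 hv).2)
        (o2.filter _) (o2.filter _) (fun v hv => o1 v (List.mem_filter.1 hv).1) (fun v hv => o1 v (List.mem_filter.1 hv).1)
      rw [H2.Ppd.LF_pos, H2.Ppd.LF_zero] at h9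
      rcases hgcd with h | h
      · right
        rw [h] at h9
        norm_num only [] at h9
        exact ⟨h, by omega⟩
      · left
        rw [h] at h9 ⊢
        norm_num only [] at h9 ⊢
        omega
    rcases hgcd with h | h
    · right
      refine ⟨h, ?_⟩
      rcases hdim with h1 | h1
      · rw [h] at h1
        omega
      · exact h1.2
    · left
      refine ⟨h, ?_⟩
      rcases hdim with h1 | h1
      · rw [h] at h1
        omega
      · omega
  rcases key with ⟨h, hn⟩ | ⟨-, hn⟩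
  · have h4 : 2 ∣ (a : ℕ) := by rw [← h]; exact Nat.gcd_dvd_left _ _
    have h5 : 2 ^ 2 ≤ Fintype.card F := by
      rw [hF]
      exact Nat.pow_le_pow_right (by norm_num) (Nat.le_of_dvd a.pos h4)
    refine kill_num b hQ hAle (E := 2 * (24 * (24 - 1) / 2)) ?_ (by decide +kernel)
    rw [pow_mul]
    have h1 : 24 * (24 - 1) / 2 ≤ Fintype.card ι * (Fintype.card ι - 1) / 2 :=
      Nat.div_le_div_right (Nat.mul_le_mul hn (by omega))
    exact (Nat.pow_le_pow_right (by norm_num) h1).trans (Nat.pow_le_pow_left h5 _)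
  · exact kill_num b hQ hAle (E := 36 * (36 - 1) / 2) (pow_le_of hn Fintype.one_lt_card) (by decide +kernel)

end

end Cfsg.Agent.H241.Own
end

-- part: H241/Own/ExcTwoC
section
/-!
# S3499: the socle `E₆(2)` in dimension at least 13 (helper241)

* `dim_le_vec` : one cominuscule node outside `J`, an upper bound for the dimension, explicit vectors;
* `e6_dim` : a module of `E₆(2)` over a field with two elements has dimension at most 27 or at least 29;
* **`two_e6`**.
-/

set_option autoImplicit false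
set_option linter.unusedSectionVars false
set_option linter.style.haveILetI false
set_option linter.style.longLine false

namespace Cfsg.Agent.H241.Own

open Matrix (SpecialLinearGroup)
open Cfsg Cfsg.Geo
open Cfsg.Agent.H911 (lin)
open Cfsg.Agent.H911.SLTwo Cfsg.Agent.H875.Fn
open CoxeterSystem Cfsg.Agent.ChevalleyStructure.CoxeterGeom Cfsg.Agent.Tits.Roots Cfsg.Agent.Tits.Core
  Cfsg.Agent.Tits.Exchange Cfsg.Agent.Nodes.Reps Cfsg.Agent.Nodes.BNOf Cfsg.Agent.Nodes.StabComb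
  Cfsg.Agent.Nodes.Bruhat Cfsg.Agent.Nodes.OppDec Cfsg.Agent.Nodes.LeviDec Cfsg.Agent.KFacts.RgdOpp
  Cfsg.Agent.Omega.CR Cfsg.Agent.Omega.FOne.Lift.Sd Cfsg.Agent.H905.Md Cfsg.Agent.H650.Ppd
open Cfsg.Agent.H905.DC
open Cfsg.Lie Cfsg.Agent.ChevalleyStructure Cfsg.Agent.ChevalleyStructure.CoxeterGeomTypes
  Cfsg.Agent.Nodes.RGDChev
open Cfsg.Agent.H419.EP Cfsg.Agent.H59.EP
open Cfsg.Agent.H64.CrossChev (isType_E6)
open scoped MatrixGroups

/-! ### the upper bound for explicit vectors -/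

section upper

variable {I W Y : Type*} [Fintype I] [DecidableEq I] [Group W] [Group Y] {M : CoxeterMatrix I}
  {cs : CoxeterSystem M W} {A : I → I → ℤ} {h : IsCartan M A} {p : ℕ} {T : Subgroup Y} {n : I → Y}
  {X : (I → ℤ) → Subgroup Y} {k V : Type*} [Field k] [AddCommGroup V] [Module k V]

theorem rep_sum (w : W) (y : I → ℤ) (i : I) : rep cs h w y i = ∑ m, y m * co cs h i w m := by
  have h1 : y = ∑ m, y m • (sr m : I → ℤ) := by
    funext a
    rw [Finset.sum_apply]
    simp only [sr, Pi.single_apply, _root_.Pi.smul_apply, _root_.Int.zsmul_eq_mul, _root_.mul_ite, _root_.mul_one, _root_.MulZeroClass.mul_zero, _root_.Finset.sum_ite_eq, _root_.Finset.mem_univ, ↓ _root_.reduceIte]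
  conv_lhs => rw [h1]
  rw [map_sum, Finset.sum_apply]
  refine Finset.sum_congr rfl fun m _ => ?_
  rw [map_smul, Pi.smul_apply, smul_eq_mul]
  rfl

theorem co_mem {i : I} {L : List (I → ℤ)} (h0 : (Pi.single i 1 : I → ℤ) ∈ L) (hL : ∀ c ∈ L, ∀ j, fire A c j ∈ L)
    (w : W) : co cs h i w ∈ L := by
  obtain ⟨ω, rfl⟩ := cs.wordProd_surjective w
  rw [co_wordProd]
  induction ω using List.reverseRecOn with
  | nil => exact h0
  | append_singleton ω j ih =>
    rw [cf, List.foldl_append, List.foldl_cons, List.foldl_nil]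
    exact hL _ ih j

theorem dim_le_vec (R : RGD cs h p T n X) [Finite Y] [Finite W] [Fact p.Prime] [CharP k p]
    {ρ : Y →* Module.End k V} [FiniteDimensional k V] [Nontrivial V]
    (hirr : ∀ L : Submodule k V, Ivt ρ (GG cs h T X) L → L = ⊥ ∨ L = ⊤)
    {i : I} (hi : i ∉ Jx cs h X ρ) (hJ : ∀ j, j ∉ Jx cs h X ρ → j = i)
    (hd : Module.finrank k (Le cs h T X ρ {i}) ≤ 2 * Module.finrank k (D cs h X ρ))
    (L : List (I → ℤ)) (h0 : (Pi.single i 1 : I → ℤ) ∈ L) (hL : ∀ c ∈ L, ∀ j, fire A c j ∈ L)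
    (hw : ∀ c ∈ L, ∃ w, co cs h i w = c)
    (hx : ∀ x, IsRoot cs h x → 0 < x i → ∃ w ∈ WJ cs {j | j ≠ i}, rep cs h w (sr i) = x) :
    Module.finrank k V ≤ L.length * Module.finrank k (D cs h X ρ) := by
  choose w hw' using fun a : Fin L.length => hw (L.get a) (List.get_mem L a)
  have hJJ : ({j | j ≠ i} : Set I) ⊆ Jx cs h X ρ := by
    intro j hj
    by_contra hcon
    exact hj (hJ j hcon)
  have h1 := dim_le R hirr (fun j hj => by rw [hJ j hj]; exact hd) (by
    rintro x ⟨hxr, hx0, j, hj, hxj⟩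
    rw [hJ j hj] at hxj
    obtain ⟨v, hv, rfl⟩ := hx x hxr hxj
    refine ⟨v, ?_, i, hi, rfl⟩
    refine Subgroup.closure_mono ?_ hv
    rintro _ ⟨j', hj', rfl⟩
    exact ⟨j', hJJ hj', rfl⟩) (α := Fin L.length) (fun a => (w a)⁻¹) (by
    intro v
    obtain ⟨a, ha⟩ := List.mem_iff_get.1 (co_mem (cs := cs) (h := h) h0 hL v⁻¹)
    refine ⟨a, ?_⟩
    rw [inv_inv, mem_WJ_iff (h := h)]
    intro x j hj
    rw [hJ j hj, rep_mul_apply, rep_sum, hw', ha, ← rep_sum, rep_inv_apply])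
  rwa [Fintype.card_fin] at h1

end upper

/-! ### the roots of `E₆` -/

/-- the kernel check -/
def chkR (i₀ : ℕ) : Bool := (List.range 72).all fun r => decide (RootVec.rt chevE6 r i₀ ≤ 0) ||
  decide (r = chevE6.simple i₀) || (List.range 6).any fun j => decide (j ≠ i₀) && decide (chevE6.reflectRoot j r < r)

theorem chkR_0 : chkR ((0 : Fin 6) : ℕ) = true := by decide +kernel

theorem chkR_5 : chkR ((5 : Fin 6) : ℕ) = true := by decide +kernel

theorem nroots_six : chevE6.nroots = 72 := by decide +kernel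

theorem cartan_six : cartanOf chevE6 6 = cE6 := by
  funext i j
  revert i j
  decide +kernel


section roots

variable {W : Type*} [Group W] (cs : CoxeterSystem CoxeterMatrix.E₆ W)

theorem root_orbit {i₀ : Fin 6} (hchk : chkR i₀ = true) : ∀ (m r : ℕ), r < chevE6.nroots → r ≤ m →
    0 < vec chevE6 6 r i₀ → ∃ w ∈ WJ cs {j | j ≠ i₀}, rep cs isType_E6.isCartan w (sr i₀) = vec chevE6 6 r := by
  intro m
  induction m with
  | zero =>
    intro r hr hm hpos
    have h1 := (List.all_eq_true.1 hchk) r (List.mem_range.2 (by rwa [← nroots_six]))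
    rw [Bool.or_eq_true, Bool.or_eq_true] at h1
    rcases h1 with (h1 | h1) | h1
    · exact absurd (of_decide_eq_true h1) (not_le.2 hpos)
    · refine ⟨1, one_mem _, ?_⟩
      rw [map_one, Module.End.one_apply, of_decide_eq_true h1, vec_simple isType_E6]
    · obtain ⟨j, -, h2⟩ := List.any_eq_true.1 h1
      rw [Bool.and_eq_true] at h2
      have h3 := of_decide_eq_true h2.2
      omega
  | succ m ih =>
    intro r hr hm hpos
    have h1 := (List.all_eq_true.1 hchk) r (List.mem_range.2 (by rwa [← nroots_six]))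
    rw [Bool.or_eq_true, Bool.or_eq_true] at h1
    rcases h1 with (h1 | h1) | h1
    · exact absurd (of_decide_eq_true h1) (not_le.2 hpos)
    · refine ⟨1, one_mem _, ?_⟩
      rw [map_one, Module.End.one_apply, of_decide_eq_true h1, vec_simple isType_E6]
    · obtain ⟨j, hj, h2⟩ := List.any_eq_true.1 h1
      rw [Bool.and_eq_true] at h2
      have h3 := of_decide_eq_true h2.2
      have h4 := of_decide_eq_true h2.1
      have hj' : j < 6 := List.mem_range.1 hj
      have h5 := rep_vec isType_E6 cs ⟨j, hj'⟩ hr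
      have hlt : chevE6.reflectRoot j r < chevE6.nroots :=
        NPerm.reflectRoot_lt isType_E6.inList (lt_rank isType_E6 ⟨j, hj'⟩) hr
      have hne : i₀ ≠ ⟨j, hj'⟩ := by
        rintro rfl
        exact h4 rfl
      have h6 : vec chevE6 6 (chevE6.reflectRoot j r) i₀ = vec chevE6 6 r i₀ := by
        have h7 := congrFun h5 i₀
        rw [rep_simple_eq, Pi.sub_apply, Pi.smul_apply, sr_ne hne, smul_zero, sub_zero] at h7
        exact h7.symm
      obtain ⟨w, hw, hw'⟩ := ih (chevE6.reflectRoot j r) hlt (by omega) (by rw [h6]; exact hpos)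
      refine ⟨cs.simple ⟨j, hj'⟩ * w, mul_mem (Subgroup.subset_closure ⟨_, hne.symm, rfl⟩) hw, ?_⟩
      rw [rep_mul_apply, hw', ← h5, ← rep_mul_apply, cs.simple_mul_simple_self, map_one, Module.End.one_apply]

theorem root_orbit' {i₀ : Fin 6} (hchk : chkR i₀ = true) {x : Fin 6 → ℤ} (hx : IsRoot cs isType_E6.isCartan x)
    (hpos : 0 < x i₀) : ∃ w ∈ WJ cs {j | j ≠ i₀}, rep cs isType_E6.isCartan w (sr i₀) = x := by
  obtain ⟨r, hr, rfl⟩ := (isRoot_iff isType_E6 cs x).1 hx
  exact root_orbit cs hchk r r hr le_rfl hpos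

end roots

/-- the orbit of type `0` -/
def LE0 : List (Fin 6 → ℤ) :=
  [![0, 0, 0, 0, 0, -1], ![0, 0, 0, 0, -1, 1], ![0, 0, 0, -1, 1, 0], ![0, -1, -1, 1, 0, 0], ![0, 1, -1, 0, 0, 0], ![-1, -1, 1, 0, 0, 0], ![1, -1, 0,
  0, 0, 0], ![-1, 1, 1, -1, 0, 0], ![1, 1, 0, -1, 0, 0], ![-1, 0, 0, 1, -1, 0], ![1, 0, -1, 1, -1, 0], ![-1, 0, 0, 0, 1, -1], ![0, 0, 1, 0, -1, 0],
  ![1, 0, -1, 0, 1, -1], ![-1, 0, 0, 0, 0, 1], ![0, 0, 1, -1, 1, -1], ![1, 0, -1, 0, 0, 1], ![0, -1, 0, 1, 0, -1], ![0, 0, 1, -1, 0, 1], ![0, 1, 0,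
  0, 0, -1], ![0, -1, 0, 1, -1, 1], ![0, 1, 0, 0, -1, 1], ![0, -1, 0, 0, 1, 0], ![0, 1, 0, -1, 1, 0], ![0, 0, -1, 1, 0, 0], ![-1, 0, 1, 0, 0, 0],
  ![1, 0, 0, 0, 0, 0]]

theorem chn_LE0 : H2.Ppd.chn (cartanOf chevE6 6) (Pi.single 0 1) LE0 = true := by
  rw [cartan_six]
  (first | (rewrite [Cfsg.Agent.KO27864e8.e11, Cfsg.Agent.KO27864e8.e17, Cfsg.Agent.KO27864e8.e19.{0, 0}, Cfsg.Agent.KO27864e8.e20]; decide +kernel) | decide +kernel)

theorem mem_LE0 : (Pi.single 0 1 : Fin 6 → ℤ) ∈ LE0 := by decide +kernel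

private noncomputable def _root_.Cfsg.Agent.KO27864e8.k30 : type_of% @Bool.decEq := @(fun x0 x1 => @Bool.rec.{1} @(fun x2 => @Decidable (@Eq.{1} _ @x2 @x1)) (@Bool.rec.{1} @(fun x2 => @Decidable (@Eq.{1} _ @Bool.false @x2)) (@Decidable.isTrue _ (@rfl.{1} _ _)) (@Decidable.isFalse _ @(fun x2 => @Bool.noConfusion.{0} _ _ _ @x2)) @x1) (@Bool.rec.{1} @(fun x2 => @Decidable (@Eq.{1} _ @Bool.true @x2)) (@Decidable.isFalse _ @(fun x2 => @Bool.noConfusion.{0} _ _ _ @x2)) (@Decidable.isTrue _ (@rfl.{1} _ _)) @x1) @x0)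
private theorem _root_.Cfsg.Agent.KO27864e8.e30 : @Bool.decEq = @_root_.Cfsg.Agent.KO27864e8.k30 := by delta _root_.Cfsg.Agent.KO27864e8.k30; rfl'
private noncomputable def _root_.Cfsg.Agent.KO27864e8.k45 : type_of% @Decidable.decide := @(fun x0 x1 => @Decidable.rec.{1} _ @(fun x2 => @Bool) @(fun x2 => @Bool.false) @(fun x2 => @Bool.true) @x1)
private theorem _root_.Cfsg.Agent.KO27864e8.e45 : @Decidable.decide = @_root_.Cfsg.Agent.KO27864e8.k45 := by delta _root_.Cfsg.Agent.KO27864e8.k45; rfl'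
private noncomputable def _root_.Cfsg.Agent.KO27864e8.k46l (n : Nat) (P : ∀ k, k < n → Prop) (H : ∀ k h, Decidable (P k h)) (m : Nat) : m ≤ n → Bool := @Nat.rec (fun m => m ≤ n → Bool) (fun _ => true) (fun k ih h => @Decidable.rec (P k h) (fun _ => Bool) (fun _ => false) (fun _ => ih (Nat.le_of_succ_le h)) (H k h)) m
private theorem _root_.Cfsg.Agent.KO27864e8.k46ls (n : Nat) (P : ∀ k, k < n → Prop) (H : ∀ k h, Decidable (P k h)) (m : Nat) : ∀ h : m ≤ n, _root_.Cfsg.Agent.KO27864e8.k46l n P H m h = true ↔ ∀ k (g : k < m), P k (Nat.lt_of_lt_of_le g h) := by induction m with | zero => exact fun _ => ⟨fun _ _ g => absurd g (Nat.not_lt_zero _), fun _ => rfl⟩ | succ m ih => intro h; show @Decidable.rec (P m h) (fun _ => Bool) (fun _ => false) (fun _ => _root_.Cfsg.Agent.KO27864e8.k46l n P H m (Nat.le_of_succ_le h)) (H m h) = true ↔ _; cases H m h with | isFalse q => exact ⟨fun g => absurd g Bool.false_ne_true, fun g => absurd (g m (Nat.lt_succ_self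 m)) q⟩ | isTrue q => exact ⟨fun g k hk => (Nat.lt_succ_iff_lt_or_eq.1 hk).elim ((ih _).1 g k) fun e => by subst e; exact q, fun g => (ih _).2 fun k hk => g k (Nat.lt_succ_of_lt hk)⟩
private noncomputable def _root_.Cfsg.Agent.KO27864e8.k46 (n : Nat) (P : ∀ k, k < n → Prop) (H : ∀ k h, Decidable (P k h)) : Decidable (∀ k h, P k h) := @Bool.rec (fun b => _root_.Cfsg.Agent.KO27864e8.k46l n P H n (Nat.le_refl n) = b → Decidable (∀ k h, P k h)) (fun g => isFalse fun q => Bool.false_ne_true (g.symm.trans ((_root_.Cfsg.Agent.KO27864e8.k46ls n P H n _).2 fun k h => q k h))) (fun g => isTrue fun k h => (_root_.Cfsg.Agent.KO27864e8.k46ls n P H n _).1 g k h) (_root_.Cfsg.Agent.KO27864e8.k46l n P H n (Nat.le_refl n)) rfl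
private theorem _root_.Cfsg.Agent.KO27864e8.e46 : @Nat.decidableBallLT = @_root_.Cfsg.Agent.KO27864e8.k46 := funext fun _ => funext fun _ => funext fun _ => Subsingleton.elim _ _
private noncomputable def _root_.Cfsg.Agent.KO27864e8.k47 : type_of% @Nat.decidableForallFin := @(fun x0 x1 x2 => @Decidable.rec.{1} _ @(fun x3 => @Decidable ((x4 : @Fin @x0) → @x1 @x4)) @(fun x3 => @Decidable.isFalse _ (@decidable_of_decidable_of_iff._proof_1 _ _ (@Nat.decidableForallFin._proof_1 _ @x1) @x3)) @(fun x3 => @Decidable.isTrue _ (@Iff.mp _ _ (@Nat.decidableForallFin._proof_1 _ @x1) @x3)) (@Cfsg.Agent.KO27864e8.k46 @x0 @(fun x3 x4 => @x1 (@Fin.mk _ @x3 @x4)) @(fun x3 x4 => @x2 (@Fin.mk _ @x3 @x4))))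
private theorem _root_.Cfsg.Agent.KO27864e8.e47 : @Nat.decidableForallFin = @_root_.Cfsg.Agent.KO27864e8.k47 := by delta _root_.Cfsg.Agent.KO27864e8.k47; rewrite [← Cfsg.Agent.KO27864e8.e46]; rfl'
private noncomputable def _root_.Cfsg.Agent.KO27864e8.k48 : type_of% @Int.instDecidableEq := @Cfsg.Agent.KO27864e8.k5
private theorem _root_.Cfsg.Agent.KO27864e8.e48 : @Int.instDecidableEq = @_root_.Cfsg.Agent.KO27864e8.k48 := by delta _root_.Cfsg.Agent.KO27864e8.k48; rewrite [← Cfsg.Agent.KO27864e8.e5]; rfl'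
private noncomputable def _root_.Cfsg.Agent.KO27864e8.k50.{ku0} : type_of% @List.decidableBAll.{ku0} := @(fun x0 x1 x2 x3 => @List.rec.{1, ku0} @x0 @(fun x4 => @Decidable ((x5 : @x0) → (@Membership.mem.{ku0, ku0} _ _ _ @x4 @x5) → @x1 @x5)) (@Decidable.isTrue _ (@List.decidableBAll._proof_1.{ku0} _ @x1)) @(fun x4 x5 x6 => @Decidable.rec.{1} _ @(fun x7 => @Decidable ((x8 : @x0) → (@Membership.mem.{ku0, ku0} _ _ _ (@x4 :: @x5) @x8) → @x1 @x8)) @(fun x7 => @Decidable.isFalse _ (@List.decidableBAll._proof_4.{ku0} _ @x1 @x4 @x5 @x7)) @(fun x7 => @Decidable.rec.{1} _ @(fun x8 => @Decidable ((x9 : @x0) → (@Membership.mem.{ku0, ku0} _ _ _ (@x4 :: @x5) @x9) → @x1 @x9)) @(fun x8 => @Decidable.isFalse _ (@List.decidableBAll._proof_3.{ku0} _ @x1 @x4 @x5 @x8)) @(fun x8 => @Decidable.isTrue _ (@List.decidableBAll._proof_2.{ku0} _ @x1 @x4 @x5 @x7 @x8)) @x6) (@x2 @x4)) @x3)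
private theorem _root_.Cfsg.Agent.KO27864e8.e50.{ku0} : @List.decidableBAll.{ku0} = @_root_.Cfsg.Agent.KO27864e8.k50.{ku0} := by delta _root_.Cfsg.Agent.KO27864e8.k50; funext a0 a1 a2 a3; refine (_root_.Cfsg.Agent.KO27864e8.e0 (fun a3 => @List.decidableBAll.{ku0} a0 a1 a2 a3) ?_ (fun c0 c1 => ?_) a3 :) <;> (rfl')
private noncomputable def _root_.Cfsg.Agent.KO27864e8.k52.{ku0} : type_of% @List.instDecidableMemOfLawfulBEq.{ku0} := @(fun x0 x1 x2 x3 x4 => @Decidable.rec.{1} _ @(fun x5 => @Decidable (@Membership.mem.{ku0, ku0} _ _ _ @x4 @x3)) @(fun x5 => @Decidable.isFalse _ (@decidable_of_decidable_of_iff._proof_1 _ _ (@List.instDecidableMemOfLawfulBEq._proof_1.{ku0} _ _ _ @x3 @x4) @x5)) @(fun x5 => @Decidable.isTrue _ (@Iff.mp _ _ (@List.instDecidableMemOfLawfulBEq._proof_1.{ku0} _ _ _ @x3 @x4) @x5)) (@Cfsg.Agent.KO27864e8.k30 (@List.elem.{ku0} _ @x1 @x3 @x4) @Bool.true))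
private theorem _root_.Cfsg.Agent.KO27864e8.e52.{ku0} : @List.instDecidableMemOfLawfulBEq.{ku0} = @_root_.Cfsg.Agent.KO27864e8.k52.{ku0} := by delta _root_.Cfsg.Agent.KO27864e8.k52; rewrite [← Cfsg.Agent.KO27864e8.e30]; rfl'
private noncomputable def _root_.Cfsg.Agent.KO27864e8.k53.{ku0, ku1} : type_of% @Quot.rec.{ku0, ku1} := @(fun x0 x1 x2 x3 x4 x5 => @Eq.rec.{ku1, ku0} (@Quot.{ku0} _ @x1) (@PSigma.fst.{ku0, ku1} _ _ (@Quot.lift.{ku0, (max (max 1 ku1) ku0)} _ _ _ (@Quot.indep.{ku0, ku1} _ _ _ @x3) (@Quot.indepCoherent.{ku0, ku1} _ _ _ @x3 @x4) @x5)) @(fun x6 x7 => @x2 @x6) (@PSigma.snd.{ku0, ku1} _ _ (@Quot.lift.{ku0, (max (max 1 ku1) ku0)} _ _ _ (@Quot.indep.{ku0, ku1} _ _ _ @x3) (@Quot.indepCoherent.{ku0, ku1} _ _ _ @x3 @x4) @x5)) @x5 (@Quot.liftIndepPr1.{ku0, ku1} _ _ _ @x3 @x4 @x5))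
private theorem _root_.Cfsg.Agent.KO27864e8.e53.{ku0, ku1} : @Quot.rec.{ku0, ku1} = @_root_.Cfsg.Agent.KO27864e8.k53.{ku0, ku1} := by delta _root_.Cfsg.Agent.KO27864e8.k53; rfl'
private noncomputable def _root_.Cfsg.Agent.KO27864e8.k54.{ku0, ku1} : type_of% @Quot.recOnSubsingleton.{ku0, ku1} := @(fun x0 x1 x2 x3 x4 x5 => @Cfsg.Agent.KO27864e8.k53.{ku0, ku1} _ _ @(fun x6 => @x2 @x6) @(fun x6 => @x5 @x6) (@Quot.recOnSubsingleton._proof_1.{ku1, ku0} _ _ _ _ @x5) @x4)
private theorem _root_.Cfsg.Agent.KO27864e8.e54.{ku0, ku1} : @Quot.recOnSubsingleton.{ku0, ku1} = @_root_.Cfsg.Agent.KO27864e8.k54.{ku0, ku1} := by delta _root_.Cfsg.Agent.KO27864e8.k54; rewrite [← Cfsg.Agent.KO27864e8.e53.{ku0, ku1}]; rfl'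
private noncomputable def _root_.Cfsg.Agent.KO27864e8.k55.{ku0} : type_of% @Multiset.decidableForallMultiset.{ku0} := @(fun (x0 : Sort (ku0+1)) (x1 : @Multiset.{ku0} @x0) (x2 : (x0 → Prop)) (x3 : ((x3 : x0) → @Decidable (@x2 @x3))) => @Cfsg.Agent.KO27864e8.k54.{(ku0+1), 1} (@List.{ku0} @x0) (@Setoid.r.{(ku0+1)} (@List.{ku0} @x0) (@List.isSetoid.{ku0} @x0)) @(fun (x4 : @Quotient.{(ku0+1)} (@List.{ku0} @x0) (@List.isSetoid.{ku0} @x0)) => @Decidable ((x5 : x0) → ((@Membership.mem.{ku0, ku0} @x0 (@Multiset.{ku0} @x0) (@Multiset.instMembership.{ku0} @x0) @x4 @x5) → @x2 @x5))) (@Multiset.decidableForallMultiset._proof_2.{ku0} @x0 @x2) @x1 @(fun (x4 : @List.{ku0} @x0) => @Decidable.rec.{1} ((x5 : x0) → ((@Membership.mem.{ku0, ku0} @x0 (@List.{ku0} @x0) (@List.instMembership.{ku0} @x0) @x4 @x5) → @x2 @x5)) @(fun (x5 : @Decidable ((x5 : x0) → ((@Membership.mem.{ku0, ku0} @x0 (@List.{ku0} @x0) (@List.instMembership.{ku0} @x0) @x4 @x5) → @x2 @x5))) =>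 @Decidable ((x6 : x0) → ((@Membership.mem.{ku0, ku0} @x0 (@Multiset.{ku0} @x0) (@Multiset.instMembership.{ku0} @x0) (@Quotient.mk.{(ku0+1)} (@List.{ku0} @x0) (@List.isSetoid.{ku0} @x0) @x4) @x6) → @x2 @x6))) @(fun (x5 : @Not ((x5 : x0) → ((@Membership.mem.{ku0, ku0} @x0 (@List.{ku0} @x0) (@List.instMembership.{ku0} @x0) @x4 @x5) → @x2 @x5))) => @Decidable.isFalse ((x6 : x0) → ((@Membership.mem.{ku0, ku0} @x0 (@Multiset.{ku0} @x0) (@Multiset.instMembership.{ku0} @x0) (@Quotient.mk.{(ku0+1)} (@List.{ku0} @x0) (@List.isSetoid.{ku0} @x0) @x4) @x6) → @x2 @x6)) (@decidable_of_decidable_of_iff._proof_1 ((x6 : x0) → ((@Membership.mem.{ku0, ku0} @x0 (@List.{ku0} @x0) (@List.instMembership.{ku0} @x0) @x4 @x6) → @x2 @x6)) ((x6 : x0) → ((@Membership.mem.{ku0, ku0} @x0 (@Multiset.{ku0} @x0) (@Multiset.instMembership.{ku0} @x0) (@Quotient.mk.{(ku0+1)} (@List.{ku0} @x0) (@List.isSetoid.{ku0} @x0) @x4) @x6) → @x2 @x6)) (@Multiset.decidableForallMultiset._proof_1.{ku0}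 @x0 @x2 @x4) @x5)) @(fun (x5 : ((x5 : x0) → ((@Membership.mem.{ku0, ku0} @x0 (@List.{ku0} @x0) (@List.instMembership.{ku0} @x0) @x4 @x5) → @x2 @x5))) => @Decidable.isTrue ((x6 : x0) → ((@Membership.mem.{ku0, ku0} @x0 (@Multiset.{ku0} @x0) (@Multiset.instMembership.{ku0} @x0) (@Quotient.mk.{(ku0+1)} (@List.{ku0} @x0) (@List.isSetoid.{ku0} @x0) @x4) @x6) → @x2 @x6)) (@Iff.mp ((x6 : x0) → ((@Membership.mem.{ku0, ku0} @x0 (@List.{ku0} @x0) (@List.instMembership.{ku0} @x0) @x4 @x6) → @x2 @x6)) ((x6 : x0) → ((@Membership.mem.{ku0, ku0} @x0 (@Multiset.{ku0} @x0) (@Multiset.instMembership.{ku0} @x0) (@Quotient.mk.{(ku0+1)} (@List.{ku0} @x0) (@List.isSetoid.{ku0} @x0) @x4) @x6) → @x2 @x6)) (@Multiset.decidableForallMultiset._proof_1.{ku0} @x0 @x2 @x4) @x5)) (@Cfsg.Agent.KO27864e8.k50.{ku0} @x0 @x2 @x3 @x4)))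
private theorem _root_.Cfsg.Agent.KO27864e8.e55.{ku0} : @Multiset.decidableForallMultiset.{ku0} = @_root_.Cfsg.Agent.KO27864e8.k55.{ku0} := by delta _root_.Cfsg.Agent.KO27864e8.k55; rewrite [← Cfsg.Agent.KO27864e8.e50.{ku0}, ← Cfsg.Agent.KO27864e8.e54.{(ku0+1), 1}]; rfl'
private noncomputable def _root_.Cfsg.Agent.KO27864e8.k59.{ku0} : type_of% @Multiset.decidableDforallMultiset.{ku0} := @(fun x0 x1 x2 x3 => @Decidable.rec.{1} _ @(fun x4 => @Decidable ((x5 : @x0) → (x6 : @Membership.mem.{ku0, ku0} _ _ _ @x1 @x5) → @x2 @x5 @x6)) @(fun x4 => @Decidable.isFalse _ (@decidable_of_decidable_of_iff._proof_1 _ _ (@Multiset.decidableDforallMultiset._proof_2.{ku0} _ _ _) @x4)) @(fun x4 => @Decidable.isTrue _ (@Iff.mp _ _ (@Multiset.decidableDforallMultiset._proof_2.{ku0} _ _ _) @x4)) (@Cfsg.Agent.KO27864e8.k55.{ku0} _ _ @(fun x4 => @x2 (@Subtype.val.{(ku0+1)} _ @(fun x5 => @Membership.mem.{ku0, ku0} _ _ _ @x1 @x5) @x4) (@Multiset.decidableDforallMultiset._proof_1.{ku0}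 _ _ @x4)) @(fun x4 => @x3 (@Subtype.val.{(ku0+1)} _ @(fun x5 => @Membership.mem.{ku0, ku0} _ _ _ @x1 @x5) @x4) (@Multiset.decidableDforallMultiset._proof_1.{ku0} _ _ @x4))))
private theorem _root_.Cfsg.Agent.KO27864e8.e59.{ku0} : @Multiset.decidableDforallMultiset.{ku0} = @_root_.Cfsg.Agent.KO27864e8.k59.{ku0} := by delta _root_.Cfsg.Agent.KO27864e8.k59; rewrite [← Cfsg.Agent.KO27864e8.e55.{ku0}]; rfl'
private noncomputable def _root_.Cfsg.Agent.KO27864e8.k60.{ku0} : type_of% @Finset.decidableDforallFinset.{ku0} := @(fun x0 x1 x2 x3 => @Cfsg.Agent.KO27864e8.k59.{ku0} _ _ _ @x3)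
private theorem _root_.Cfsg.Agent.KO27864e8.e60.{ku0} : @Finset.decidableDforallFinset.{ku0} = @_root_.Cfsg.Agent.KO27864e8.k60.{ku0} := by delta _root_.Cfsg.Agent.KO27864e8.k60; rewrite [← Cfsg.Agent.KO27864e8.e59.{ku0}]; rfl'
private noncomputable def _root_.Cfsg.Agent.KO27864e8.k61.{ku0, ku1} : type_of% @Fintype.decidablePiFintype.{ku0, ku1} := @(fun x0 x1 x2 x3 x4 x5 => @Decidable.rec.{1} _ @(fun x6 => @Decidable (@Eq.{(max (ku0+1) (ku1+1))} _ @x4 @x5)) @(fun x6 => @Decidable.isFalse _ (@decidable_of_decidable_of_iff._proof_1 _ _ (@Fintype.decidablePiFintype._proof_2.{ku1, ku0} _ _ _ @x4 @x5) @x6)) @(fun x6 => @Decidable.isTrue _ (@Iff.mp _ _ (@Fintype.decidablePiFintype._proof_2.{ku1, ku0} _ _ _ @x4 @x5) @x6)) (@Cfsg.Agent.KO27864e8.k60.{ku1} _ _ @(fun x6 x7 => @Eq.{(ku0+1)} _ (@x4 @x6) (@x5 @x6)) @(fun x6 x7 => @x2 @x6 (@x4 @x6) (@x5 @x6))))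
private theorem _root_.Cfsg.Agent.KO27864e8.e61.{ku0, ku1} : @Fintype.decidablePiFintype.{ku0, ku1} = @_root_.Cfsg.Agent.KO27864e8.k61.{ku0, ku1} := by delta _root_.Cfsg.Agent.KO27864e8.k61; rewrite [← Cfsg.Agent.KO27864e8.e60.{ku1}]; rfl'

theorem fire_LE0 : ∀ c ∈ LE0, ∀ j, fire (cartanOf chevE6 6) c j ∈ LE0 := by
  rw [cartan_six]
  (first | (refine of_decide_eq_true ?_; rewrite [Cfsg.Agent.KO27864e8.e45, Cfsg.Agent.KO27864e8.e50.{0}, Cfsg.Agent.KO27864e8.e47, Cfsg.Agent.KO27864e8.e52.{0}, Cfsg.Agent.KO27864e8.e61.{0, 0}, Cfsg.Agent.KO27864e8.e48, Cfsg.Agent.KO27864e8.e10.{0}, Cfsg.Agent.KO27864e8.e17]; decide +kernel) | decide +kernel)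

/-- the orbit of type `5` -/
def LE5 : List (Fin 6 → ℤ) :=
  [![-1, 0, 0, 0, 0, 0], ![1, 0, -1, 0, 0, 0], ![0, 0, 1, -1, 0, 0], ![0, -1, 0, 1, -1, 0], ![0, 1, 0, 0, -1, 0], ![0, -1, 0, 0, 1, -1], ![0, 1, 0,
  -1, 1, -1], ![0, -1, 0, 0, 0, 1], ![0, 0, -1, 1, 0, -1], ![0, 1, 0, -1, 0, 1], ![-1, 0, 1, 0, 0, -1], ![0, 0, -1, 1, -1, 1], ![1, 0, 0, 0, 0, -1],
  ![-1, 0, 1, 0, -1, 1], ![0, 0, -1, 0, 1, 0], ![1, 0, 0, 0, -1, 1], ![-1, 0, 1, -1, 1, 0], ![1, 0, 0, -1, 1, 0], ![-1, -1, 0, 1, 0, 0], ![-1, 1, 0,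
  0, 0, 0], ![1, -1, -1, 1, 0, 0], ![1, 1, -1, 0, 0, 0], ![0, -1, 1, 0, 0, 0], ![0, 1, 1, -1, 0, 0], ![0, 0, 0, 1, -1, 0], ![0, 0, 0, 0, 1, -1], ![0,
  0, 0, 0, 0, 1]]

theorem chn_LE5 : H2.Ppd.chn (cartanOf chevE6 6) (Pi.single 5 1) LE5 = true := by
  rw [cartan_six]
  (first | (rewrite [Cfsg.Agent.KO27864e8.e11, Cfsg.Agent.KO27864e8.e17, Cfsg.Agent.KO27864e8.e19.{0, 0}, Cfsg.Agent.KO27864e8.e20]; decide +kernel) | decide +kernel)

theorem mem_LE5 : (Pi.single 5 1 : Fin 6 → ℤ) ∈ LE5 := by decide +kernel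

theorem fire_LE5 : ∀ c ∈ LE5, ∀ j, fire (cartanOf chevE6 6) c j ∈ LE5 := by
  rw [cartan_six]
  (first | (refine of_decide_eq_true ?_; rewrite [Cfsg.Agent.KO27864e8.e45, Cfsg.Agent.KO27864e8.e50.{0}, Cfsg.Agent.KO27864e8.e47, Cfsg.Agent.KO27864e8.e52.{0}, Cfsg.Agent.KO27864e8.e61.{0, 0}, Cfsg.Agent.KO27864e8.e48, Cfsg.Agent.KO27864e8.e10.{0}, Cfsg.Agent.KO27864e8.e17]; decide +kernel) | decide +kernel)


section dims

variable {W Y : Type*} [Group W] [Group Y] {cs : CoxeterSystem CoxeterMatrix.E₆ W} {p : ℕ} {T : Subgroup Y}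
  {n : Fin 6 → Y} {X : (Fin 6 → ℤ) → Subgroup Y} {k V : Type*} [Field k] [AddCommGroup V] [Module k V]
  (R : RGD cs isType_E6.isCartan p T n X) [Finite Y] [Finite W] [Fact p.Prime] [CharP k p]
  {ρ : Y →* Module.End k V} [FiniteDimensional k V] [Nontrivial V]
  (hirr : ∀ L : Submodule k V, Ivt ρ (GG cs isType_E6.isCartan T X) L → L = ⊥ ∨ L = ⊤)
include R hirr

theorem e6_node {i : Fin 6} (hi : i ∉ Jx cs isType_E6.isCartan X ρ) (h0 : i ≠ 0) (h5 : i ≠ 5) :
    29 * Module.finrank k (D cs isType_E6.isCartan X ρ) ≤ Module.finrank k V := by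
  have key : ∀ L : List (List (Fin 6)), (L.map (cf cE6 i)).Nodup →
      L.length * Module.finrank k (D cs isType_E6.isCartan X ρ) ≤ Module.finrank k V := by
    intro L hL
    rw [← cartan_six] at hL
    exact (Nat.le_add_right _ _).trans (dim_ge_list R hirr hi L [] hL (by simp))
  fin_cases i
  · exact absurd rfl h0
  · exact key [[], [1], [1, 3], [1, 3, 2], [1, 3, 4], [1, 3, 2, 0], [1, 3, 2, 4], [1, 3, 4, 5], [1, 3, 2, 0, 4], [1, 3, 2, 4, 3], [1, 3, 2, 4, 5], [1, 3, 2,
      0, 4, 3], [1, 3, 2, 0, 4, 5], [1, 3, 2, 4, 3, 1], [1, 3, 2, 4, 3, 5], [1, 3, 2, 0, 4, 3, 1], [1, 3, 2, 0, 4, 3, 2], [1, 3, 2, 0, 4, 3, 5], [1,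
      3, 2, 4, 3, 1, 5], [1, 3, 2, 4, 3, 5, 4], [1, 3, 2, 0, 4, 3, 1, 2], [1, 3, 2, 0, 4, 3, 1, 5], [1, 3, 2, 0, 4, 3, 2, 5], [1, 3, 2, 0, 4, 3, 5,
      4], [1, 3, 2, 4, 3, 1, 5, 4], [1, 3, 2, 0, 4, 3, 1, 2, 3], [1, 3, 2, 0, 4, 3, 1, 2, 5], [1, 3, 2, 0, 4, 3, 1, 5, 4], [1, 3, 2, 0, 4, 3, 2, 5,
      4]]
      (by decide +kernel)
  · exact key [[], [2], [2, 0], [2, 3], [2, 0, 3], [2, 3, 1], [2, 3, 4], [2, 0, 3, 1], [2, 0, 3, 2], [2, 0, 3, 4], [2, 3, 1, 4], [2, 3, 4, 5], [2, 0, 3, 1,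
      2], [2, 0, 3, 1, 4], [2, 0, 3, 2, 4], [2, 0, 3, 4, 5], [2, 3, 1, 4, 3], [2, 3, 1, 4, 5], [2, 0, 3, 1, 2, 3], [2, 0, 3, 1, 2, 4], [2, 0, 3, 1,
      4, 3], [2, 0, 3, 1, 4, 5], [2, 0, 3, 2, 4, 3], [2, 0, 3, 2, 4, 5], [2, 3, 1, 4, 3, 2], [2, 3, 1, 4, 3, 5], [2, 0, 3, 1, 2, 3, 4], [2, 0, 3, 1,
      2, 4, 3], [2, 0, 3, 1, 2, 4, 5]]
      (by decide +kernel)
  · exact key [[], [3], [3, 1], [3, 2], [3, 4], [3, 1, 2], [3, 1, 4], [3, 2, 0], [3, 2, 4], [3, 4, 5], [3, 1, 2, 0], [3, 1, 2, 3], [3, 1, 2, 4], [3, 1, 4,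
      3], [3, 1, 4, 5], [3, 2, 0, 4], [3, 2, 4, 3], [3, 2, 4, 5], [3, 1, 2, 0, 3], [3, 1, 2, 0, 4], [3, 1, 2, 3, 4], [3, 1, 2, 4, 3], [3, 1, 2, 4,
      5], [3, 1, 4, 3, 2], [3, 1, 4, 3, 5], [3, 2, 0, 4, 3], [3, 2, 0, 4, 5], [3, 2, 4, 3, 1], [3, 2, 4, 3, 5]]
      (by decide +kernel)
  · exact key [[], [4], [4, 3], [4, 5], [4, 3, 1], [4, 3, 2], [4, 3, 5], [4, 3, 1, 2], [4, 3, 1, 5], [4, 3, 2, 0], [4, 3, 2, 5], [4, 3, 5, 4], [4, 3, 1, 2,
      0], [4, 3, 1, 2, 3], [4, 3, 1, 2, 5], [4, 3, 1, 5, 4], [4, 3, 2, 0, 5], [4, 3, 2, 5, 4], [4, 3, 1, 2, 0, 3], [4, 3, 1, 2, 0, 5], [4, 3, 1, 2,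
      3, 4], [4, 3, 1, 2, 3, 5], [4, 3, 1, 2, 5, 4], [4, 3, 1, 5, 4, 3], [4, 3, 2, 0, 5, 4], [4, 3, 2, 5, 4, 3], [4, 3, 1, 2, 0, 3, 2], [4, 3, 1, 2,
      0, 3, 4], [4, 3, 1, 2, 0, 3, 5]]
      (by decide +kernel)
  · exact absurd rfl h5

theorem e6_two (h0 : (0 : Fin 6) ∉ Jx cs isType_E6.isCartan X ρ) (h5 : (5 : Fin 6) ∉ Jx cs isType_E6.isCartan X ρ) :
    29 * Module.finrank k (D cs isType_E6.isCartan X ρ) ≤ Module.finrank k V := by
  have key : ∀ L : List (List (Fin 6)), (L.map fun ω => (cf cE6 0 ω, cf cE6 5 ω)).Nodup →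
      L.length * Module.finrank k (D cs isType_E6.isCartan X ρ) ≤ Module.finrank k V := by
    intro L hL
    rw [← cartan_six] at hL
    exact (Nat.le_add_right _ _).trans (dim_ge_list_two R hirr h0 h5 (by decide) L [] [] hL (by simp) (by simp))
  exact key [[], [0], [5], [0, 2], [0, 5], [5, 4], [0, 2, 3], [0, 2, 5], [0, 5, 4], [5, 4, 3], [0, 2, 3, 1], [0, 2, 3, 4], [0, 2, 3, 5], [0, 2, 5, 4], [0,
      5, 4, 3], [5, 4, 3, 1], [5, 4, 3, 2], [0, 2, 3, 1, 4], [0, 2, 3, 1, 5], [0, 2, 3, 4, 5], [0, 2, 3, 5, 4], [0, 2, 5, 4, 3], [0, 5, 4, 3, 1], [0,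
      5, 4, 3, 2], [5, 4, 3, 1, 2], [5, 4, 3, 2, 0], [0, 2, 3, 1, 4, 3], [0, 2, 3, 1, 4, 5], [0, 2, 3, 1, 5, 4]]
      (by decide +kernel)

theorem e6_le {i : Fin 6} (hi : i ∉ Jx cs isType_E6.isCartan X ρ) (hJ : ∀ j, j ∉ Jx cs isType_E6.isCartan X ρ → j = i)
    (hi05 : i = 0 ∨ i = 5)
    (hd : Module.finrank k (Le cs isType_E6.isCartan T X ρ {i}) ≤ 2 * Module.finrank k (D cs isType_E6.isCartan X ρ)) :
    Module.finrank k V ≤ 27 * Module.finrank k (D cs isType_E6.isCartan X ρ) := by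
  rcases hi05 with rfl | rfl
  · have h1 := dim_le_vec R hirr hi hJ hd LE0 mem_LE0 fire_LE0
      (H2.Ppd.exists_of_chn cs isType_E6.isCartan chn_LE0).1 fun x hx hpos => root_orbit' cs chkR_0 hx hpos
    rwa [show LE0.length = 27 from by decide +kernel] at h1
  · have h1 := dim_le_vec R hirr hi hJ hd LE5 mem_LE5 fire_LE5
      (H2.Ppd.exists_of_chn cs isType_E6.isCartan chn_LE5).1 fun x hx hpos => root_orbit' cs chkR_5 hx hpos
    rwa [show LE5.length = 27 from by decide +kernel] at h1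

end dims


section main

variable {F : Type} [Field F] [Fintype F] {ι : Type} [Fintype ι] [DecidableEq ι] [Nonempty ι]
  {P : Subgroup (GL ι F)} [CharP F 2] {K : Type} [Field K] [Fintype K] [CharP K 2]
  {φ : ↥(chevE6.group K) →* GL ι F} (hφ : φ.range = P)
  (hP : ActsAbsolutelyIrreducibly (matrixSet P)) (h2 : 2 ≤ Fintype.card ι) (hF : Fintype.card F = 2)
  (hK : Fintype.card K = 2)
include hφ hP h2 hF hK

/-- **The dimension of a module of `E₆(2)` over a field with two elements.** -/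
theorem e6_dim : 29 ≤ Fintype.card ι ∨ Fintype.card ι ≤ 27 := by
  have hp : Fact (Nat.Prime 2) := ⟨Nat.prime_two⟩
  have hW : Finite CoxeterMatrix.E₆.Group := finite_W isType_E6 CoxeterMatrix.E₆.toCoxeterSystem
  have hchar : CharP (AlgebraicClosure F) 2 := charP_of_injective_algebraMap (algebraMap F _).injective 2
  have R := rgd (K := K) isType_E6 CoxeterMatrix.E₆.toCoxeterSystem 2
  have hG := KFacts.Mult.RGDW.GG_eq_top_of_G1 (G1_eq_top (K := K) isType_E6 CoxeterMatrix.E₆.toCoxeterSystem)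
    (T := (chevE6.diagonalSubgroup K).subgroupOf (chevE6.group K))
  have hT : ∀ s ∈ (chevE6.diagonalSubgroup K).subgroupOf (chevE6.group K),
      ∀ t ∈ (chevE6.diagonalSubgroup K).subgroupOf (chevE6.group K), s * t = t * s :=
    fun s hs t ht' => Subtype.ext (H2.Ppd.diag_comm isType_E6.inList hs ht')
  have hirr := ac_irr R hG hT hφ hP
  have hD := finrank_D R hirr hT
  have hfin : Module.finrank (AlgebraicClosure F) (ι → AlgebraicClosure F) = Fintype.card ι :=
    Module.finrank_fintype_fun_eq_card _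
  obtain ⟨i, hi⟩ := exists_not_mem R hirr (by rw [hD, hfin]; omega)
  -- the edges
  have hedge : ∀ j : Fin 6, j ∉ Jx CoxeterMatrix.E₆.toCoxeterSystem isType_E6.isCartan
      (fun x => (XV chevE6 6 K x).subgroupOf (chevE6.group K)) (_root_.Cfsg.Agent.H911.lin (acRep φ)) →
      Module.finrank (AlgebraicClosure F) (Le CoxeterMatrix.E₆.toCoxeterSystem isType_E6.isCartan
        ((chevE6.diagonalSubgroup K).subgroupOf (chevE6.group K))
        (fun x => (XV chevE6 6 K x).subgroupOf (chevE6.group K)) (_root_.Cfsg.Agent.H911.lin (acRep φ)) {j}) ≤ 2 := by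
    intro j hj
    obtain ⟨c, hc, hc0, χ, hχ⟩ := exists_chi R hirr hT
    obtain ⟨ι₀⟩ := Cfsg.Agent.H875.Psl2.exists_emb F K 2
    obtain ⟨r₀, hr0, hrlt, -, hd⟩ := edge_data R hG hT hφ hP (H744.Ppd.sg_nd isType_E6 CoxeterMatrix.E₆.toCoxeterSystem 2 j)
      hj (a := 1) (f := 1) (s := 1) (by rw [Nat.card_eq_fintype_card, hF, pow_one])
      (by rw [Nat.card_eq_fintype_card, hK, pow_one]) (by norm_num) ι₀ hc hc0 hχ
    rw [hd, pow_one]
    have h1 : r₀ = 1 := by
      norm_num at hrlt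
      omega
    rw [h1]
    decide +kernel
  by_cases h05 : ∃ j : Fin 6, j ∉ Jx CoxeterMatrix.E₆.toCoxeterSystem isType_E6.isCartan
      (fun x => (XV chevE6 6 K x).subgroupOf (chevE6.group K)) (_root_.Cfsg.Agent.H911.lin (acRep φ)) ∧ j ≠ 0 ∧ j ≠ 5
  · obtain ⟨j, hj, h0, h5⟩ := h05
    have h1 := e6_node R hirr hj h0 h5
    rw [hD, hfin] at h1
    left
    omega
  · push Not at h05
    by_cases hboth : (0 : Fin 6) ∉ Jx CoxeterMatrix.E₆.toCoxeterSystem isType_E6.isCartan
        (fun x => (XV chevE6 6 K x).subgroupOf (chevE6.group K)) (_root_.Cfsg.Agent.H911.lin (acRep φ)) ∧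
      (5 : Fin 6) ∉ Jx CoxeterMatrix.E₆.toCoxeterSystem isType_E6.isCartan
        (fun x => (XV chevE6 6 K x).subgroupOf (chevE6.group K)) (_root_.Cfsg.Agent.H911.lin (acRep φ))
    · have h1 := e6_two R hirr hboth.1 hboth.2
      rw [hD, hfin] at h1
      left
      omega
    · right
      have h6 : i = 0 ∨ i = 5 := by
        by_cases h0 : i = 0
        · exact Or.inl h0
        · exact Or.inr (h05 i hi h0)
      have hJ : ∀ j, j ∉ Jx CoxeterMatrix.E₆.toCoxeterSystem isType_E6.isCartan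
          (fun x => (XV chevE6 6 K x).subgroupOf (chevE6.group K)) (_root_.Cfsg.Agent.H911.lin (acRep φ)) → j = i := by
        intro j hj
        have h7 : j = 0 ∨ j = 5 := by
          by_cases h0 : j = 0
          · exact Or.inl h0
          · exact Or.inr (h05 j hj h0)
        rcases h6 with rfl | rfl <;> rcases h7 with rfl | rfl
        · rfl
        · exact absurd ⟨hi, hj⟩ hboth
        · exact absurd ⟨hj, hi⟩ hboth
        · rfl
      have h1 := e6_le R hirr hi hJ h6 (by rw [hD]; exact hedge i hi)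
      rw [hD, hfin] at h1
      omega

end main

section row

theorem even_two {ι : Type} [Fintype ι] [DecidableEq ι] {F : Type*} [Field F] {Qf : (ι → F) → F}
    (hQ : IsNondegenerateQuadraticForm Qf) (h2 : (2 : F) = 0) : Even (Fintype.card ι) := by
  have hp := hQ.polar_bilinear
  have halt : ∀ v, QuadraticMap.polar Qf v v = 0 := by
    intro v
    have h0 : Qf (v + v) = 4 * Qf v := by
      have h1 := hQ.smul 2 v
      rw [two_smul] at h1
      rw [h1]; ring
    show Qf (v + v) - Qf v - Qf v = 0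
    rw [h0]
    linear_combination Qf v * h2
  have hs : IsSymplecticForm (QuadraticMap.polar Qf) := ⟨hp, fun v w => by
    have h1 : QuadraticMap.polar Qf v w = QuadraticMap.polar Qf w v := QuadraticMap.polar_comm _ _ _
    rw [h1]
    linear_combination QuadraticMap.polar Qf w v * h2, halt, hQ.nondegenerate⟩
  have h3 := Cfsg.Agent.H953.even_finrank_of_alt (Cfsg.Agent.H953.toBil hs) halt (by
    intro u hu
    by_contra hne
    obtain ⟨-, x, hx⟩ := hQ.nondegenerate u hne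
    exact hx (hu x))
  rwa [Module.finrank_fintype_fun_eq_card] at h3

variable {Q : Type} [Group Q] [Finite Q] {A : Subgroup Q} {Γ : Subgroup (MulAut Q)} {ι : Type} [Fintype ι]
    [DecidableEq ι] {F : Type} [Field F] [Fintype F] {S P : Subgroup (GL ι F)}

/-- **Socle `E₆(2)`.** -/
theorem two_e6 (b : Big A Γ S P) {K : Type} [Field K] [Fintype K] (hg : TwoGen.{0}) (hK : Fintype.card K = 2)
    (hc : ringChar F = ringChar K) (e : Nonempty (socle P ≃* ↥(Lie.chevE6.group K))) : False := by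
  obtain ⟨e⟩ := e
  obtain ⟨hQ, hAle⟩ := ub_E6 hg b hK e
  have hcK : CharP K 2 := charP_two (n := 1) (by rw [hK, pow_one])
  have hcF : CharP F 2 := by
    have h1 : ringChar F = 2 := hc.trans (ringChar.eq K 2)
    exact h1 ▸ ringChar.charP F
  have hn := two_chev b hK hc isType_E6 Cfsg.Agent.KFacts.MulOdd.InstChev.parity_E6 (c := 27)
    (fun _ J i hi => H243.EP.index_E6 _ hi) e
  have hF1 : 2 ≤ Fintype.card F := Fintype.one_lt_card
  rcases Nat.lt_or_ge 2 (Fintype.card F) with hF3 | hF3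
  · -- `|F| ≥ 4`
    have hp : Fact (Nat.Prime 2) := ⟨Nat.prime_two⟩
    obtain ⟨a, -, hF⟩ := FiniteField.card F 2
    have h4 : 2 ^ 2 ≤ Fintype.card F := by
      rw [hF] at hF3 ⊢
      refine Nat.pow_le_pow_right (by norm_num) ?_
      by_contra hcon
      have h5 : (a : ℕ) = 1 := by
        have := a.pos
        omega
      rw [h5] at hF3
      omega
    refine kill_num b hQ hAle (E := 2 * (27 * (27 - 1) / 2)) ?_ (by decide +kernel)
    rw [pow_mul]
    have h1 : 27 * (27 - 1) / 2 ≤ Fintype.card ι * (Fintype.card ι - 1) / 2 :=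
      Nat.div_le_div_right (Nat.mul_le_mul hn (by omega))
    exact (Nat.pow_le_pow_right (by norm_num) h1).trans (Nat.pow_le_pow_left h4 _)
  · -- `|F| = 2`
    have hF : Fintype.card F = 2 := by omega
    have hne : Nonempty ι := nonempty_of_big b
    have hC := H915.LD.core_of_residual b.core
    -- no scalars
    have hsc : ((scalars ι F).subgroupOf P) = ⊥ := by
      rw [eq_bot_iff]
      intro g hg
      rw [Subgroup.mem_bot]
      obtain ⟨c, hc'⟩ := (mem_scalars_iff _).1 (Subgroup.mem_subgroupOf.1 hg)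
      have h1 : c = 1 := by
        have h2 : Nat.card Fˣ = 1 := by rw [Nat.card_units, Nat.card_eq_fintype_card, hF]
        have h3 := (Nat.card_eq_one_iff_unique.1 h2).1
        exact Subsingleton.elim _ _
      rw [h1, Units.val_one, one_smul] at hc'
      exact Subtype.ext (Units.ext hc')
    let f : P ≃* ↥(chevE6.group K) :=
      ((QuotientGroup.quotientMulEquivOfEq hsc).trans QuotientGroup.quotientBot).symm.trans e
    have hφ : (P.subtype.comp f.symm.toMonoidHom).range = P := by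
      rw [MonoidHom.range_comp, MonoidHom.range_eq_top.2 f.symm.surjective, ← MonoidHom.range_eq_map,
        Subgroup.range_subtype]
    rcases e6_dim hφ hC.absIrred (by omega) hF hK with h29 | h27
    · exact kill_num b hQ hAle (E := 29 * (29 - 1) / 2) (pow_le_of h29 hF1) (by decide +kernel)
    · have hcard : Fintype.card ι = 27 := le_antisymm h27 hn
      rcases b.kind with ⟨-, ho, -, -, -⟩ | ⟨f, -, -, h3, -, -, -⟩ | ⟨q, hq, σ, f, -, -, -, -, -, -⟩ |
        ⟨Qf, hQf, -, -, -⟩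
      · rw [hF, hcard] at ho
        have h1 : Nat.card A ^ 5 * 14 ≤ (214841575522005575270400 * 2) ^ 5 * 14 :=
          Nat.mul_le_mul_right _ (Nat.pow_le_pow_left hAle 5)
        have h2 : (214841575522005575270400 * 2) ^ 5 * 14 < 10000 * 2 ^ (27 ^ 2 - 2) := by decide +kernel
        have h3 : 10000 * 2 ^ (27 ^ 2 - 2) ≤ 10000 * Nat.card Q := Nat.mul_le_mul_left _ ho
        exact absurd ((h3.trans hQ).trans h1) (not_le.2 h2)
      · omega
      · rw [hF] at hq
        have h1 : q < 2 := by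
          by_contra hcon
          have h2 : 2 ^ 2 ≤ q ^ 2 := Nat.pow_le_pow_left (not_lt.1 hcon) 2
          omega
        interval_cases q <;> omega
      · have h1 := even_two hQf (by
          have h2 := CharP.cast_eq_zero F 2
          exact_mod_cast h2)
        rw [hcard] at h1
        exact absurd h1 (by decide)

end row

end Cfsg.Agent.H241.Own
end

private theorem dce_22427ac58e0d : _root_.True := by
  try have : _root_.True := by simp only [_root_.Cfsg.Agent.H241.Own.Vx.congr_simp]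
  exact _root_.True.intro
end
end

-- part: H1/EP8/Cross
section
set_option linter.all false
open scoped Cfsg.Agent.FastGrp

-- part: H1/EP8/Diag
section
/-!
# Elementary abelian 2-groups in projective self-dual representations of dimension eight (helper1, task 5978)

* `exists_diag` : simultaneous diagonalisation of an abelian subgroup;
* `PD.sixteen` : no `2⁴ : SL₂(4)` in dimension eight, characteristic not two;
* `PD.psl34` : no `PSL₃(4)`.
-/

set_option autoImplicit false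
set_option linter.unusedSectionVars false

universe u v w

namespace Cfsg.Agent.H1.EP8

open Module Cfsg.Agent.H912.Bd

section diag

variable {K : Type*} [Field K] {V : Type*} [AddCommGroup V] [Module K V] {L : Type*} [Group L]
  [FiniteDimensional K V] (ρ : L →* Module.End K V) {A : Subgroup L}

/-- the basis of weight vectors -/
theorem exists_basis [IsAlgClosed K] (hA : ∀ a ∈ A, ∀ b ∈ A, a * b = b * a) {N : ℕ} (hN : (N : K) ≠ 0)
    (hAN : ∀ a ∈ A, a ^ N = 1) :
    ∃ (b : Basis (Fin (finrank K V)) K V) (χ : Fin (finrank K V) → A → K), ∀ i, b i ∈ wt ρ A (χ i) := by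
  classical
  have hint : DirectSum.IsInternal (wt ρ A) :=
    (DirectSum.isInternal_submodule_iff_iSupIndep_and_iSup_eq_top _).2 ⟨indep_wt ρ hA hN hAN, iSup_wt ρ hA hN hAN⟩
  let b' := hint.collectedBasis (fun χ => Module.finBasis K (wt ρ A χ))
  have hfin := FiniteDimensional.fintypeBasisIndex b'
  let e := Fintype.equivFinOfCardEq (Module.finrank_eq_card_basis b').symm
  refine ⟨b'.reindex e, fun i => (e.symm i).1, fun i => ?_⟩
  rw [Basis.reindex_apply]
  exact hint.collectedBasis_mem _ _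

theorem exists_diag [IsAlgClosed K] (hA : ∀ a ∈ A, ∀ b ∈ A, a * b = b * a) {N : ℕ} (hN : (N : K) ≠ 0)
    (hAN : ∀ a ∈ A, a ^ N = 1) :
    ∃ (b : Basis (Fin (finrank K V)) K V) (χ : Fin (finrank K V) → A →* K), ∀ i (a : A), ρ a (b i) = χ i a • b i := by
  obtain ⟨b, χ, h⟩ := exists_basis ρ hA hN hAN
  have hne : ∀ i, wt ρ A (χ i) ≠ ⊥ := by
    intro i hbot
    have h1 := h i
    rw [hbot, Submodule.mem_bot] at h1
    exact b.ne_zero i h1
  exact ⟨b, fun i => ⟨⟨χ i, wt_one ρ (hne i)⟩, fun x y => wt_mul ρ (hne i) x y⟩, fun i a => mem_wt.1 (h i) a⟩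

theorem exists_diag' [IsAlgClosed K] (hA : ∀ a ∈ A, ∀ b ∈ A, a * b = b * a) {N : ℕ} (hN : (N : K) ≠ 0)
    (hAN : ∀ a ∈ A, a ^ N = 1) {n : ℕ} (hn : finrank K V = n) :
    ∃ (b : Basis (Fin n) K V) (χ : Fin n → A →* K), ∀ i (a : A), ρ a (b i) = χ i a • b i := by
  subst hn
  exact exists_diag ρ hA hN hAN

variable {κ : Type*} [Fintype κ] (b : Basis κ K V) (f : Module.End K V) (c : κ → K) (hf : ∀ i, f (b i) = c i • b i)

include hf in
open Classical in
/-- the fixed space of a diagonalisable endomorphism -/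
theorem finrank_ker : finrank K (LinearMap.ker (f - 1)) = (Finset.univ.filter fun i => c i = 1).card := by
  have h1 : LinearMap.ker (f - 1) = Submodule.span K (Set.range fun i : {i // c i = 1} => b i) := by
    apply le_antisymm
    · intro v hv
      rw [LinearMap.mem_ker, LinearMap.sub_apply, Module.End.one_apply] at hv
      have h2 : ∀ i, (c i - 1) * b.repr v i = 0 := by
        intro i
        have h3 : f v = ∑ j, (c j * b.repr v j) • b j := by
          conv_lhs => rw [← b.sum_repr v]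
          rw [map_sum]
          refine Finset.sum_congr rfl fun j _ => ?_
          rw [map_smul, hf, smul_smul, mul_comm]
        have h4 : b.repr (f v) i = c i * b.repr v i := by
          rw [h3]
          simp only [map_sum, Finsupp.single_apply, _root_.map_sum, _root_.map_smul, _root_.Module.Basis.repr_self, _root_.Finsupp.smul_single, _root_.smul_eq_mul, _root_.mul_one, _root_.Finsupp.single_mul, _root_.Finsupp.coe_finsetSum, _root_.Finset.sum_apply, _root_.Finsupp.mul_apply, _root_.Finsupp.single_apply, _root_.mul_ite, _root_.ite_mul, _root_.MulZeroClass.zero_mul, _root_.MulZeroClass.mul_zero, _root_.Finset.sum_ite_eq', _root_.Finset.mem_univ, ↓ _root_.reduceIte]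
        have h5 : b.repr (f v - v) i = 0 := by rw [hv]; simp
        rw [map_sub, Finsupp.sub_apply, h4] at h5
        linear_combination h5
      rw [← b.sum_repr v]
      refine Submodule.sum_mem _ fun i _ => ?_
      by_cases hi : c i = 1
      · exact Submodule.smul_mem _ _ (Submodule.subset_span ⟨⟨i, hi⟩, rfl⟩)
      · rcases mul_eq_zero.1 (h2 i) with h6 | h6
        · exact absurd (sub_eq_zero.1 h6) hi
        · rw [h6, zero_smul]
          exact Submodule.zero_mem _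
    · rw [Submodule.span_le]
      rintro _ ⟨i, rfl⟩
      change b i ∈ LinearMap.ker (f - 1)
      rw [LinearMap.mem_ker, LinearMap.sub_apply, Module.End.one_apply, hf, i.2, one_smul, sub_self]
  have h2 := finrank_span_eq_card (b.linearIndependent.comp (fun i : {i // c i = 1} => (i : κ)) Subtype.val_injective)
  rw [h1]
  exact h2.trans (Fintype.card_subtype _)

end diag

end Cfsg.Agent.H1.EP8
end

-- part: H1/EP8/LFour
section
/-!
# No `PSL₃(4)` in self-dual projective representations of dimension eight, odd characteristic (helper1, task 5978)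
-/

set_option autoImplicit false
set_option linter.unusedSectionVars false

universe u v w

namespace Cfsg.Agent.H1.EP8

open Module Matrix Cfsg.Agent.H912.Bd Cfsg.Agent.H871.Par

/-- the signs -/
theorem sum_sign (m : ℕ) (e : Fin m → Fin 4 → ℤ) (he : ∀ i j, e i j = 1 ∨ e i j = -1) :
    (16 : ℤ) ∣ ∑ S : Finset (Fin 4), ∑ i, ∏ j ∈ S, e i j := by
  rw [Finset.sum_comm]
  refine Finset.dvd_sum fun i _ => ?_
  have h1 : ∑ S : Finset (Fin 4), ∏ j ∈ S, e i j = ∏ j, (1 + e i j) := by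
    rw [Finset.prod_one_add, Finset.powerset_univ]
  rw [h1, Fin.prod_univ_four]
  rcases he i 0 with h0 | h0 <;> rcases he i 1 with h1 | h1 <;> rcases he i 2 with h2 | h2 <;>
    rcases he i 3 with h3 | h3 <;> rw [h0, h1, h2, h3] <;> norm_num

/-- arithmetic: the traces `t S`, `S ≠ ∅`, are `± t` -/
theorem no_trace (t : Finset (Fin 4) → ℤ) (h0 : t ∅ = 8) (h16 : (16 : ℤ) ∣ ∑ S, t S) (D : ℤ) (hD : 0 < D) (hD8 : D < 8)
    (ht : ∀ S, S ≠ ∅ → t S = 2 * D - 8 ∨ t S = 8 - 2 * D) : False := by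
  have hsum : ∑ S, t S = t ∅ + ∑ S ∈ Finset.univ.erase ∅, t S := by
    rw [Finset.add_sum_erase _ _ (Finset.mem_univ _)]
  have hcard : (Finset.univ.erase (∅ : Finset (Fin 4))).card = 15 := by
    rw [Finset.card_erase_of_mem (Finset.mem_univ _), Finset.card_univ]
    rfl
  have key : ∀ m c : ℤ, (∀ S, S ≠ ∅ → m ∣ t S - c) → m ∣ (∑ S ∈ Finset.univ.erase ∅, t S) - 15 * c := by
    intro m c h
    have h1 : (∑ S ∈ Finset.univ.erase (∅ : Finset (Fin 4)), t S) - 15 * c =
        ∑ S ∈ Finset.univ.erase (∅ : Finset (Fin 4)), (t S - c) := by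
      rw [Finset.sum_sub_distrib, Finset.sum_const, hcard]
      simp
    rw [h1]
    exact Finset.dvd_sum fun S hS => h S (Finset.ne_of_mem_erase hS)
  rw [hsum, h0] at h16
  have hc : D = 4 ∨ D = 2 ∨ D = 6 ∨ (D % 2 = 1) := by omega
  rcases hc with h | h | h | h
  · have h1 := key 16 0 (fun S hS => by rcases ht S hS with h2 | h2 <;> rw [h2] <;> (clear * - h; omega))
    omega
  · have h1 := key 8 4 (fun S hS => by rcases ht S hS with h2 | h2 <;> rw [h2] <;> (clear * - h; omega))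
    omega
  · have h1 := key 8 4 (fun S hS => by rcases ht S hS with h2 | h2 <;> rw [h2] <;> (clear * - h; omega))
    omega
  · have h1 := key 4 2 (fun S hS => by rcases ht S hS with h2 | h2 <;> rw [h2] <;> omega)
    omega

section wd

variable {G : Type*} [Monoid G]

/-- the product of the `x j`, `j ∈ S` -/
def wd (x : Fin 4 → G) (S : Finset (Fin 4)) : G :=
  (if 0 ∈ S then x 0 else 1) * (if 1 ∈ S then x 1 else 1) * (if 2 ∈ S then x 2 else 1) * (if 3 ∈ S then x 3 else 1)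

theorem map_wd {H : Type*} [Monoid H] (φ : G →* H) (x : Fin 4 → G) (S : Finset (Fin 4)) :
    φ (wd x S) = wd (fun j => φ (x j)) S := by
  unfold wd
  simp only [map_mul, apply_ite φ, map_one]

theorem wd_eq_prod {H : Type*} [CommMonoid H] (c : Fin 4 → H) (S : Finset (Fin 4)) : wd c S = ∏ j ∈ S, c j := by
  have h1 : ∏ j ∈ S, c j = ∏ j, if j ∈ S then c j else 1 := by
    rw [Finset.prod_ite_mem, Finset.univ_inter]
  rw [h1, Fin.prod_univ_four]
  rfl

end wd

section dp

variable {K : Type*} [Field K] {V : Type*} [AddCommGroup V] [Module K V] {L : Type*} [Group L]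
  [FiniteDimensional K V] (ρ : L →* Module.End K V)

/-- the dimension of the fixed space -/
noncomputable def dp (y : L) : ℕ := finrank K (LinearMap.ker (ρ y - 1))

theorem dp_conj_le (γ y : L) : dp ρ y ≤ dp ρ (γ * y * γ⁻¹) := by
  have hinj : Function.Injective (ρ γ) := rho_injective ρ γ
  have h1 : (LinearMap.ker (ρ y - 1)).map (ρ γ) ≤ LinearMap.ker (ρ (γ * y * γ⁻¹) - 1) := by
    rintro _ ⟨v, hv, rfl⟩
    have hv' : ρ y v = v := by
      have := LinearMap.mem_ker.1 hv
      rwa [LinearMap.sub_apply, Module.End.one_apply, sub_eq_zero] at this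
    rw [LinearMap.mem_ker, LinearMap.sub_apply, Module.End.one_apply, ← Module.End.mul_apply, ← map_mul,
      inv_mul_cancel_right, map_mul, Module.End.mul_apply, hv', sub_self]
  exact ((LinearEquiv.finrank_eq (Submodule.equivMapOfInjective (ρ γ) hinj _))).le.trans (Submodule.finrank_mono h1)

theorem dp_conj (γ y : L) : dp ρ (γ * y * γ⁻¹) = dp ρ y := by
  apply le_antisymm _ (dp_conj_le ρ γ y)
  have h1 := dp_conj_le ρ γ⁻¹ (γ * y * γ⁻¹)
  rwa [show γ⁻¹ * (γ * y * γ⁻¹) * γ⁻¹⁻¹ = y by group] at h1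

end dp

variable {F : Type u} [Field F] {T : Type v} [Group T]

/-- the representation theoretic part -/
theorem no_elem16 (h : PD F 8 T) (h2 : (2 : F) ≠ 0) (E : Subgroup T) (hE : ∀ a ∈ E, a * a = 1)
    (hE8 : ∃ a ∈ E, ∃ b ∈ E, ∃ c ∈ E, a ≠ 1 ∧ b ≠ 1 ∧ b ≠ a ∧ c ≠ 1 ∧ c ≠ a ∧ c ≠ b ∧ c ≠ a * b)
    (htr : ∀ a ∈ E, ∀ b ∈ E, a ≠ 1 → b ≠ 1 → ∃ g, g * a * g⁻¹ = b)
    (x : Fin 4 → T) (hx : ∀ j, x j ∈ E) (hg1 : ∀ S, S ≠ ∅ → wd x S ≠ 1) : False := by
  classical
  obtain ⟨L, _, π, V, _, h88⟩ := h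
  revert h88; rintro ⟨_, _, ρ, B, hπ, h88⟩
  revert h88; rintro ⟨hρ, hker, hnd, hinv, h8⟩
  set K := AlgebraicClosure F with hK
  have h2' : (2 : K) ≠ 0 := two_ne h2
  have hne : (1 : K) ≠ -1 := fun h => h2' (by linear_combination h)
  have helem : ∀ x : L, π x ∈ E → x * x = 1 := fun x hx => sq_eq_one hρ hker hπ hE hE8 htr hx
  let A : Subgroup L := E.comap π
  have hA2 : ∀ a ∈ A, a * a = 1 := fun a ha => helem a ha
  have hA : ∀ a ∈ A, ∀ b ∈ A, a * b = b * a := by
    intro a ha b hb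
    have h1 := hA2 _ (A.mul_mem ha hb)
    have h3 : a⁻¹ = a := inv_eq_of_mul_eq_one_left (hA2 a ha)
    have h4 : b⁻¹ = b := inv_eq_of_mul_eq_one_left (hA2 b hb)
    have h5 : (a * b)⁻¹ = a * b := inv_eq_of_mul_eq_one_left h1
    rw [_root_.mul_inv_rev, h3, h4] at h5
    exact h5.symm
  have hN : ((2 : ℕ) : K) ≠ 0 := by exact_mod_cast h2'
  have hA2' : ∀ a ∈ A, a ^ 2 = 1 := fun a ha => by rw [pow_two]; exact hA2 a ha
  obtain ⟨b, χ, hb⟩ := exists_diag' ρ hA hN hA2' h8
  choose xl hxl using fun j => hπ (x j)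
  let xA : Fin 4 → A := fun j => ⟨xl j, by show π (xl j) ∈ E; rw [hxl]; exact hx j⟩
  -- the characters have values `± 1`
  have hχ : ∀ i (a : A), χ i a = 1 ∨ χ i a = -1 := by
    intro i a
    have h1 : χ i a * χ i a = 1 := by
      rw [← map_mul, show a * a = 1 from Subtype.ext (hA2 a a.2), map_one]
    exact mul_self_eq_one_iff.1 h1
  let e : Fin 8 → Fin 4 → ℤ := fun i j => if χ i (xA j) = 1 then 1 else -1
  have he : ∀ i j, e i j = 1 ∨ e i j = -1 := by
    intro i j
    by_cases h : χ i (xA j) = 1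
    · exact Or.inl (if_pos h)
    · exact Or.inr (if_neg h)
  have hec : ∀ i j, ((e i j : ℤ) : K) = χ i (xA j) := by
    intro i j
    by_cases h : χ i (xA j) = 1
    · change (((if χ i (xA j) = 1 then 1 else -1 : ℤ)) : K) = _
      rw [if_pos h, h, Int.cast_one]
    · change (((if χ i (xA j) = 1 then 1 else -1 : ℤ)) : K) = _
      rw [if_neg h, (hχ i (xA j)).resolve_left h, Int.cast_neg, Int.cast_one]
  let l : Finset (Fin 4) → A := fun S => wd xA S
  have hl : ∀ S, π (l S : L) = wd x S := by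
    intro S
    have h1 := map_wd (π.comp A.subtype) xA S
    have h3 : (fun j => (π.comp A.subtype) (xA j)) = x := funext fun j => hxl j
    rw [h3] at h1
    exact h1
  have hprod : ∀ i S, ((∏ j ∈ S, e i j : ℤ) : K) = χ i (l S) := by
    intro i S
    rw [Int.cast_prod, map_wd, wd_eq_prod]
    exact Finset.prod_congr rfl fun j _ => hec i j
  have hpm : ∀ i S, (∏ j ∈ S, e i j) = if χ i (l S) = 1 then (1 : ℤ) else -1 := by
    intro i S
    have h1 : (∏ j ∈ S, e i j) = 1 ∨ (∏ j ∈ S, e i j) = -1 := by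
      refine Finset.prod_induction _ (fun z : ℤ => z = 1 ∨ z = -1) ?_ (Or.inl rfl) (fun j _ => he i j)
      rintro a c (rfl | rfl) (rfl | rfl) <;> simp
    rcases h1 with h1 | h1
    · have h3 := hprod i S
      rw [h1, Int.cast_one] at h3
      rw [h1, if_pos h3.symm]
    · have h3 := hprod i S
      rw [h1, Int.cast_neg, Int.cast_one] at h3
      rw [h1, if_neg]
      rw [← h3]
      exact fun h => hne h.symm
  -- the traces
  have hdp : ∀ S, dp ρ (l S : L) = (Finset.univ.filter fun i => χ i (l S) = 1).card := fun S =>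
    finrank_ker b (ρ (l S : L)) (fun i => χ i (l S)) (fun i => hb i (l S))
  have ht : ∀ S, ∑ i, ∏ j ∈ S, e i j = 2 * (dp ρ (l S : L) : ℤ) - 8 := by
    intro S
    have h1 : ∑ i, ∏ j ∈ S, e i j = ∑ i : Fin 8, if χ i (l S) = 1 then (1 : ℤ) else -1 :=
      Finset.sum_congr rfl fun i _ => hpm i S
    have h3 : ∀ i : Fin 8, (if χ i (l S) = 1 then (1 : ℤ) else -1) = 2 * (if χ i (l S) = 1 then 1 else 0) - 1 := by
      intro i
      split_ifs <;> norm_num
    rw [h1, Finset.sum_congr rfl fun i _ => h3 i, Finset.sum_sub_distrib, ← Finset.mul_sum, Finset.sum_boole, ← hdp]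
    simp
  have hx0 : x 0 ≠ 1 := by
    have := hg1 {0} (by simp)
    simpa only [wd, _root_.Fin.isValue, _root_.ne_eq, _root_.Finset.mem_singleton, ↓ _root_.reduceIte, _root_.one_ne_zero, _root_.mul_one, _root_.Fin.reduceEq] using this
  refine no_trace (fun S => ∑ i, ∏ j ∈ S, e i j) (by simp) (sum_sign 8 e he) (dp ρ (xl 0)) ?_ ?_ ?_
  · -- `xl 0` is not `-1`
    by_contra hcon
    have h0 : dp ρ (xl 0) = 0 := by omega
    have hc0 : ∀ i, χ i (xA 0) = -1 := by
      intro i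
      have h1 : dp ρ (xl 0) = (Finset.univ.filter fun i => χ i (xA 0) = 1).card :=
        finrank_ker b (ρ (xl 0)) (fun i => χ i (xA 0)) (fun i => hb i (xA 0))
      rw [h0] at h1
      have h3 := Finset.card_eq_zero.1 h1.symm
      have h4 : i ∉ Finset.univ.filter fun i => χ i (xA 0) = 1 := by rw [h3]; simp
      rw [Finset.mem_filter] at h4
      exact (hχ i (xA 0)).resolve_left fun h => h4 ⟨Finset.mem_univ _, h⟩
    have hm : ρ (xl 0) = -1 := by
      apply b.ext
      intro i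
      have h1 := hb i (xA 0)
      rw [hc0] at h1
      rw [LinearMap.neg_apply, Module.End.one_apply]
      rw [show ρ (xl 0) = ρ (xA 0 : L) from rfl, h1, neg_smul, one_smul]
    have hcomm : ∀ y : L, xl 0 * y = y * xl 0 := by
      intro y
      apply hρ
      rw [map_mul, map_mul, hm]
      simp only [_root_.neg_mul, _root_.one_mul, _root_.mul_neg, _root_.mul_one]
    have hcT : ∀ g : T, g * x 0 * g⁻¹ = x 0 := by
      intro g
      obtain ⟨g', rfl⟩ := hπ g
      rw [← hxl 0, ← map_mul, ← hcomm g', map_mul, mul_inv_cancel_right]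
    have hx1 : x 1 ≠ 1 := by
      have := hg1 {1} (by simp)
      simpa only [wd, _root_.Fin.isValue, _root_.ne_eq, _root_.Finset.mem_singleton, _root_.zero_ne_one, ↓ _root_.reduceIte, _root_.one_mul, _root_.Fin.reduceEq, _root_.mul_one] using this
    obtain ⟨g, hg⟩ := htr _ (hx 0) _ (hx 1) hx0 hx1
    rw [hcT] at hg
    apply hg1 {0, 1} (by simp)
    simp only [wd, ← hg, hE _ (hx 0), _root_.Cfsg.Agent.H1.EP8.wd, _root_.Fin.isValue, _root_.Finset.mem_insert, _root_.Finset.mem_singleton, _root_.zero_ne_one, _root_.or_false, ↓ _root_.reduceIte, _root_.one_ne_zero, _root_.or_true, _root_.Fin.reduceEq, _root_.or_self, _root_.mul_one]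
  · -- `xl 0` is not `1`
    by_contra hcon
    have h1 : dp ρ (xl 0) = (Finset.univ.filter fun i => χ i (xA 0) = 1).card :=
      finrank_ker b (ρ (xl 0)) (fun i => χ i (xA 0)) (fun i => hb i (xA 0))
    have h3 : (Finset.univ.filter fun i => χ i (xA 0) = 1).card = 8 := by
      have h4 := Finset.card_le_univ (Finset.univ.filter fun i => χ i (xA 0) = 1)
      rw [Fintype.card_fin] at h4
      omega
    have h4 : (Finset.univ.filter fun i => χ i (xA 0) = 1) = Finset.univ :=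
      Finset.eq_univ_of_card _ (by rw [h3, Fintype.card_fin])
    have hm : ρ (xl 0) = 1 := by
      apply b.ext
      intro i
      have h5 : i ∈ Finset.univ.filter fun i => χ i (xA 0) = 1 := by rw [h4]; exact Finset.mem_univ _
      rw [Finset.mem_filter] at h5
      rw [show ρ (xl 0) = ρ (xA 0 : L) from rfl, hb i (xA 0), h5.2, one_smul, Module.End.one_apply]
    apply hx0
    rw [← hxl 0, hρ (hm.trans (map_one ρ).symm), map_one]
  · intro S hS
    have h1 := hg1 S hS
    have hlE : wd x S ∈ E := by rw [← hl]; exact (l S).2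
    obtain ⟨g, hg⟩ := htr _ (hx 0) _ hlE hx0 h1
    obtain ⟨γ, rfl⟩ := hπ g
    have hz1 : π (γ * xl 0 * γ⁻¹ * (l S : L)⁻¹) = 1 := by
      rw [map_mul, map_mul, map_mul, map_inv, map_inv, hxl, hg, hl, mul_inv_cancel]
    have hz : ρ (γ * xl 0 * γ⁻¹) = ρ (γ * xl 0 * γ⁻¹ * (l S : L)⁻¹) * ρ (l S : L) := by
      rw [← map_mul, inv_mul_cancel_right]
    have hd := dp_conj ρ γ (xl 0)
    show (∑ i, ∏ j ∈ S, e i j = _) ∨ (∑ i, ∏ j ∈ S, e i j = _)
    rw [ht S]
    rcases hker _ hz1 with h3 | h3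
    · left
      rw [h3, one_mul] at hz
      have h4 : dp ρ (γ * xl 0 * γ⁻¹) = dp ρ (l S : L) := by
        unfold dp
        rw [hz]
      omega
    · right
      rw [h3] at hz
      have h4 : dp ρ (γ * xl 0 * γ⁻¹) = (Finset.univ.filter fun i => -(χ i (l S)) = 1).card := by
        apply finrank_ker b (ρ (γ * xl 0 * γ⁻¹)) (fun i => -(χ i (l S)))
        intro i
        rw [hz, Module.End.mul_apply, hb, LinearMap.neg_apply, Module.End.one_apply, neg_smul]
      have h5 : (Finset.univ.filter fun i => -(χ i (l S)) = 1) = (Finset.univ.filter fun i => ¬ χ i (l S) = 1) := by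
        ext i
        simp only [Finset.mem_filter, Finset.mem_univ, true_and]
        constructor
        · intro h6 h7
          rw [h7] at h6
          exact hne h6.symm
        · intro h6
          rw [(hχ i (l S)).resolve_left h6, neg_neg]
      have h6 := Finset.card_filter_add_card_filter_not (s := (Finset.univ : Finset (Fin 8))) (fun i => χ i (l S) = 1)
      rw [← h5, ← h4, ← hdp S, Finset.card_univ, Fintype.card_fin] at h6
      omega

end Cfsg.Agent.H1.EP8
end

-- part: H1/EP8/LFourB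
section
/-!
# No `PSL₃(4)` in self-dual projective representations of dimension eight, odd characteristic (helper1, task 5978)
-/

set_option autoImplicit false
set_option linter.unusedSectionVars false

universe u v w

namespace Cfsg.Agent.H1.EP8

open Module Matrix Cfsg.Agent.H912.Bd Cfsg.Agent.H871.Par

variable {F : Type u} [Field F] {T : Type v} [Group T]

/-- **`2⁴ : SL₂(4)`**: `f : K × K → T`, `|K| = 4`, additive to multiplicative, `SL_2(K)` acting. -/
theorem no_sixteen (h : PD F 8 T) (h2 : (2 : F) ≠ 0) {K : Type w} [Field K] [CharP K 2] {w : K}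
    (hw : w ^ 2 + w + 1 = 0) (f : K × K → T) (hf : ∀ x y, f (x + y) = f x * f y) (hinj : Function.Injective f)
    (hact : ∀ a b c d : K, a * d - b * c = 1 → ∃ g : T, ∀ x : K × K,
      g * f x * g⁻¹ = f (a * x.1 + b * x.2, c * x.1 + d * x.2)) : False := by
  have h20 : (2 : K) = 0 := by exact_mod_cast CharP.cast_eq_zero K 2
  have hxx : ∀ x : K × K, x + x = 0 := by
    intro x
    ext
    · change x.1 + x.1 = 0; linear_combination x.1 * h20
    · change x.2 + x.2 = 0; linear_combination x.2 * h20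
  have f0 : f 0 = 1 := by
    have := hf 0 0
    rw [add_zero] at this
    exact left_eq_mul.1 this
  let E : Subgroup T :=
    { carrier := Set.range f
      mul_mem' := by
        rintro _ _ ⟨x, rfl⟩ ⟨y, rfl⟩
        exact ⟨x + y, hf x y⟩
      one_mem' := ⟨0, f0⟩
      inv_mem' := by
        rintro _ ⟨x, rfl⟩
        refine ⟨x, ?_⟩
        have := hf x x
        rw [hxx, f0] at this
        exact eq_inv_of_mul_eq_one_left this.symm }
  have hw0 : w ≠ 0 := by
    rintro rfl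
    norm_num at hw
  have hw1 : w ≠ 1 := by
    rintro rfl
    have : (1 : K) = 0 := by linear_combination hw - h20
    exact one_ne_zero this
  have hw2 : 1 + w ≠ 0 := by
    intro h3
    apply hw1
    linear_combination h3 - h20
  -- transitivity
  have tr1 : ∀ x : K × K, x ≠ 0 → ∃ g : T, g * f (1, 0) * g⁻¹ = f x := by
    intro x hx
    by_cases h1 : x.1 = 0
    · have h3 : x.2 ≠ 0 := fun h3 => hx (Prod.ext h1 h3)
      obtain ⟨g, hg⟩ := hact 0 (-(x.2)⁻¹) x.2 0 (by field_simp; ring)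
      refine ⟨g, ?_⟩
      rw [hg]
      congr 1
      ext
      · simp [h1]
      · simp
    · obtain ⟨g, hg⟩ := hact x.1 0 x.2 (x.1)⁻¹ (by field_simp; ring)
      refine ⟨g, ?_⟩
      rw [hg]
      congr 1
      ext
      · simp
      · simp
  have ne : ∀ x y : K × K, x ≠ y → f x ≠ f y := fun x y hxy h => hxy (hinj h)
  let v : Fin 4 → K × K := ![(1, 0), (w, 0), (0, 1), (0, w)]
  refine no_elem16 h h2 E (by
    rintro _ ⟨x, rfl⟩
    rw [← hf, hxx, f0]) ?_ ?_ (fun j => f (v j)) (fun j => ⟨_, rfl⟩) ?_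
  · -- three independent elements
    refine ⟨f (1, 0), ⟨_, rfl⟩, f (0, 1), ⟨_, rfl⟩, f (w, 0), ⟨_, rfl⟩, ?_, ?_, ?_, ?_, ?_, ?_, ?_⟩
    · rw [← f0]; exact ne _ _ (by simp)
    · rw [← f0]; exact ne _ _ (by simp)
    · exact ne _ _ (by simp)
    · rw [← f0]; exact ne _ _ (by simp [hw0])
    · exact ne _ _ (by simp [hw1])
    · exact ne _ _ (by simp)
    · rw [← hf]; exact ne _ _ (by simp)
  · rintro _ ⟨x, rfl⟩ _ ⟨z, rfl⟩ hx hz
    obtain ⟨g, hg⟩ := tr1 x (by rintro rfl; exact hx f0)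
    obtain ⟨g', hg'⟩ := tr1 z (by rintro rfl; exact hz f0)
    refine ⟨g' * g⁻¹, ?_⟩
    rw [← hg, ← hg']
    group
  · intro S hS h1
    have h3 : wd (fun j => f (v j)) S = f ((if 0 ∈ S then v 0 else 0) + (if 1 ∈ S then v 1 else 0) +
        (if 2 ∈ S then v 2 else 0) + (if 3 ∈ S then v 3 else 0)) := by
      unfold wd
      rw [hf, hf, hf]
      simp only [apply_ite f, f0]
    rw [h3, ← f0] at h1
    have h4 := hinj h1
    have e1 := congrArg Prod.fst h4
    have e2 := congrArg Prod.snd h4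
    have v0 : v 0 = (1, 0) := rfl
    have v1 : v 1 = (w, 0) := rfl
    have v2 : v 2 = (0, 1) := rfl
    have v3 : v 3 = (0, w) := rfl
    rw [v0, v1, v2, v3] at e1 e2
    have m0 : 0 ∉ S := by
      intro h0
      by_cases h5 : 1 ∈ S <;> by_cases h6 : 2 ∈ S <;> by_cases h7 : 3 ∈ S <;>
        simp [h0, h5, h6, h7, hw0, hw1, hw2] at e1 e2
    have m1 : 1 ∉ S := by
      intro h0
      by_cases h6 : 2 ∈ S <;> by_cases h7 : 3 ∈ S <;>
        simp [m0, h0, h6, h7, hw0, hw1, hw2] at e1 e2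
    have m2 : 2 ∉ S := by
      intro h0
      by_cases h7 : 3 ∈ S <;> simp [m0, m1, h0, h7, hw0, hw1, hw2] at e1 e2
    have m3 : 3 ∉ S := by
      intro h0
      simp [m0, m1, m2, h0, hw0, hw1, hw2] at e1 e2
    apply hS
    rw [Finset.eq_empty_iff_forall_notMem]
    intro j
    fin_cases j
    · exact m0
    · exact m1
    · exact m2
    · exact m3

/-- **No `PSL₃(4)`.** -/
theorem no_psl34 (h : PD F 8 T) (h2 : (2 : F) ≠ 0) {K : Type w} [Field K] [Fintype K] (hK : Fintype.card K = 4)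
    (e : T ≃* ProjectiveSpecialLinearGroup (Fin 3) K) : False := by
  have hpow : ∀ x : K, x ^ 4 = x := by
    intro x
    rw [← hK]; exact FiniteField.pow_card x
  have hchar : CharP K 2 := by
    obtain ⟨p, hp⟩ := CharP.exists K
    have : Fact p.Prime := ⟨CharP.char_is_prime K p⟩
    have h1 : p ∣ Fintype.card K := by
      obtain ⟨n, -, hn⟩ := FiniteField.card K p
      rw [hn]; exact dvd_pow_self _ n.pos.ne'
    rw [hK] at h1
    have h2 : p ∣ 2 := this.out.dvd_of_dvd_pow (show p ∣ 2 ^ 2 from h1)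
    rw [(Nat.prime_dvd_prime_iff_eq this.out Nat.prime_two).1 h2] at hp
    exact hp
  have hex : ∃ x : K, x ≠ 0 ∧ x ≠ 1 := by
    classical
    by_contra hcon
    push Not at hcon
    have h1 : (Finset.univ : Finset K) ⊆ {0, 1} := by
      intro x _
      rw [Finset.mem_insert, Finset.mem_singleton]
      by_cases h0 : x = 0
      · exact Or.inl h0
      · exact Or.inr (hcon x h0)
    have h2 := Finset.card_le_card h1
    rw [Finset.card_univ, hK] at h2
    have h3 : ({0, 1} : Finset K).card ≤ 2 := Finset.card_le_two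
    omega
  obtain ⟨w, hw0, hw1⟩ := hex
  have hw : w ^ 2 + w + 1 = 0 := by
    have h1 : w * (w - 1) * (w ^ 2 + w + 1) = 0 := by linear_combination hpow w
    exact (mul_eq_zero.1 h1).resolve_left (mul_ne_zero hw0 (sub_ne_zero.2 hw1))
  let f : K × K → ProjectiveSpecialLinearGroup (Fin 3) K := fun x => QuotientGroup.mk (tr3 x)
  refine no_sixteen (h.congr e.symm) h2 hw f (fun x y => ?_) ?_ ?_
  · change QuotientGroup.mk _ = QuotientGroup.mk _ * QuotientGroup.mk _
    rw [tr3_add]; rfl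
  · intro x y hxy
    have h1 : (tr3 x)⁻¹ * tr3 y ∈ Subgroup.center (SpecialLinearGroup (Fin 3) K) := QuotientGroup.eq.1 hxy
    have h3 : (tr3 x)⁻¹ = tr3 (-x) := by
      rw [inv_eq_iff_mul_eq_one, ← tr3_add, add_neg_cancel]
      apply Subtype.ext
      change !![(1 : K), 0, 0; 0, 1, 0; 0, 0, 1] = 1
      exact Matrix.one_fin_three.symm
    rw [h3, ← tr3_add, Matrix.SpecialLinearGroup.mem_center_iff] at h1
    obtain ⟨r, -, hr⟩ := h1
    have e1 := congrFun (congrFun hr 0) 2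
    have e2 := congrFun (congrFun hr 1) 2
    have d1 : (Matrix.scalar (Fin 3) r) 0 2 = 0 := by simp
    have d2 : (Matrix.scalar (Fin 3) r) 1 2 = 0 := by simp
    have k1 : (-x + y).1 = 0 := by
      have : (tr3 (-x + y)).1 0 2 = (-x + y).1 := rfl
      rw [← this, ← d1]; exact e1.symm
    have k2 : (-x + y).2 = 0 := by
      have : (tr3 (-x + y)).1 1 2 = (-x + y).2 := rfl
      rw [← this, ← d2]; exact e2.symm
    ext
    · have : -x.1 + y.1 = 0 := k1
      linear_combination -this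
    · have : -x.2 + y.2 = 0 := k2
      linear_combination -this
  · intro a b c d hdet
    let g : SpecialLinearGroup (Fin 3) K := ⟨!![a, b, 0; c, d, 0; 0, 0, 1], by
      simp [Matrix.det_fin_three]; linear_combination hdet⟩
    refine ⟨QuotientGroup.mk g, fun x => ?_⟩
    rw [mul_inv_eq_iff_eq_mul]
    change QuotientGroup.mk _ * QuotientGroup.mk _ = QuotientGroup.mk _ * QuotientGroup.mk _
    have key : g * tr3 x = tr3 (a * x.1 + b * x.2, c * x.1 + d * x.2) * g := by
      apply Subtype.ext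
      change !![a, b, 0; c, d, 0; 0, 0, 1] * !![1, 0, x.1; 0, 1, x.2; 0, 0, 1] =
        !![1, 0, a * x.1 + b * x.2; 0, 1, c * x.1 + d * x.2; 0, 0, 1] * !![a, b, 0; c, d, 0; 0, 0, 1]
      ext i j
      (revert i j; simp only [Matrix.mul_apply, Fin.sum_univ_three, _root_.Fin.forall_fin_succ, _root_.Matrix.of_apply, _root_.Matrix.cons_val', _root_.Matrix.cons_val_fin_one, Fin.isValue, _root_.Matrix.cons_val_zero, _root_.Matrix.cons_val_one, _root_.Matrix.cons_val, _root_.mul_one, _root_.MulZeroClass.mul_zero, _root_.add_zero, _root_.Matrix.cons_val_succ, _root_.zero_add, _root_.forall_const, _root_.one_mul, _root_.MulZeroClass.zero_mul, _root_.and_self, _root_.implies_true])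
    exact congrArg QuotientGroup.mk key

end Cfsg.Agent.H1.EP8
end

-- part: H1/EP8/Cross
section
/-!
# Self-dual cores in dimension eight: the simple groups that are not of Lie type in the characteristic (helper1, task 5978)
-/

set_option autoImplicit false
set_option linter.unusedSectionVars false

namespace Cfsg.Agent.H1.EP8

open Matrix Cfsg Cfsg.Geo Cfsg.Agent.H915.LD Cfsg.Agent.H871
open H912.Bd (IsL IsU IsS IsOP)

universe u

/-- `11:5 ≤ A_11` -/
theorem frob11_alt11 : Par.Frob11 (alternatingGroup (Fin 11)) := by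
  let x : Equiv.Perm (Fin 11) := c[0, 1, 2, 3, 4, 5, 6, 7, 8, 9, 10]
  let y : Equiv.Perm (Fin 11) := c[1, 3, 9, 5, 4] * c[2, 6, 7, 10, 8]
  refine ⟨⟨x, ?_⟩, ⟨y, ?_⟩, Subtype.ext ?_, ?_, Subtype.ext ?_⟩
  · rw [Equiv.Perm.mem_alternatingGroup]; decide +kernel
  · rw [Equiv.Perm.mem_alternatingGroup]; decide +kernel
  · change x ^ 11 = 1; decide +kernel
  · intro h
    have h1 := (congrArg Subtype.val h).trans (OneMemClass.coe_one _)
    exact (by decide +kernel : x ≠ 1) h1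
  · change y * x * y⁻¹ = x ^ 3; decide +kernel

theorem frob11_alt {n : ℕ} (hn : 11 ≤ n) : Par.Frob11 (alternatingGroup (Fin n)) := by
  obtain ⟨f, hf⟩ := H912.Bd.exists_alt_hom (Fin.castLEEmb hn)
  exact frob11_alt11.of_inj f hf

/-- the alternating socles in dimension eight -/
def AltD (p : ℕ) (T : Type*) [Group T] : Prop :=
  (p ≠ 3 ∧ Nonempty (T ≃* alternatingGroup (Fin 6))) ∨ Nonempty (T ≃* alternatingGroup (Fin 7)) ∨
  (p ≠ 2 ∧ Nonempty (T ≃* alternatingGroup (Fin 8))) ∨ Nonempty (T ≃* alternatingGroup (Fin 9)) ∨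
  Nonempty (T ≃* alternatingGroup (Fin 10)) ∨ (p = 11 ∧ Nonempty (T ≃* alternatingGroup (Fin 11)))

/-- the classical socles -/
def LieD (p : ℕ) (T : Type*) [Group T] : Prop :=
  (p ≠ 7 ∧ IsL 2 7 T) ∨ (p ≠ 2 ∧ IsL 2 8 T) ∨ (p ≠ 17 ∧ IsL 2 17 T) ∨ (p ≠ 2 ∧ IsS 3 2 T) ∨ (p ≠ 2 ∧ IsOP 4 2 T)

/-- the sporadic socles -/
def SporD (p : ℕ) (T : Type*) [Group T] : Prop :=
  p = 11 ∧ (Spor.IsoM11 T ∨ Spor.IsoM12 T ∨ Spor.IsoM22 T)

variable {F : Type u} [Field F] [Fintype F] {ι : Type} [Fintype ι] [DecidableEq ι] {P : Subgroup (GL ι F)} (p : ℕ)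
  [hp : Fact p.Prime] [hFp : CharP F p]

include hp hFp in
theorem ne_zero_of {r : ℕ} (hr : r.Prime) (h : p ≠ r) : (r : F) ≠ 0 := H936.List12.cast_ne hr (Ne.symm h)

include hp hFp in
theorem cross (hC : Core P) (h8 : Fintype.card ι = 8) (hSD : SD P) (hk : IsKnownSimple' (Soc P))
    (hL : ¬ IsLieTypeChar p (Soc P)) :
    AltD p (Soc P) ∨ LieD p (Soc P) ∨ (p ≠ 2 ∧ H912.Bd.IsSz8 (Soc P)) ∨ SporD p (Soc P) := by
  have hs := hC.simple
  have hne := hC.nonempty
  let ε : ι ≃ Fin 8 := Fintype.equivFinOfCardEq h8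
  have hC' := H912.Rx.core_re ε hC
  have E : Soc (H912.Rx.re ε P) ≃* Soc P := (H912.Rx.socEquiv ε).symm
  have hF2 : p ≠ 2 → (2 : F) ≠ 0 := fun hp2 => by exact_mod_cast ne_zero_of p Nat.prime_two hp2 (F := F)
  have hpd : ∀ {T : Type} [Group T], (Soc P ≃* T) → Par.PD F 8 T := by
    intro T _ e
    have h1 := Par.pd_of_sd hC hSD e
    rwa [h8] at h1
  have hfrob : ∀ {T : Type} [Group T], (Soc P ≃* T) → Par.Frob11 T → p = 11 := by
    intro T _ e hT
    by_contra h11
    have h1 := (hpd e).of_frob11 (by exact_mod_cast ne_zero_of p (r := 11) (by norm_num) h11 (F := F)) hT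
    omega
  have hlist := H936.List12.list (p := p) (by rw [h8]; norm_num) hC hk hL
  rw [h8] at hlist
  rcases hlist with h | h | h | h | h
  · -- alternating groups
    left
    obtain ⟨m, h5, h14, h12, -, -, ⟨e⟩⟩ := h
    rcases (show m = 5 ∨ m = 6 ∨ m = 7 ∨ m = 8 ∨ m = 9 ∨ m = 10 ∨ 11 ≤ m by omega) with
      rfl | rfl | rfl | rfl | rfl | rfl | hm
    · exfalso
      by_cases hp5 : p = 5
      · subst hp5
        apply hL
        have : Fact (Nat.Prime 5) := ⟨by norm_num⟩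
        obtain ⟨f⟩ := Cfsg.Agent.S0253.result (F := ZMod 5) (ZMod.card 5)
        exact Or.inl ⟨ZMod 5, inferInstance, inferInstance, inferInstance, 2, le_rfl, fun _ => by simp,
          ⟨e.trans f.symm⟩⟩
      · have h1 := H937.T2.a5_dims (p := p) hC e hp5
        rw [h8] at h1
        revert h1
        decide
    · refine Or.inl ⟨?_, ⟨e⟩⟩
      rintro rfl
      obtain ⟨K, iK, iKf, hK, hK3, f⟩ := H937.T2.exists_nine e
      exact hL (H936.List12.lie_of_isL (m := 2) (q := 9) Nat.prime_three (by norm_num) le_rfl (fun _ => by norm_num)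
        ⟨K, iK, iKf, hK, f⟩)
    · exact Or.inr (Or.inl ⟨e⟩)
    · refine Or.inr (Or.inr (Or.inl ⟨?_, ⟨e⟩⟩))
      rintro rfl
      obtain ⟨e'⟩ := S0256.result (F := ZMod 2) (by simp)
      exact hL (Or.inl ⟨ZMod 2, inferInstance, inferInstance, inferInstance, 4, by norm_num, fun h => by omega,
        ⟨e.trans e'.symm⟩⟩)
    · exact Or.inr (Or.inr (Or.inr (Or.inl ⟨e⟩)))
    · exact Or.inr (Or.inr (Or.inr (Or.inr (Or.inl ⟨e⟩))))
    · have h11 := hfrob e (frob11_alt hm)
      have hm11 : m = 11 := by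
        by_contra hcon
        have := h12 (by omega) (by omega)
        omega
      subst hm11
      exact Or.inr (Or.inr (Or.inr (Or.inr (Or.inr ⟨h11, ⟨e⟩⟩))))
  · -- classical groups
    rcases h with ⟨q, hq, hpq, hqn, K, i1, i2, hK, ⟨e⟩⟩ | ⟨h1, -, K, i1, i2, hK, ⟨e⟩⟩ | ⟨h1, -, K, i1, i2, hK, ⟨e⟩⟩ |
      ⟨-, h1, -⟩ | ⟨h1, h2, -, K, i1, i2, hK, ⟨e⟩⟩ | ⟨h1, -, K, i1, i2, hK, ⟨e⟩⟩ | ⟨-, h1, -⟩ |
      ⟨h1, -, h⟩ | ⟨h1, -, h⟩
    · simp only [Finset.mem_insert, Finset.mem_singleton] at hq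
      have h5 := H464.Sl2.l2_degrees p hC (K := K) (by rw [hK]; omega) (by rw [hK]; omega) (by rwa [hK]) e
        (by rw [h8]; norm_num)
      rw [h8] at h5
      simp only [Finset.mem_insert, Finset.mem_singleton] at h5
      have hq' : q = 7 ∨ q = 8 ∨ q = 17 := by omega
      rcases hq' with rfl | rfl | rfl
      · refine Or.inr (Or.inl (Or.inl ⟨?_, K, i1, i2, hK, ⟨e⟩⟩))
        rintro rfl
        exact hpq (dvd_refl 7)
      · refine Or.inr (Or.inl (Or.inr (Or.inl ⟨?_, K, i1, i2, hK, ⟨e⟩⟩)))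
        rintro rfl
        exact hpq (by norm_num)
      · refine Or.inr (Or.inl (Or.inr (Or.inr (Or.inl ⟨?_, K, i1, i2, hK, ⟨e⟩⟩))))
        rintro rfl
        exact hpq (dvd_refl 17)
    · exfalso
      have h5 := (H175.L33.l33 hC p h1 hK e (by rw [h8]; norm_num)).2.2.2
      rw [h8] at h5
      omega
    · exfalso
      by_cases hp2 : p = 2
      · subst hp2
        have h5 := (H936.U33Two.u33_two hC hK ⟨e⟩ (by rw [h8]; norm_num)).1
        rw [h8] at h5
        omega
      · have h5 := (H659.U3.u33_stage hC p hp2 h1 (by rw [h8]; norm_num) hK e).2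
        rw [h8] at h5
        omega
    · omega
    · exfalso
      have h5 := H659.Sp4.u42_stage' hC p h1 h2 (by rw [h8]; norm_num) hK e
      rw [h8] at h5
      omega
    · exfalso
      have h5 := H36.U52.t6 hC' p h1 (by norm_num) hK (E.trans e)
      omega
    · omega
    · exact Or.inr (Or.inl (Or.inr (Or.inr (Or.inr (Or.inl ⟨h1, h⟩)))))
    · exact Or.inr (Or.inl (Or.inr (Or.inr (Or.inr (Or.inr ⟨h1, h⟩)))))
  · -- exceptional multipliers
    rcases h with ⟨h1, -, ⟨K, i1, i2, hK, ⟨e⟩⟩ | ⟨K, i1, i2, hK, ⟨e⟩⟩ | ⟨h2, K, i1, i2, hK, ⟨e⟩⟩ | h | h | h⟩ | ⟨-, h1, -⟩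
    · refine Or.inr (Or.inl (Or.inl ⟨?_, K, i1, i2, hK, ⟨e⟩⟩))
      rintro rfl
      apply hL
      have : CharP K 7 := H936.List12.charP_of_dvd (by norm_num) (by rw [hK])
      exact Or.inl ⟨K, i1, i2, inferInstance, 2, le_rfl, fun _ => by rw [hK]; norm_num, ⟨e⟩⟩
    · exact (no_psl34 (hpd e) (hF2 h1) hK (MulEquiv.refl _)).elim
    · exfalso
      have h5 := H659.Sp4.u42_stage' hC p h1 h2 (by rw [h8]; norm_num) hK e
      rw [h8] at h5
      omega
    · exact Or.inr (Or.inl (Or.inr (Or.inr (Or.inr (Or.inl ⟨h1, h⟩)))))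
    · exact Or.inr (Or.inl (Or.inr (Or.inr (Or.inr (Or.inr ⟨h1, h⟩)))))
    · exfalso
      have h5 := (H937.G24.row hC h p h1 (by rw [h8]; norm_num)).1
      omega
    · omega
  · -- `Sz(8)`
    exact Or.inr (Or.inr (Or.inl ⟨h.1, h.2.2⟩))
  · -- sporadic groups
    rcases h with ⟨⟨e⟩⟩ | ⟨⟨e⟩⟩ | ⟨⟨e⟩⟩ | ⟨⟨e⟩⟩ | ⟨⟨e⟩⟩ | h | h | h | ⟨⟨e⟩⟩
    · exact Or.inr (Or.inr (Or.inr ⟨hfrob e Par.frob11_M11, Or.inl ⟨e⟩⟩))
    · exact Or.inr (Or.inr (Or.inr ⟨hfrob e Par.frob11_M12, Or.inr (Or.inl ⟨e⟩)⟩))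
    · exact Or.inr (Or.inr (Or.inr ⟨hfrob e Par.frob11_M22, Or.inr (Or.inr ⟨e⟩)⟩))
    · exfalso
      have h5 := (H4.LDM.Stage.m23_low hC e p (by rw [h8]; norm_num)).2.1
      omega
    · exfalso
      have h5 := (H4.LDM.Stage.m24_low hC e p (by rw [h8]; norm_num)).2.1
      omega
    · exfalso
      by_cases h11 : p = 11
      · subst h11
        have h5 := H179.JOne.j1_le12_iso hC h (by exact_mod_cast CharP.cast_eq_zero F 11) (by rw [h8]; norm_num)
        omega
      · exact H659.J1.not_core hC h p h11 (by rw [h8]; norm_num)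
    · exfalso
      have h5 := H905.JD.J2_six hC h (by rw [h8]; norm_num)
      omega
    · exfalso
      have h5 := (H95.JT.j3 p hC h (by rw [h8]; norm_num)).2.1
      omega
    · exfalso
      by_cases h3 : p = 3
      · subst h3
        have h5 := (H878.Sz.core_Suz_three hC e (by rw [h8]; norm_num)).1
        rw [h8] at h5
        omega
      · have h5 := (H878.Sz.core_Suz hC e (by rw [h8]; norm_num) p h3).1
        rw [h8] at h5
        omega

end Cfsg.Agent.H1.EP8
end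

private theorem dce_55219c230a91 : _root_.True := by
  try have : _root_.True := by simp only [_root_.Cfsg.Agent.H1.EP8.wd.eq_1]
  exact _root_.True.intro
end

section
prune_inst 0xfefcf9abb8bddedfff7e7ffed5dffc3d905fffe6dff94bffe061ff0bdf030009c56bad0de010fe0ef7e21410b87853ff7eeeffe26bdc7ffffd5ff41ffbee0ff5f7b508519688340fbc0ff703f07f8e7f000000000000000000000000000000000200000000

-- part: H682/EP/SURow
section
prune_inst 0x102044000000000000000080001c2282000090004800000000004004800c4000000820a02000100000000400300008100000000000000000000000011c00800000000000400000000000000000000000000000000000000000000000000000000000000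
set_option linter.all false
open scoped Cfsg.Agent.FastGrp

-- part: H682/EP/Engine
section
/-!
# S3499, own characteristic: the criterion CL for a Sylow `p`-subgroup of the socle (helper682)

`N` is the socle of `A`, `U ≤ N` a Sylow `p`-subgroup of `N`, `C ⊆ A`.  If `C` normalises the core of `U` in every
proper overgroup `D` of `U` in `N` (the intersection of the `D`-conjugates of `U`, i.e. `O_p(D)`) and the core is not
trivial, then every `A ∩ A^x` containing `U` contains `C` (`mem_cj_of_core`), and `t c t⁻¹ ∈ A` for `t ∈ N_Q(U)`,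
`c ∈ C` (`cl_sylow`).
-/

set_option autoImplicit false

namespace Cfsg.Agent.H682.EP

open Subgroup Cfsg.Agent.H284 Cfsg.Agent.H419.EP

variable {Q : Type*} [Group Q]

/-- the intersection of the `D`-conjugates of `U` -/
def coreIn (D U : Subgroup Q) : Subgroup Q where
  carrier := {k | ∀ d ∈ D, d⁻¹ * k * d ∈ U}
  one_mem' := fun d _ => by
    rw [mul_one, inv_mul_cancel]
    exact U.one_mem
  mul_mem' := fun {a b} ha hb d hd => by
    have e : d⁻¹ * (a * b) * d = (d⁻¹ * a * d) * (d⁻¹ * b * d) := by group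
    rw [e]
    exact U.mul_mem (ha d hd) (hb d hd)
  inv_mem' := fun {a} ha d hd => by
    have e : d⁻¹ * a⁻¹ * d = (d⁻¹ * a * d)⁻¹ := by group
    rw [e]
    exact U.inv_mem (ha d hd)

theorem coreIn_le (D U : Subgroup Q) : coreIn D U ≤ U := fun k hk => by
  have := hk 1 D.one_mem
  rwa [inv_one, one_mul, mul_one] at this

theorem coreIn_eq {D U : Subgroup Q} (h : ∀ d ∈ D, ∀ u ∈ U, d * u * d⁻¹ ∈ U) : coreIn D U = U := by
  refine le_antisymm (coreIn_le D U) fun u hu d hd => ?_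
  have := h d⁻¹ (D.inv_mem hd) u hu
  rwa [inv_inv] at this

theorem coreIn_conj {D U : Subgroup Q} {k d : Q} (hk : k ∈ coreIn D U) (hd : d ∈ D) : d⁻¹ * k * d ∈ coreIn D U := by
  intro e he
  have := hk (d * e) (D.mul_mem hd he)
  have e1 : (d * e)⁻¹ * k * (d * e) = e⁻¹ * (d⁻¹ * k * d) * e := by group
  rwa [e1] at this

variable [Finite Q]

/-- Sylow's theorem in `D` -/
theorem exists_conj {D U S : Subgroup Q} {p : ℕ} (hp : p.Prime) (hU : U ≤ D) (hUp : IsPGroup p U)
    (hi : ¬ p ∣ U.relIndex D) (hS : S ≤ D) (hc : Nat.card S = Nat.card U) : ∃ g ∈ D, ∀ y, y ∈ S ↔ g⁻¹ * y * g ∈ U := by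
  have := Fact.mk hp
  have hUp' : IsPGroup p (U.subgroupOf D) := hUp.comap_of_injective D.subtype D.subtype_injective
  have hcU : Nat.card (U.subgroupOf D) = Nat.card U := Nat.card_congr (Subgroup.subgroupOfEquivOfLe hU).toEquiv
  have hcS : Nat.card (S.subgroupOf D) = Nat.card U := (Nat.card_congr (Subgroup.subgroupOfEquivOfLe hS).toEquiv).trans hc
  have hSp' : IsPGroup p (S.subgroupOf D) := by
    obtain ⟨k, hk⟩ := IsPGroup.iff_card.1 hUp'
    exact IsPGroup.of_card (hcS.trans (hcU.symm.trans hk))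
  have hiS : ¬ p ∣ (S.subgroupOf D).index := by
    intro h
    apply hi
    have h1 := Subgroup.card_mul_index (S.subgroupOf D)
    have h2 := Subgroup.card_mul_index (U.subgroupOf D)
    rw [hcS, ← hcU] at h1
    have h3 : (S.subgroupOf D).index = (U.subgroupOf D).index :=
      Nat.eq_of_mul_eq_mul_left Nat.card_pos (h1.trans h2.symm)
    rw [h3] at h
    exact h
  let PU : Sylow p D := hUp'.toSylow hi
  let PS : Sylow p D := hSp'.toSylow hiS
  obtain ⟨g, hg⟩ := MulAction.exists_smul_eq D PU PS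
  refine ⟨g, g.2, fun y => ?_⟩
  have key : ∀ y : D, y ∈ S.subgroupOf D ↔ g⁻¹ * y * g ∈ U.subgroupOf D := by
    intro y
    have h1 : ((g • PU : Sylow p D) : Subgroup D) = (PS : Subgroup D) := by rw [hg]
    have h2 : y ∈ (PS : Subgroup D) ↔ y ∈ ((g • PU : Sylow p D) : Subgroup D) := by rw [h1]
    have h3 : y ∈ (PS : Subgroup D) ↔ y ∈ S.subgroupOf D := Iff.rfl
    rw [← h3, h2, Sylow.coe_subgroup_smul, Subgroup.mem_pointwise_smul_iff_inv_smul_mem]
    have h4 : (MulAut.conj g)⁻¹ • y = g⁻¹ * y * g := by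
      rw [← map_inv, MulAut.smul_def, MulAut.conj_apply, inv_inv]
    have h5 : (MulAut.conj g)⁻¹ • y ∈ (PU : Subgroup D) ↔ (MulAut.conj g)⁻¹ • y ∈ U.subgroupOf D := Iff.rfl
    rw [h5, h4]
  constructor
  · intro hy
    exact (key ⟨y, hS hy⟩).1 hy
  · intro hy
    have hyD : y ∈ D := by
      have h1 : y = (g : Q) * ((g : Q)⁻¹ * y * g) * (g : Q)⁻¹ := by group
      rw [h1]
      exact D.mul_mem (D.mul_mem g.2 (hU hy)) (D.inv_mem g.2)
    exact (key ⟨y, hyD⟩).2 hy

/-- the core of a Sylow subgroup of `D` is invariant -/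
theorem coreIn_inv {D U : Subgroup Q} {p : ℕ} (hp : p.Prime) (hU : U ≤ D) (hUp : IsPGroup p U)
    (hi : ¬ p ∣ U.relIndex D) {σ : MulAut Q} (hσ : ∀ y ∈ D, σ y ∈ D) {k : Q} (hk : k ∈ coreIn D U) :
    σ k ∈ coreIn D U := by
  have hmap : D.map σ.toMonoidHom = D := by
    refine Subgroup.eq_of_le_of_card_ge ?_ ?_
    · rintro _ ⟨y, hy, rfl⟩
      exact hσ y hy
    · rw [Nat.card_congr (D.equivMapOfInjective σ.toMonoidHom σ.injective).toEquiv.symm]
  have hinv : ∀ y ∈ D, σ.symm y ∈ D := by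
    intro y hy
    rw [← hmap] at hy
    obtain ⟨z, hz, rfl⟩ := hy
    have : σ.symm (σ.toMonoidHom z) = z := σ.symm_apply_apply z
    rw [this]
    exact hz
  set S := U.comap σ.toMonoidHom with hS
  have hSD : S ≤ D := by
    intro y hy
    have h1 := hinv _ (hU (show σ y ∈ U from hy))
    rwa [σ.symm_apply_apply] at h1
  have hc : Nat.card S = Nat.card U := by
    have h1 : S.map σ.toMonoidHom = U := Subgroup.map_comap_eq_self_of_surjective σ.surjective U
    conv_rhs => rw [← h1]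
    exact Nat.card_congr (S.equivMapOfInjective σ.toMonoidHom σ.injective).toEquiv
  obtain ⟨g, hg, hgS⟩ := exists_conj hp hU hUp hi hSD hc
  intro d hd
  have h1 := coreIn_conj hk (hinv d hd)
  have h2 := (hgS _).2 (h1 g hg)
  have h3 : σ ((σ.symm d)⁻¹ * k * σ.symm d) ∈ U := h2
  rwa [map_mul, map_mul, map_inv, σ.apply_symm_apply] at h3

variable {A : Subgroup Q} {Γ : Subgroup (MulAut Q)}

omit [Finite Q] in
/-- the socle is invariant under `Γ` -/
theorem inv_soc (h : EPT A Γ) {N : Subgroup Q} (h1 : N ≤ A) (h2 : ∀ a ∈ A, ∀ n ∈ N, a * n * a⁻¹ ∈ N)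
    (h3 : ∀ a ∈ A, (∀ n ∈ N, a * n = n * a) → a = 1) (hs : IsSimpleGroup N) {σ : MulAut Q} (hσ : σ ∈ Γ) :
    ∀ n ∈ N, σ n ∈ N := by
  set N' := N.comap σ.toMonoidHom with hN'
  have hn : ((N' ⊓ N).subgroupOf N).Normal := ⟨by
    rintro ⟨n, hn'⟩ hn ⟨a, ha⟩
    refine ⟨?_, N.mul_mem (N.mul_mem ha hn') (N.inv_mem ha)⟩
    show σ (a * n * a⁻¹) ∈ N
    rw [map_mul, map_mul, map_inv]
    exact h2 _ ((h.inv σ hσ a).2 (h1 ha)) _ hn.1⟩
  rcases hn.eq_bot_or_eq_top with h4 | h4
  · exfalso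
    -- `N'` centralises `N`
    have h5 : ∀ k ∈ N', k = 1 := by
      intro k hk
      have hkA : k ∈ A := (h.inv σ hσ k).1 (h1 (show σ k ∈ N from hk))
      apply h3 k hkA
      intro n hn'
      have h5 : k * n * k⁻¹ * n⁻¹ ∈ N' ⊓ N := by
        refine ⟨?_, N.mul_mem (h2 k hkA n hn') (N.inv_mem hn')⟩
        show σ (k * n * k⁻¹ * n⁻¹) ∈ N
        have e : k * n * k⁻¹ * n⁻¹ = k * (n * k⁻¹ * n⁻¹) := by group
        rw [e, map_mul, map_mul, map_mul, map_inv, map_inv]
        exact N.mul_mem hk (h2 _ ((h.inv σ hσ n).2 (h1 hn')) _ (N.inv_mem hk))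
      have h6 : (⟨k * n * k⁻¹ * n⁻¹, h5.2⟩ : N) ∈ (N' ⊓ N).subgroupOf N := h5
      rw [h4, mem_bot] at h6
      have h7 : k * n * k⁻¹ * n⁻¹ = 1 := congrArg Subtype.val h6
      rw [mul_inv_eq_one, mul_inv_eq_iff_eq_mul] at h7
      exact h7
    have hnt : Nontrivial N := hs.toNontrivial
    obtain ⟨n, hn1⟩ := exists_ne (1 : N)
    apply hn1
    apply Subtype.ext
    have h6 : σ.symm (n : Q) ∈ N' := by
      show σ (σ.symm (n : Q)) ∈ N
      rw [σ.apply_symm_apply]
      exact n.2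
    have h7 := congrArg σ (h5 _ h6)
    rw [σ.apply_symm_apply, map_one] at h7
    exact h7
  · intro n hn'
    have h6 : (⟨n, hn'⟩ : N) ∈ (N' ⊓ N).subgroupOf N := by rw [h4]; exact mem_top _
    exact (mem_inf.1 h6).1

/-- **Every `A ∩ A^x` containing `U` contains `C`.** -/
theorem mem_cj_of_core (h : EPT A Γ) {N : Subgroup Q} (h1 : N ≤ A) (h2 : ∀ a ∈ A, ∀ n ∈ N, a * n * a⁻¹ ∈ N)
    (h3 : ∀ a ∈ A, (∀ n ∈ N, a * n = n * a) → a = 1) (hs : IsSimpleGroup N) {p : ℕ} (hp : p.Prime)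
    {U : Subgroup Q} (hU : U ≤ N) (hUp : IsPGroup p U) (hi : ¬ p ∣ U.relIndex N) {C : Set Q} (hCA : ∀ c ∈ C, c ∈ A)
    (hcore : ∀ D : Subgroup Q, U ≤ D → D ≤ N → D ≠ N → coreIn D U ≠ ⊥ ∧
      ∀ c ∈ C, ∀ k ∈ coreIn D U, c * k * c⁻¹ ∈ coreIn D U)
    {x : Q} (hx : x ∉ A) (hUx : U ≤ cj x A) {c : Q} (hc : c ∈ C) : c ∈ cj x A := by
  set D := A ⊓ cj x A ⊓ N with hD
  have hDN : D ≤ N := inf_le_right
  have hUD : U ≤ D := le_inf (le_inf (hU.trans h1) hUx) hU
  have hne : D ≠ N := by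
    intro e
    have h4 : N ≤ cj x A := by
      rw [← e]
      exact inf_le_left.trans inf_le_right
    have h5 := h.F1 x hx N h1 (fun σ hσ => inv_soc h h1 h2 h3 hs hσ) h4
    have hnt : Nontrivial N := hs.toNontrivial
    exact (Subgroup.nontrivial_iff_ne_bot N).1 hnt h5
  obtain ⟨h4, h5⟩ := hcore D hUD hDN hne
  have hKM : coreIn D U ≤ A ⊓ cj x A := (coreIn_le D U).trans (hUD.trans inf_le_left)
  have hiD : ¬ p ∣ U.relIndex D := fun h6 => hi (h6.trans (by
    rw [← Subgroup.relIndex_mul_relIndex U D N hUD hDN]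
    exact Dvd.intro _ rfl))
  rw [← h.conj_stab (hCA c hc)]
  refine h.norm x hx (coreIn D U) hKM (fun σ hσ hσx k hk => ?_) h4 _ ((h.conj c).2 (hCA c hc)) (h5 c hc)
  refine coreIn_inv hp hUD hUp hiD (fun y hy => ?_) hk
  exact ⟨h.stab_M0 hσ hσx hy.1, inv_soc h h1 h2 h3 hs hσ y hy.2⟩

/-- **The criterion.** -/
theorem cl_sylow (h : EPT A Γ) {N : Subgroup Q} (h1 : N ≤ A) (h2 : ∀ a ∈ A, ∀ n ∈ N, a * n * a⁻¹ ∈ N)
    (h3 : ∀ a ∈ A, (∀ n ∈ N, a * n = n * a) → a = 1) (hs : IsSimpleGroup N) {p : ℕ} (hp : p.Prime)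
    {U : Subgroup Q} (hU : U ≤ N) (hUp : IsPGroup p U) (hi : ¬ p ∣ U.relIndex N) {C : Set Q} (hCA : ∀ c ∈ C, c ∈ A)
    (hcore : ∀ D : Subgroup Q, U ≤ D → D ≤ N → D ≠ N → coreIn D U ≠ ⊥ ∧
      ∀ c ∈ C, ∀ k ∈ coreIn D U, c * k * c⁻¹ ∈ coreIn D U)
    {t : Q} (ht : ∀ y ∈ U, t * y * t⁻¹ ∈ U) {c : Q} (hc : c ∈ C) : t * c * t⁻¹ ∈ A :=
  h.CL hCA (hU.trans h1) (fun _ hx hUx _ hc => mem_cj_of_core h h1 h2 h3 hs hp hU hUp hi hCA hcore hx hUx hc) ht hc

end Cfsg.Agent.H682.EP
end

-- part: H682/EP/SUGeo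
section
/-!
# `SU(3, q)`: the stabiliser of an isotropic vector and its overgroups (helper682, S3499)
-/

set_option autoImplicit false
set_option linter.unusedSectionVars false
set_option linter.unusedVariables false

namespace Cfsg.Agent.H682.EP.SUn

open Cfsg Cfsg.Agent.LieClassical.HermSiegel Cfsg.Agent.LieClassical.HermBasic Cfsg.Agent.LieClassical.HermGen
  Cfsg.Agent.H929.U3 Matrix Cfsg.Agent.H682.EP

variable {E : Type*} [Field E] [Fintype E] {q : ℕ}

/-! ### overgroups -/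

theorem stab_conj {g : SU 3 E q} {e : Fin 3 → E} {D : Subgroup (SU 3 E q)} (h : Stab q e ≤ D) (hg : g ∈ D) :
    Stab q (act g e) ≤ D := by
  intro k hk
  have h1 : g⁻¹ * k * g ∈ Stab q e := by
    rw [mem_Stab, act_mul, act_mul, mem_Stab.1 hk, act_inv_act]
  have h2 : k = g * (g⁻¹ * k * g) * g⁻¹ := by group
  rw [h2]
  exact D.mul_mem (D.mul_mem hg (h h1)) (D.inv_mem hg)

theorem stab_smul {e : Fin 3 → E} {t : E} (ht : t ≠ 0) : Stab q (t • e) = Stab q e := by
  ext g
  rw [mem_Stab, mem_Stab, act_smul]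
  exact smul_right_injective _ ht |>.eq_iff

theorem top_of_stab (hF : Fintype.card E = q ^ 2) {D : Subgroup (SU 3 E q)}
    (h : ∀ u, hermForm 3 E q u u = 0 → u ≠ 0 → Stab q u ≤ D) : D = ⊤ := by
  rw [eq_top_iff, ← siegelGroup_eq_top hF (le_refl 3), siegelGroup, Subgroup.closure_le]
  rintro _ ⟨u, w, μ, hs, rfl⟩
  by_cases hu : u = 0
  · subst hu
    have h1 : siegel hF 0 w μ hs = 1 := by
      apply ext_act
      intro v
      rw [act_siegel, act_one, herm_zero_right hF, zero_smul, smul_zero, add_zero, add_zero]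
    rw [h1]
    exact D.one_mem
  · exact h u hs.iso hu (act_siegel_self hF hs)

/-- **a proper overgroup stabilises the line** -/
theorem line_of_proper (hF : Fintype.card E = q ^ 2) {e : Fin 3 → E} (he : hermForm 3 E q e e = 0) (he0 : e ≠ 0)
    {D : Subgroup (SU 3 E q)} (hD : Stab q e ≤ D) (hne : D ≠ ⊤) {d : SU 3 E q} (hd : d ∈ D) :
    ∃ t : E, t ≠ 0 ∧ act d e = t • e := by
  have hv : hermForm 3 E q (act d e) (act d e) = 0 := by rw [herm_act, he]
  have hv0 : act d e ≠ 0 := by rw [Ne, act_eq_zero]; exact he0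
  by_cases hs : hermForm 3 E q (act d e) e = 0
  · obtain ⟨t, ht⟩ := eq_smul_of_orth hF he he0 hv hs
    refine ⟨t, ?_, ht⟩
    rintro rfl
    rw [zero_smul] at ht
    exact hv0 ht
  · exfalso
    apply hne
    apply top_of_stab hF
    intro u hu hu0
    by_cases hs' : hermForm 3 E q u e = 0
    · obtain ⟨t, rfl⟩ := eq_smul_of_orth hF he he0 hu hs'
      have ht : t ≠ 0 := by
        rintro rfl
        exact hu0 (zero_smul _ _)
      rw [stab_smul ht]
      exact hD
    · set k := hermForm 3 E q (act d e) e / hermForm 3 E q u e with hk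
      have hk0 : k ≠ 0 := div_ne_zero hs hs'
      have h1 : hermForm 3 E q (k • u) e = hermForm 3 E q (act d e) e := by
        rw [herm_smul_left, hk, div_mul_cancel₀ _ hs']
      obtain ⟨g, hg1, hg2⟩ := exists_act_fix hF he hv (v' := k • u)
        (by rw [herm_smul_left, herm_smul_right, hu, mul_zero, mul_zero]) h1.symm hs
      rw [← stab_smul hk0, ← hg2, ← act_mul]
      exact stab_conj hD (D.mul_mem (hD hg1) hd)

/-- **The core of `U` in a proper overgroup is `U`.** -/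
theorem core_SU (hF : Fintype.card E = q ^ 2) {e : Fin 3 → E} (he : hermForm 3 E q e e = 0) (he0 : e ≠ 0)
    {D : Subgroup (SU 3 E q)} (hD : Stab q e ≤ D) (hne : D ≠ ⊤) : coreIn D (Stab q e) = Stab q e := by
  apply coreIn_eq
  intro d hd u hu
  obtain ⟨t, ht, h1⟩ := line_of_proper hF he he0 hD hne (D.inv_mem hd)
  rw [mem_Stab, act_mul, act_mul, h1, act_smul, mem_Stab.1 hu, ← h1, act_act_inv]

theorem stab_ne_bot (hF : Fintype.card E = q ^ 2) {e : Fin 3 → E} (he : hermForm 3 E q e e = 0) (he0 : e ≠ 0) :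
    Stab q e ≠ ⊥ := by
  intro h
  have h1 := card_Stab hF he he0
  rw [h, Subgroup.card_bot] at h1
  have h2 := two_le hF
  have h3 : 2 ^ 3 ≤ q ^ 3 := Nat.pow_le_pow_left h2 3
  omega

theorem stab_index (hF : Fintype.card E = q ^ 2) {p : ℕ} [hp : Fact p.Prime] [CharP E p] {e : Fin 3 → E}
    (he : hermForm 3 E q e e = 0) (he0 : e ≠ 0) : ¬ p ∣ (Stab q e).index := by
  obtain ⟨n, hn⟩ : ∃ n, q = p ^ n := by
    obtain ⟨m, -, hm⟩ := FiniteField.card E p
    rw [hF] at hm
    exact (Nat.dvd_prime_pow hp.out).1 (hm ▸ Dvd.intro_left q (by ring) : q ∣ p ^ (m : ℕ)) |>.imp fun k hk => hk.2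
  have h2 := two_le hF
  have hn0 : n ≠ 0 := by
    rintro rfl
    rw [pow_zero] at hn
    omega
  have hpq : p ∣ q := by
    rw [hn]
    exact dvd_pow_self p hn0
  have h1 := Subgroup.card_mul_index (Stab q e)
  rw [card_Stab hF he he0, card_SU3 hF] at h1
  have h3 := Nat.eq_of_mul_eq_mul_left (by positivity) h1
  rw [h3]
  intro h4
  rcases (Nat.Prime.dvd_mul hp.out).1 h4 with h5 | h5
  · have h6 : p ∣ q ^ 3 := dvd_pow hpq (by norm_num)
    exact hp.out.one_lt.ne' (Nat.dvd_one.1 ((Nat.dvd_add_right h6).1 h5))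
  · have h6 : p ∣ q ^ 2 := dvd_pow hpq (by norm_num)
    have h7 : 1 ≤ q ^ 2 := Nat.one_le_pow _ _ (by omega)
    have h8 := (Nat.dvd_sub h6 h5)
    rw [Nat.sub_sub_self h7] at h8
    exact hp.out.one_lt.ne' (Nat.dvd_one.1 h8)

/-! ### the elements of `U` -/

/-- the Siegel conditions in a frame -/
theorem isSiegel_fr (hF : Fintype.card E = q ^ 2) {e₁ e₂ e₃ : Fin 3 → E} (h : Fr q e₁ e₂ e₃) {x μ : E}
    (hx : μ + μ ^ q + x * x ^ q = 0) : IsSiegel q e₁ (x • e₂) μ := by
  refine ⟨h.h11, ?_, ?_⟩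
  · rw [herm_smul_left, h.h21 hF, mul_zero]
  · rw [herm_smul_left, herm_smul_right, h.h22, mul_one]
    exact hx

/-- the action in coordinates -/
theorem act_sie (hF : Fintype.card E = q ^ 2) {e₁ e₂ e₃ : Fin 3 → E} (h : Fr q e₁ e₂ e₃) {x μ : E}
    (hx : μ + μ ^ q + x * x ^ q = 0) (w : Fin 3 → E) : act (siegel hF e₁ (x • e₂) μ (isSiegel_fr hF h hx)) w =
      w + (hermForm 3 E q w e₁ * x) • e₂ + (μ * hermForm 3 E q w e₁ - x ^ q * hermForm 3 E q w e₂) • e₁ := by
  rw [act_siegel, herm_smul_right, smul_smul]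

theorem herm_sie_one (hF : Fintype.card E = q ^ 2) {e₁ e₂ e₃ : Fin 3 → E} (h : Fr q e₁ e₂ e₃) {x μ : E}
    (hx : μ + μ ^ q + x * x ^ q = 0) (w : Fin 3 → E) :
    hermForm 3 E q (act (siegel hF e₁ (x • e₂) μ (isSiegel_fr hF h hx)) w) e₁ = hermForm 3 E q w e₁ := by
  rw [act_sie hF h hx, herm_add_left, herm_add_left, herm_smul_left, herm_smul_left, h.h11, h.h21 hF, mul_zero,
    mul_zero, add_zero, add_zero]

theorem herm_sie_two (hF : Fintype.card E = q ^ 2) {e₁ e₂ e₃ : Fin 3 → E} (h : Fr q e₁ e₂ e₃) {x μ : E}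
    (hx : μ + μ ^ q + x * x ^ q = 0) (w : Fin 3 → E) :
    hermForm 3 E q (act (siegel hF e₁ (x • e₂) μ (isSiegel_fr hF h hx)) w) e₂ =
      hermForm 3 E q w e₂ + x * hermForm 3 E q w e₁ := by
  rw [act_sie hF h hx, herm_add_left, herm_add_left, herm_smul_left, herm_smul_left, h.h12, h.h22]
  ring

theorem herm_sie_three (hF : Fintype.card E = q ^ 2) {e₁ e₂ e₃ : Fin 3 → E} (h : Fr q e₁ e₂ e₃) {x μ : E}
    (hx : μ + μ ^ q + x * x ^ q = 0) :
    hermForm 3 E q (act (siegel hF e₁ (x • e₂) μ (isSiegel_fr hF h hx)) e₃) e₃ = μ := by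
  rw [act_sie hF h hx, herm_add_left, herm_add_left, herm_smul_left, herm_smul_left, h.h33, h.h23, h.h13, h.h31 hF,
    h.h32 hF]
  ring

theorem stab_siegel (hF : Fintype.card E = q ^ 2) {e₁ e₂ e₃ : Fin 3 → E} (h : Fr q e₁ e₂ e₃) (he0 : e₁ ≠ 0)
    {g : SU 3 E q} (hg : g ∈ Stab q e₁) : ∃ (x μ : E) (hx : μ + μ ^ q + x * x ^ q = 0),
      g = siegel hF e₁ (x • e₂) μ (isSiegel_fr hF h hx) := by
  let f : HP q E → Stab q e₁ := fun z => ⟨siegel hF e₁ (z.1.1 • e₂) z.1.2 (isSiegel_fr hF h z.2),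
    act_siegel_self hF _⟩
  have hf : Function.Injective f := by
    intro z z' e
    have e' : siegel hF e₁ (z.1.1 • e₂) z.1.2 (isSiegel_fr hF h z.2) =
        siegel hF e₁ (z'.1.1 • e₂) z'.1.2 (isSiegel_fr hF h z'.2) := congrArg Subtype.val e
    have h2 := herm_sie_two hF h z.2 e₃
    have h3 := herm_sie_three hF h z.2
    rw [e', herm_sie_two hF h z'.2, h.h32 hF, h.h31 hF] at h2
    rw [e', herm_sie_three hF h z'.2] at h3
    apply Subtype.ext
    apply Prod.ext
    · linear_combination -h2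
    · exact h3.symm
  have hc : Nat.card (HP q E) = Nat.card (Stab q e₁) := by rw [card_HP hF, card_Stab hF h.h11 he0]
  have hb : Function.Bijective f := (Nat.bijective_iff_injective_and_card f).2 ⟨hf, hc⟩
  obtain ⟨z, hz⟩ := hb.2 ⟨g, hg⟩
  exact ⟨z.1.1, z.1.2, z.2, (congrArg Subtype.val hz).symm⟩

theorem herm_sie_three' (hF : Fintype.card E = q ^ 2) {e₁ e₂ e₃ : Fin 3 → E} (h : Fr q e₁ e₂ e₃) {x μ : E}
    (hx : μ + μ ^ q + x * x ^ q = 0) (w : Fin 3 → E) :
    hermForm 3 E q (act (siegel hF e₁ (x • e₂) μ (isSiegel_fr hF h hx)) w) e₃ =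
      hermForm 3 E q w e₃ + (μ * hermForm 3 E q w e₁ - x ^ q * hermForm 3 E q w e₂) := by
  rw [act_sie hF h hx, herm_add_left, herm_add_left, herm_smul_left, herm_smul_left, h.h23, h.h13]
  ring

theorem herm_sie_mul (hF : Fintype.card E = q ^ 2) {e₁ e₂ e₃ : Fin 3 → E} (h : Fr q e₁ e₂ e₃) {x μ : E}
    (hx : μ + μ ^ q + x * x ^ q = 0) {x' μ' : E} (hx' : μ' + μ' ^ q + x' * x' ^ q = 0) :
    hermForm 3 E q (act (siegel hF e₁ (x' • e₂) μ' (isSiegel_fr hF h hx') * siegel hF e₁ (x • e₂) μ (isSiegel_fr hF h hx))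
      e₃) e₃ = μ + μ' - x' ^ q * x := by
  rw [act_mul, herm_sie_three' hF h hx', herm_sie_three' hF h hx, herm_sie_one hF h hx, herm_sie_two hF h hx,
    h.h31 hF, h.h32 hF, h.h33]
  ring

/-- central elements of `U` -/
theorem central_siegel (hF : Fintype.card E = q ^ 2) {e₁ e₂ e₃ : Fin 3 → E} (h : Fr q e₁ e₂ e₃) {x μ : E}
    (hx : μ + μ ^ q + x * x ^ q = 0) (hc : ∀ u ∈ Stab q e₁, u * siegel hF e₁ (x • e₂) μ (isSiegel_fr hF h hx) =
      siegel hF e₁ (x • e₂) μ (isSiegel_fr hF h hx) * u) : x = 0 := by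
  by_contra hx0
  obtain ⟨ν, hν⟩ := exists_not_fixed hF
  obtain ⟨μ', hμ'⟩ := exists_root hF (ν / x ^ q)
  have h1 := hc (siegel hF e₁ ((ν / x ^ q) • e₂) μ' (isSiegel_fr hF h hμ')) (act_siegel_self hF _)
  have h2 := congrArg (fun g : SU 3 E q => hermForm 3 E q (act g e₃) e₃) h1
  have hxq : x ^ q ≠ 0 := pow_ne_zero _ hx0
  rw [herm_sie_mul hF h hx hμ', herm_sie_mul hF h hμ' hx, div_pow, pow_q_pow_q hF] at h2
  apply hν
  field_simp at h2
  linear_combination -h2

/-! ### the torus -/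

/-- the matrix of the torus element -/
def torMat (q : ℕ) (l : E) (e₂ : Fin 3 → E) : Matrix (Fin 3) (Fin 3) E :=
  l • (1 + Matrix.vecMulVec (((l ^ 3)⁻¹ - 1) • e₂) (fun j => e₂ j ^ q))

theorem torMat_mulVec (l : E) (e₂ v : Fin 3 → E) : torMat q l e₂ *ᵥ v =
    l • (v + (((l ^ 3)⁻¹ - 1) * hermForm 3 E q v e₂) • e₂) := by
  have h1 : (fun j => e₂ j ^ q) ⬝ᵥ v = hermForm 3 E q v e₂ := by
    rw [herm_def, dotProduct]; exact Finset.sum_congr rfl fun _ _ => mul_comm _ _
  rw [torMat, Matrix.smul_mulVec, Matrix.add_mulVec, Matrix.one_mulVec, Matrix.vecMulVec_mulVec, h1, op_smul_eq_smul,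
    smul_smul, mul_comm]

theorem torMat_det {l : E} (hl : l ≠ 0) {e₂ : Fin 3 → E} (h : hermForm 3 E q e₂ e₂ = 1) : (torMat q l e₂).det = 1 := by
  have h1 : (fun j => e₂ j ^ q) ⬝ᵥ (((l ^ 3)⁻¹ - 1) • e₂) = (l ^ 3)⁻¹ - 1 := by
    have h2 : (fun j => e₂ j ^ q) ⬝ᵥ e₂ = hermForm 3 E q e₂ e₂ := by
      rw [herm_def, dotProduct]; exact Finset.sum_congr rfl fun _ _ => mul_comm _ _
    rw [dotProduct_smul, h2, h, smul_eq_mul, mul_one]
  rw [torMat, Matrix.det_smul, Fintype.card_fin, Matrix.vecMulVec_eq (ι := Unit), Matrix.det_one_add_replicateCol_mul_replicateRow, h1]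
  have : l ^ 3 ≠ 0 := pow_ne_zero _ hl
  field_simp
  ring

theorem torMat_herm (hF : Fintype.card E = q ^ 2) {l : E} (hl : l * l ^ q = 1) {e₂ : Fin 3 → E}
    (h : hermForm 3 E q e₂ e₂ = 1) (u v : Fin 3 → E) :
    hermForm 3 E q (torMat q l e₂ *ᵥ u) (torMat q l e₂ *ᵥ v) = hermForm 3 E q u v := by
  have hl0 : l ≠ 0 := by
    rintro rfl
    rw [zero_mul] at hl
    exact zero_ne_one hl
  have h1 : hermForm 3 E q e₂ v = (hermForm 3 E q v e₂) ^ q := herm_swap hF v e₂
  simp only [torMat_mulVec, herm_add_left, herm_add_right hF, herm_smul_left, herm_smul_right, h, h1, mul_pow,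
    sub_pow_q hF, inv_pow, one_pow]
  have h2 : l ^ q = l⁻¹ := eq_inv_of_mul_eq_one_right hl
  have h3 : (l ^ 3) ^ q = (l⁻¹) ^ 3 := by rw [← pow_mul, mul_comm, pow_mul, h2]
  rw [h3, h2]
  field_simp
  ring

/-- the torus element -/
def tor (hF : Fintype.card E = q ^ 2) {l : E} (hl : l * l ^ q = 1) {e₂ : Fin 3 → E} (h : hermForm 3 E q e₂ e₂ = 1) :
    SU 3 E q := mkSU (torMat q l e₂) (torMat_det (by
      rintro rfl
      rw [zero_mul] at hl
      exact zero_ne_one hl) h) (torMat_herm hF hl h)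

theorem act_tor (hF : Fintype.card E = q ^ 2) {l : E} (hl : l * l ^ q = 1) {e₂ : Fin 3 → E}
    (h : hermForm 3 E q e₂ e₂ = 1) (v : Fin 3 → E) :
    act (tor hF hl h) v = l • (v + (((l ^ 3)⁻¹ - 1) * hermForm 3 E q v e₂) • e₂) := torMat_mulVec l e₂ v

end Cfsg.Agent.H682.EP.SUn
end

-- part: H682/EP/GLForm
section
/-!
# S3499: the criterion for a residual core `P = φ(G)` (helper682)

* `cl_gl` : `U` a Sylow `p`-subgroup of `G`, `φ : G → GL` with range the core `P` of `m.hat A`, the kernel modulo scalars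
  central of exponent 3 (`p ≠ 3`).
-/

set_option autoImplicit false
set_option linter.unusedSectionVars false

namespace Cfsg.Agent.H682.EP

open Subgroup Cfsg.Agent.H284 Cfsg.Agent.H419.EP
open scoped MatrixGroups

variable {Q : Type*} [Group Q] [Finite Q] {A : Subgroup Q} {Γ : Subgroup (MulAut Q)}
variable {ι : Type} [Fintype ι] [DecidableEq ι] {F : Type*} [Field F] {S P : Subgroup (GL ι F)} (m : Model Q S)

section

variable {G : Type*} [Group G] {φ : G →* GL ι F}

/-- the map to `Q` -/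
def psi (hφS : ∀ g, φ g ∈ S) : G →* Q := m.π.comp (φ.codRestrict S hφS)

theorem psi_apply (hφS : ∀ g, φ g ∈ S) (g : G) : psi m hφS g = m.π ⟨φ g, hφS g⟩ := rfl

/-- the cores in `G` and in `Q` -/
theorem map_core [Finite G] {p : ℕ} (hp3 : p ≠ 3) (hp : p.Prime) {ψ : G →* Q} {U : Subgroup G} (hUp : IsPGroup p U)
    (hz : ∀ z, ψ z = 1 → (∀ g, g * z = z * g) ∧ z ^ 3 = 1) {D : Subgroup Q} (hUD : U.map ψ ≤ D) (hD : D ≤ ψ.range) :
    coreIn D (U.map ψ) = (coreIn (D.comap ψ) U).map ψ := by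
  have key : ∀ {u u' z : G}, u ∈ U → u' ∈ U → ψ z = 1 → ∀ g, g⁻¹ * u * g = u' * z → z = 1 := by
    intro u u' z hu hu' hz1 g e
    obtain ⟨h1, h2⟩ := hz z hz1
    have := Fact.mk hp
    obtain ⟨k, hk⟩ := IsPGroup.iff_card.1 hUp
    have e1 : u ^ p ^ k = 1 := by
      rw [← hk]
      exact congrArg Subtype.val (pow_card_eq_one' (x := (⟨u, hu⟩ : U)))
    have e2 : u' ^ p ^ k = 1 := by
      rw [← hk]
      exact congrArg Subtype.val (pow_card_eq_one' (x := (⟨u', hu'⟩ : U)))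
    have e3 : (g⁻¹ * u * g) ^ p ^ k = 1 := by
      have : g⁻¹ * u * g = g⁻¹ * u * g⁻¹⁻¹ := by rw [inv_inv]
      rw [this, conj_pow, e1, mul_one, mul_inv_cancel]
    have hc : Commute u' z := h1 u'
    rw [e, hc.mul_pow, e2, one_mul] at e3
    have h4 := Nat.dvd_gcd (orderOf_dvd_of_pow_eq_one e3) (orderOf_dvd_of_pow_eq_one h2)
    have h5 : Nat.gcd (p ^ k) 3 = 1 := by
      apply Nat.Coprime.pow_left
      exact (Nat.coprime_primes hp Nat.prime_three).2 hp3
    rw [h5, Nat.dvd_one, orderOf_eq_one_iff] at h4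
    exact h4
  apply le_antisymm
  · intro x hx
    obtain ⟨u, hu, rfl⟩ := coreIn_le _ _ hx
    refine ⟨u, fun g hg => ?_, rfl⟩
    obtain ⟨u', hu', e⟩ := hx _ (show ψ g ∈ D from hg)
    rw [← map_inv, ← map_mul, ← map_mul] at e
    have h1 : ψ (u'⁻¹ * (g⁻¹ * u * g)) = 1 := by rw [map_mul, map_inv, ← e, inv_mul_cancel]
    have h2 := key hu hu' h1 g (by group)
    rw [inv_mul_eq_one] at h2
    rw [← h2]
    exact hu'
  · rintro _ ⟨k, hk, rfl⟩ d hd
    obtain ⟨g, rfl⟩ := hD hd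
    refine ⟨g⁻¹ * k * g, hk g hd, ?_⟩
    rw [map_mul, map_mul, map_inv]

/-- **The criterion for a residual core.** -/
theorem cl_gl [Finite G] (h : EPT A Γ) (hP : Cfsg.Geo.IsResidualCore (m.hat A) P) (hφ : φ.range = P) {p : ℕ}
    (hp : p.Prime) (hp3 : p ≠ 3) {U : Subgroup G} (hUp : IsPGroup p U) (hi : ¬ p ∣ U.index)
    (hz : ∀ z, φ z ∈ Cfsg.Geo.scalars ι F → (∀ g, g * z = z * g) ∧ z ^ 3 = 1) {C : Set (GL ι F)}
    (hC : ∀ c ∈ C, c ∈ m.hat A)
    (hcore : ∀ D : Subgroup G, U ≤ D → D ≠ ⊤ → coreIn D U ≠ ⊥ ∧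
      ∀ c ∈ C, ∀ k ∈ coreIn D U, ∃ k' ∈ coreIn D U, c * φ k * c⁻¹ = φ k')
    {t : GL ι F} (htS : t ∈ S) (ht : ∀ u ∈ U, ∃ u' ∈ U, t * φ u * t⁻¹ = φ u') {c : GL ι F} (hc : c ∈ C) :
    t * c * t⁻¹ ∈ m.hat A := by
  have hPS : P ≤ S := hP.le.trans (m.hat_le A)
  have hφP : ∀ g, φ g ∈ P := fun g => by rw [← hφ]; exact ⟨g, rfl⟩
  have hφS : ∀ g, φ g ∈ S := fun g => hPS (hφP g)
  set ψ := psi m hφS with hψ
  set N := ψ.range with hN
  have hz' : ∀ z, ψ z = 1 → (∀ g, g * z = z * g) ∧ z ^ 3 = 1 := fun z e => hz z ((m.ker ⟨φ z, hφS z⟩).1 e)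
  have h1 : N ≤ A := by
    rintro _ ⟨g, rfl⟩
    exact (m.mem_hat_iff ⟨φ g, hφS g⟩).1 (hP.le (hφP g))
  have h2 : ∀ a ∈ A, ∀ n ∈ N, a * n * a⁻¹ ∈ N := by
    rintro a ha _ ⟨g, rfl⟩
    obtain ⟨s, rfl⟩ := m.surj a
    have hs : (s : GL ι F) ∈ m.hat A := (m.mem_hat_iff s).2 ha
    have h3 := hP.normal _ hs _ (hφP g)
    rw [← hφ] at h3
    obtain ⟨g', hg'⟩ := h3
    refine ⟨g', ?_⟩
    rw [hψ, psi_apply, psi_apply, ← map_inv, ← map_mul, ← map_mul]
    congr 1
    exact Subtype.ext hg'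
  have h3 : ∀ a ∈ A, (∀ n ∈ N, a * n = n * a) → a = 1 := by
    intro a ha hc
    obtain ⟨s, rfl⟩ := m.surj a
    have hs : (s : GL ι F) ∈ m.hat A := (m.mem_hat_iff s).2 ha
    rw [m.ker]
    apply hP.centralizer_scalar _ hs
    intro x hx
    rw [← hφ] at hx
    obtain ⟨g, rfl⟩ := hx
    have h4 := hc (ψ g) ⟨g, rfl⟩
    have h5 : m.π (s * ⟨φ g, hφS g⟩ * s⁻¹ * ⟨φ g, hφS g⟩⁻¹) = 1 := by
      rw [map_mul, map_mul, map_mul, map_inv, map_inv]
      rw [hψ, psi_apply] at h4
      rw [h4]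
      group
    exact (m.ker _).1 h5
  have hs : IsSimpleGroup N := by
    have hsP := hP.simple
    let f : P →* Q := m.π.comp (Subgroup.inclusion hPS)
    have hker : f.ker = (Cfsg.Geo.scalars ι F).subgroupOf P := by
      ext x
      rw [MonoidHom.mem_ker]
      exact m.ker _
    have hr : f.range = N := by
      ext y
      constructor
      · rintro ⟨x, rfl⟩
        have hx : (x : GL ι F) ∈ φ.range := by rw [hφ]; exact x.2
        obtain ⟨g, hg⟩ := hx
        refine ⟨g, ?_⟩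
        rw [hψ, psi_apply]
        exact congrArg m.π (Subtype.ext hg)
      · rintro ⟨g, rfl⟩
        exact ⟨⟨φ g, hφP g⟩, rfl⟩
    rw [← hr]
    exact ((QuotientGroup.quotientMulEquivOfEq hker).symm.trans
      (QuotientGroup.quotientKerEquivRange f)).symm.isSimpleGroup
  have hU : U.map ψ ≤ N := Subgroup.map_le_range _ _
  have hi' : ¬ p ∣ (U.map ψ).relIndex N := by
    intro h4
    apply hi
    refine h4.trans ?_
    have h5 : (U.map ψ).relIndex N = (U.map ψ.rangeRestrict).index := by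
      rw [Subgroup.relIndex]
      congr 1
      ext x
      constructor
      · rintro ⟨u, hu, e⟩
        exact ⟨u, hu, Subtype.ext e⟩
      · rintro ⟨u, hu, rfl⟩
        exact ⟨u, hu, rfl⟩
    rw [h5]
    exact Subgroup.index_map_dvd U ψ.rangeRestrict_surjective
  have hCS : ∀ c ∈ C, c ∈ S := fun c hc => m.hat_le A (hC c hc)
  have hfin := cl_sylow h h1 h2 h3 hs hp hU (hUp.map ψ) hi' (C := {x | ∃ c, ∃ hc : c ∈ C, x = m.π ⟨c, hCS c hc⟩}) ?_ ?_
    (t := m.π ⟨t, htS⟩) ?_ (c := m.π ⟨c, hCS c hc⟩) ⟨c, hc, rfl⟩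
  · rw [← map_inv, ← map_mul, ← map_mul] at hfin
    exact (m.mem_hat_iff _).2 hfin
  · rintro _ ⟨c, hc, rfl⟩
    exact (m.mem_hat_iff _).1 (hC c hc)
  · intro D hUD hDN hne
    have hcomap : D.comap ψ ≠ ⊤ := by
      intro e
      apply hne
      apply le_antisymm hDN
      rintro _ ⟨g, rfl⟩
      have : g ∈ D.comap ψ := by rw [e]; trivial
      exact this
    obtain ⟨h4, h5⟩ := hcore (D.comap ψ) (Subgroup.map_le_iff_le_comap.1 hUD) hcomap
    rw [map_core hp3 hp hUp hz' hUD hDN]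
    constructor
    · intro e
      apply h4
      rw [Subgroup.eq_bot_iff_forall]
      intro k hk
      have h6 : ψ k = 1 := by
        have : ψ k ∈ (coreIn (D.comap ψ) U).map ψ := ⟨k, hk, rfl⟩
        rw [e, mem_bot] at this
        exact this
      obtain ⟨-, h7⟩ := hz' k h6
      have := Fact.mk hp
      obtain ⟨j, hj⟩ := IsPGroup.iff_card.1 hUp
      have h8 : k ^ p ^ j = 1 := by
        rw [← hj]
        exact congrArg Subtype.val (pow_card_eq_one' (x := (⟨k, coreIn_le _ _ hk⟩ : U)))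
      have h9 := Nat.dvd_gcd (orderOf_dvd_of_pow_eq_one h8) (orderOf_dvd_of_pow_eq_one h7)
      have h10 : Nat.gcd (p ^ j) 3 = 1 := by
        apply Nat.Coprime.pow_left
        exact (Nat.coprime_primes hp Nat.prime_three).2 hp3
      rw [h10, Nat.dvd_one, orderOf_eq_one_iff] at h9
      exact h9
    · rintro _ ⟨c, hc, rfl⟩ _ ⟨k, hk, rfl⟩
      obtain ⟨k', hk', e⟩ := h5 c hc k hk
      refine ⟨k', hk', ?_⟩
      rw [hψ, psi_apply, psi_apply, ← map_inv, ← map_mul, ← map_mul]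
      congr 1
      exact Subtype.ext e.symm
  · rintro _ ⟨u, hu, rfl⟩
    obtain ⟨u', hu', e⟩ := ht u hu
    refine ⟨u', hu', ?_⟩
    rw [hψ, psi_apply, psi_apply, ← map_inv, ← map_mul, ← map_mul]
    congr 1
    exact Subtype.ext e.symm

end

/-- **An element of `S` normalising the core lies in `m.hat A`.** -/
theorem mem_hat_of_norm (hs : IsSimpleGroup Q) (h : EPT A Γ) (hP : Cfsg.Geo.IsResidualCore (m.hat A) P) {c : GL ι F}
    (hcS : c ∈ S) (hn : ∀ x ∈ P, c * x * c⁻¹ ∈ P) : c ∈ m.hat A := by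
  have hPS : P ≤ S := hP.le.trans (m.hat_le A)
  set N := (P.subgroupOf S).map m.π with hN
  have h1 : N ≤ A := by
    rintro _ ⟨x, hx, rfl⟩
    exact (m.mem_hat_iff x).1 (hP.le hx)
  have key : ∀ s : S, (∀ x ∈ P, (s : GL ι F) * x * (s : GL ι F)⁻¹ ∈ P) → m.π s ∈ Subgroup.normalizer (N : Set Q) := by
    intro s hs
    refine Subgroup.mem_normalizer_fintype ?_
    rintro _ ⟨x, hx, rfl⟩
    exact ⟨s * x * s⁻¹, hs _ hx, by rw [map_mul, map_mul, map_inv]⟩
  have h2 : A ≤ Subgroup.normalizer (N : Set Q) := by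
    intro a ha
    obtain ⟨s, rfl⟩ := m.surj a
    exact key s fun x hx => hP.normal _ ((m.mem_hat_iff s).2 ha) x hx
  have h3 : m.π ⟨c, hcS⟩ ∈ Subgroup.normalizer (N : Set Q) := key ⟨c, hcS⟩ hn
  by_contra hc
  have hcA : m.π ⟨c, hcS⟩ ∉ A := fun e => hc ((m.mem_hat_iff ⟨c, hcS⟩).2 e)
  have h4 : Subgroup.normalizer (N : Set Q) = ⊤ := by
    apply h.max.2
    refine lt_of_le_of_ne h2 fun e => hcA ?_
    rw [e]
    exact h3
  have h5 : N.Normal := Subgroup.normalizer_eq_top_iff.1 h4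
  rcases h5.eq_bot_or_eq_top with h6 | h6
  · have hns := hP.simple.toNontrivial
    obtain ⟨x, hx⟩ := exists_ne (1 : P ⧸ (Cfsg.Geo.scalars ι F).subgroupOf P)
    apply hx
    obtain ⟨x, rfl⟩ := QuotientGroup.mk_surjective x
    rw [QuotientGroup.eq_one_iff]
    have h7 : m.π ⟨(x : GL ι F), hPS x.2⟩ ∈ N := ⟨⟨(x : GL ι F), hPS x.2⟩, x.2, rfl⟩
    rw [h6, mem_bot] at h7
    exact (m.ker _).1 h7
  · apply h.max.1
    rw [eq_top_iff, ← h6]
    exact h1

end Cfsg.Agent.H682.EP
end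

-- part: H682/EP/Sg
section
/-!
# Siegel elements as matrices (helper682, S3499)
-/

set_option autoImplicit false
set_option linter.unusedSectionVars false
set_option linter.unusedVariables false

namespace Cfsg.Agent.H682.EP

open QuadraticMap Matrix Cfsg.Agent.LieClassical.OrthCore Cfsg.Agent.LieClassical.OrthTrans
  Cfsg.Agent.LieClassical.OrthFinite Cfsg.Agent.H887.OmegaBridge
open scoped MatrixGroups

variable {ι : Type} [Fintype ι] [DecidableEq ι] {F : Type*} [Field F] {Q : (ι → F) → F}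
  (hQ : Cfsg.Geo.IsNondegenerateQuadraticForm Q)

theorem gl_ext {g h : GL ι F} (H : ∀ x, (g : Matrix ι ι F) *ᵥ x = (h : Matrix ι ι F) *ᵥ x) : g = h := by
  apply (le ι F).injective
  apply LinearEquiv.ext
  intro x
  rw [le_apply, le_apply]
  exact H x

/-- the Siegel element -/
noncomputable def sg (u w : ι → F) (hu : Q u = 0) (hw : polar Q u w = 0) : GL ι F :=
  (le ι F).symm (siegel (qf Q hQ) u w hu hw)

theorem sg_apply {u w : ι → F} (hu : Q u = 0) (hw : polar Q u w = 0) (x : ι → F) :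
    (sg hQ u w hu hw : Matrix ι ι F) *ᵥ x = x + polar Q u x • w - polar Q w x • u - (Q w * polar Q u x) • u := by
  unfold sg
  rw [le_symm_mulVec]
  exact siegel_apply (Q := qf Q hQ) hu hw x

theorem sg_mem [Finite F] (hn : 7 ≤ Fintype.card ι) {u w : ι → F} (hu : Q u = 0) (hw : polar Q u w = 0) :
    sg hQ u w hu hw ∈ Cfsg.Geo.omegaGL Q := by
  have hdim : Module.finrank F (ι → F) = Fintype.card ι := Module.finrank_fintype_fun_eq_card F
  have hG : Good (qf Q hQ) := good_of_finite (nondeg_qf Q hQ) (by omega)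
  rw [mem_omegaGL_iff Q hQ hG]
  unfold sg
  rw [MulEquiv.apply_symm_apply]
  exact siegel_mem_E _ _

theorem sg_mul {u w w' : ι → F} (hu : Q u = 0) (hw : polar Q u w = 0) (hw' : polar Q u w' = 0)
    (h : polar Q u (w + w') = 0) : sg hQ u w hu hw * sg hQ u w' hu hw' = sg hQ u (w + w') hu h := by
  unfold sg
  rw [← map_mul, siegel_mul (Q := qf Q hQ) hu hw hw' h]

theorem sg_conj {g : GL ι F} (hg : ∀ v, Q ((g : Matrix ι ι F) *ᵥ v) = Q v) {u w : ι → F} (hu : Q u = 0)
    (hw : polar Q u w = 0) (hu' : Q ((g : Matrix ι ι F) *ᵥ u) = 0)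
    (hw' : polar Q ((g : Matrix ι ι F) *ᵥ u) ((g : Matrix ι ι F) *ᵥ w) = 0) :
    g * sg hQ u w hu hw * g⁻¹ = sg hQ ((g : Matrix ι ι F) *ᵥ u) ((g : Matrix ι ι F) *ᵥ w) hu' hw' := by
  apply (le ι F).injective
  unfold sg
  rw [map_mul, map_mul, map_inv, MulEquiv.apply_symm_apply, MulEquiv.apply_symm_apply]
  exact siegel_conj (Q := qf Q hQ) (g := le ι F g) hg hu hw hu' hw'

theorem polar_fix {g : GL ι F} (hg : ∀ v, Q ((g : Matrix ι ι F) *ᵥ v) = Q v) (u v : ι → F) :
    polar Q ((g : Matrix ι ι F) *ᵥ u) ((g : Matrix ι ι F) *ᵥ v) = polar Q u v := by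
  unfold polar
  rw [← Matrix.mulVec_add, hg, hg, hg]

include hQ in
theorem polar_smul_l (a : F) (u v : ι → F) : polar Q (a • u) v = a * polar Q u v := hQ.polar_bilinear.smul_left a u v

include hQ in
theorem polar_smul_r (a : F) (u v : ι → F) : polar Q u (a • v) = a * polar Q u v := hQ.polar_bilinear.smul_right a u v

include hQ in
theorem polar_add_l (u u' v : ι → F) : polar Q (u + u') v = polar Q u v + polar Q u' v := hQ.polar_bilinear.add_left u u' v

include hQ in
theorem polar_add_r (u v v' : ι → F) : polar Q u (v + v') = polar Q u v + polar Q u v' := hQ.polar_bilinear.add_right u v v'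

include hQ in
theorem polar_self_sing {u : ι → F} (hu : Q u = 0) : polar Q u u = 0 := by
  have h1 : Q (u + u) = 4 * Q u := by
    have : u + u = (2 : F) • u := by rw [two_smul]
    rw [this, hQ.smul]
    norm_num
  unfold polar
  rw [h1, hu]
  ring

/-- scaling -/
theorem sg_smul {u w : ι → F} {a b : F} (hu : Q u = 0) (hw : polar Q u w = 0) (hu' : Q (a • u) = 0)
    (hw' : polar Q (a • u) (b • w) = 0) (h : polar Q u ((a * b) • w) = 0) :
    sg hQ (a • u) (b • w) hu' hw' = sg hQ u ((a * b) • w) hu h := by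
  apply gl_ext
  intro x
  rw [sg_apply, sg_apply, polar_smul_l hQ, polar_smul_l hQ, polar_smul_l hQ, hQ.smul, hQ.smul]
  module

/-- modulo `u` -/
theorem sg_add_self {u w : ι → F} {a : F} (hu : Q u = 0) (hw : polar Q u w = 0) (hw' : polar Q u (w + a • u) = 0) :
    sg hQ u (w + a • u) hu hw' = sg hQ u w hu hw := by
  have h1 : Q (w + a • u) = Q w := by
    have h2 : polar Q w (a • u) = 0 := by rw [polar_smul_r hQ, polar_comm, hw, mul_zero]
    have h3 : Q (w + a • u) = Q w + Q (a • u) + polar Q w (a • u) := by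
      unfold polar
      ring
    rw [h3, h2, hQ.smul, hu, mul_zero, add_zero, add_zero]
  apply gl_ext
  intro x
  rw [sg_apply, sg_apply, h1, polar_add_l hQ, polar_smul_l hQ]
  module

theorem sg_congr {u w u' w' : ι → F} (hu : Q u = 0) (hw : polar Q u w = 0) (hu' : Q u' = 0) (hw' : polar Q u' w' = 0)
    (e1 : u = u') (e2 : w = w') : sg hQ u w hu hw = sg hQ u' w' hu' hw' := by
  subst e1
  subst e2
  rfl

theorem sg_inv {u w : ι → F} (hu : Q u = 0) (hw : polar Q u w = 0) (hw' : polar Q u (-w) = 0) :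
    (sg hQ u w hu hw)⁻¹ = sg hQ u (-w) hu hw' := by
  have h0 : polar Q u (w + -w) = 0 := by rw [polar_add_r hQ, hw, hw', add_zero]
  rw [inv_eq_iff_mul_eq_one, sg_mul hQ hu hw hw' h0]
  apply gl_ext
  intro x
  have e : Q (w + -w) = 0 := by
    rw [add_neg_cancel]
    have := hQ.smul 0 w
    rw [zero_smul] at this
    rw [this]
    ring
  have e2 : polar Q (w + -w) x = 0 := by
    have := polar_smul_l hQ 0 w x
    rw [add_neg_cancel, ← zero_smul F w, this, zero_mul]
  rw [sg_apply, e, e2, add_neg_cancel, smul_zero, zero_mul, zero_smul, sub_zero, sub_zero, add_zero, Units.val_one,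
    Matrix.one_mulVec]

/-- **The commutator with a semisimple element.** -/
theorem sg_comm {c : GL ι F} (hc : ∀ v, Q ((c : Matrix ι ι F) *ᵥ v) = Q v) {u w : ι → F} (hu : Q u = 0)
    (hw : polar Q u w = 0) {a b : F} (hcu : (c : Matrix ι ι F) *ᵥ u = a • u) (hcw : (c : Matrix ι ι F) *ᵥ w = b • w)
    (h : polar Q u ((1 - a * b) • w) = 0) :
    sg hQ u w hu hw * c * (sg hQ u w hu hw)⁻¹ * c⁻¹ = sg hQ u ((1 - a * b) • w) hu h := by
  have hw1 : polar Q u (-w) = 0 := by
    have := polar_smul_r hQ (-1) u w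
    rw [neg_one_smul] at this
    rw [this, hw, mul_zero]
  have hu' : Q ((c : Matrix ι ι F) *ᵥ u) = 0 := by rw [hc, hu]
  have hw' : polar Q ((c : Matrix ι ι F) *ᵥ u) ((c : Matrix ι ι F) *ᵥ (-w)) = 0 := by rw [polar_fix hc, hw1]
  have e1 : c * (sg hQ u w hu hw)⁻¹ * c⁻¹ = sg hQ ((c : Matrix ι ι F) *ᵥ u) ((c : Matrix ι ι F) *ᵥ (-w)) hu' hw' := by
    rw [sg_inv hQ hu hw hw1, sg_conj hQ hc hu hw1]
  have hu2 : Q (a • u) = 0 := by rw [← hcu]; exact hu'
  have e3 : (c : Matrix ι ι F) *ᵥ (-w) = (-b) • w := by rw [Matrix.mulVec_neg, hcw, neg_smul]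
  have hw2 : polar Q (a • u) ((-b) • w) = 0 := by rw [← hcu, ← e3]; exact hw'
  have hw3 : polar Q u ((a * (-b)) • w) = 0 := by rw [polar_smul_r hQ, hw, mul_zero]
  have e2 : sg hQ ((c : Matrix ι ι F) *ᵥ u) ((c : Matrix ι ι F) *ᵥ (-w)) hu' hw' = sg hQ u ((a * (-b)) • w) hu hw3 := by
    rw [sg_congr hQ hu' hw' hu2 hw2 hcu e3, sg_smul hQ hu hw]
  have hw4 : polar Q u (w + (a * (-b)) • w) = 0 := by rw [polar_add_r hQ, hw, hw3, add_zero]
  have e4 : sg hQ u w hu hw * c * (sg hQ u w hu hw)⁻¹ * c⁻¹ = sg hQ u w hu hw * (c * (sg hQ u w hu hw)⁻¹ * c⁻¹) := by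
    group
  rw [e4, e1, e2, sg_mul hQ hu hw hw3 hw4]
  refine sg_congr hQ _ _ _ _ rfl ?_
  module

end Cfsg.Agent.H682.EP
end

-- part: H682/EP/SUModel
section
/-!
# S3499, own characteristic: `PSU(3, q)` in dimension 8, the vectors (helper682)
-/

set_option autoImplicit false
set_option linter.unusedSectionVars false
set_option linter.unusedVariables false
set_option linter.style.haveILetI false

namespace Cfsg.Agent.H682.EP.SUn

open Cfsg Cfsg.Geo Cfsg.Agent.LieClassical.HermSiegel Cfsg.Agent.LieClassical.HermBasic Matrix Cfsg.Agent.H906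
  Cfsg.Agent.H915.LD Cfsg.Agent.H905.Md Cfsg.Agent.H914 Cfsg.Agent.H929.U3

universe u

section Data

variable {F : Type u} [Field F] [Finite F] {ι : Type} [Fintype ι] [DecidableEq ι] {P : Subgroup (GL ι F)}
  (p : ℕ) [hp : Fact p.Prime] [hFp : CharP F p] {E : Type} [Field E] [Fintype E] [hEp : CharP E p]

include p hp hFp hEp in
/-- **the Gram matrix of the rational vectors, with the action** (after `SU3Data.polar_rat`) -/
theorem rat_model {q : ℕ} (hC : Core P) (hsd : SD P) (hq4 : 4 ≤ q) (hE : Fintype.card E = q ^ 2)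
    {e : Soc P ≃* PSU 3 E q} (hn : Fintype.card ι ≤ 12) (D : SU3Data P p E q e) {Q : (ι → F) → F}
    (hQ : IsNondegenerateQuadraticForm Q) (hfix : FixesQuadForm (matrixSet P) Q) :
    ∃ (V : Iso q E → ι → F) (c : F), c ≠ 0 ∧ (∀ w, Q (V w) = 0) ∧ (∀ u w,
      algebraMap F (AlgebraicClosure F) (QuadraticMap.polar Q (V u) (V w)) =
        algebraMap F (AlgebraicClosure F) c * D.j (hermForm 3 E q w.1 u.1) ^ (1 + q)) ∧
      ∀ g w, (D.rep g : Matrix ι ι F) *ᵥ V w = V (actIso g w) := by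
  classical
  have hne := hC.nonempty
  have hq3 : 3 ≤ q := by omega
  have hchar : CharP (AlgebraicClosure F) p := charP_of_injective_algebraMap (algebraMap F _).injective p
  have hb := (D.sd_iff p hC hq3 hE hn).1 hsd
  have hn3 : Fintype.card ι < q ^ 3 := by
    have : 3 ^ 3 ≤ q ^ 3 := Nat.pow_le_pow_left hq3 3
    omega
  obtain ⟨lam, V, hlam, hV⟩ := D.exists_rat p hC hsd hq3 hE hn
  set f := QuadraticMap.polar Q with hf
  have hfb : IsBilinearForm f := hQ.polar_bilinear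
  have hff : FixesForm (matrixSet P) f := by
    intro s hs v w
    rw [hf]
    unfold QuadraticMap.polar
    rw [← Matrix.mulVec_add, hfix s hs, hfix s hs, hfix s hs]
  have hJ0 := det_gram_ne_zero (IsSesq.of_bilinear hfb) hQ.nondegenerate
  have hJ : ∀ g ∈ P, (g : Matrix ι ι F)ᵀ * gramMatrix f * (g : Matrix ι ι F) = gramMatrix f :=
    fun g hg => gram_fix hfb hff hg
  obtain ⟨c, hc⟩ := D.gram p hE hn3 (J := (gramMatrix f).map (algebraMap F (AlgebraicClosure F))) (D.inv_map _ hJ)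
  -- the form over the closure
  have hfe : ∀ x y : ι → F, algebraMap F (AlgebraicClosure F) (f x y) =
      (fun i => algebraMap F (AlgebraicClosure F) (x i)) ⬝ᵥ
        ((gramMatrix f).map (algebraMap F (AlgebraicClosure F)) *ᵥ
          (fun i => algebraMap F (AlgebraicClosure F) (y i))) := by
    intro x y
    rw [form_eq_gram hfb]
    simp only [dotProduct, Matrix.mulVec, map_sum, map_mul, Matrix.map_apply]
  have hfV : ∀ u w, algebraMap F (AlgebraicClosure F) (f (V u) (V w)) =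
      (lam * lam * c) * D.j (hermForm 3 E q w.1 u.1) ^ (1 + q) := by
    intro u w
    rw [hfe, hV, hV, Matrix.mulVec_smul, hc, smul_dotProduct, dotProduct_smul, dotProduct_smul, dotProduct_comm,
      D.ker.coef, hb]
    simp only [smul_eq_mul]
    ring
  obtain ⟨e₂, e₃, hfr⟩ := exists_fr hE D.iso D.ne
  have h3 : e₃ ≠ 0 := by
    rintro rfl
    have := hfr.h13
    rw [herm_zero_right hE] at this
    exact zero_ne_one this
  have hc1 : algebraMap F (AlgebraicClosure F) (f (V ⟨D.e₀, D.iso, D.ne⟩) (V ⟨e₃, hfr.h33, h3⟩)) = lam * lam * c := by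
    rw [hfV, hfr.h31 hE, map_one, one_pow, mul_one]
  have hc0 : c ≠ 0 := by
    rintro rfl
    have h6 : ∀ x, (gramMatrix f).map (algebraMap F (AlgebraicClosure F)) *ᵥ x = 0 := by
      intro x
      have hx : x ∈ Submodule.span (AlgebraicClosure F) (Set.range D.V) := by rw [D.ker.spanR]; trivial
      induction hx using Submodule.span_induction with
      | mem x hx =>
        obtain ⟨w, rfl⟩ := hx
        rw [hc, zero_smul]
      | zero => rw [Matrix.mulVec_zero]
      | add x y _ _ hx hy => rw [Matrix.mulVec_add, hx, hy, add_zero]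
      | smul c x _ hx => rw [Matrix.mulVec_smul, hx, smul_zero]
    have h7 : ((gramMatrix f).map (algebraMap F (AlgebraicClosure F))).det ≠ 0 := by
      rw [← RingHom.mapMatrix_apply, ← RingHom.map_det]
      exact (map_ne_zero _).2 hJ0
    apply h7
    have h8 : (gramMatrix f).map (algebraMap F (AlgebraicClosure F)) = 0 := by
      ext a b
      have := congrFun (h6 (Pi.single b 1)) a
      rwa [Matrix.mulVec_single_one, Matrix.col_apply] at this
    rw [h8, Matrix.det_zero]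
  have hact : ∀ g w, (D.rep g : Matrix ι ι F) *ᵥ V w = V (actIso g w) := by
    intro g w
    funext i
    apply (algebraMap F (AlgebraicClosure F)).injective
    have h8 := congrFun (hV (actIso g w)) i
    rw [h8, D.V_act hE, Pi.smul_apply, ← Pi.smul_apply, ← Matrix.mulVec_smul, ← hV]
    simp only [Matrix.mulVec, dotProduct, map_sum, map_mul, acRep_apply, Matrix.map_apply]
  refine ⟨V, f (V ⟨D.e₀, D.iso, D.ne⟩) (V ⟨e₃, hfr.h33, h3⟩), ?_, ?_, ?_, hact⟩
  · intro h0
    rw [h0, map_zero] at hc1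
    exact mul_ne_zero (mul_ne_zero hlam hlam) hc0 hc1.symm
  · intro w
    -- a generator of the multiplicative group
    obtain ⟨t, ht⟩ := IsCyclic.exists_generator (α := Eˣ)
    have hord : orderOf t = q ^ 2 - 1 := by
      rw [orderOf_eq_card_of_forall_mem_zpowers ht, Nat.card_eq_fintype_card, Fintype.card_units, hE]
    have ht0 : (t : E) ≠ 0 := t.ne_zero
    let tw : Iso q E := ⟨(t : E) • w.1, by rw [herm_smul_left, herm_smul_right, w.2.1, mul_zero, mul_zero],
      smul_ne_zero ht0 w.2.2⟩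
    -- `V (t w) = N (t) V w`
    have h4 : D.V tw = D.j (t : E) ^ (1 + q) • D.V w := by
      have h5 : ∀ y : ι → AlgebraicClosure F, y ⬝ᵥ (D.V tw - D.j (t : E) ^ (1 + q) • D.V w) = 0 := by
        intro y
        have hy : y ∈ Submodule.span (AlgebraicClosure F) (Set.range D.Φ) := by rw [D.ker.spanL]; trivial
        induction hy using Submodule.span_induction with
        | mem y hy =>
          obtain ⟨u, rfl⟩ := hy
          rw [dotProduct_sub, dotProduct_smul, D.ker.coef, D.ker.coef, hb]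
          change D.j (hermForm 3 E q u.1 ((t : E) • w.1)) ^ (1 + q) - _ = 0
          rw [herm_smul_right, smul_eq_mul, ← mul_pow, ← map_mul, ← map_pow, ← map_pow, mul_pow, mul_pow, sub_eq_zero]
          congr 2
          rw [pow_add, pow_add, pow_one, pow_one, pow_q_pow_q hE, mul_comm]
        | zero => rw [zero_dotProduct]
        | add x y _ _ hx hy => rw [add_dotProduct, hx, hy, add_zero]
        | smul c x _ hx => rw [smul_dotProduct, hx, smul_zero]
      funext i
      have h6 := h5 (Pi.single i 1)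
      rw [single_dotProduct, one_mul, Pi.sub_apply, sub_eq_zero] at h6
      exact h6
    -- both are in the same orbit
    obtain ⟨g, hg⟩ : ∃ g : SU 3 E q, actIso g w = tw := by
      obtain ⟨g, hg⟩ := exists_act hE w.2.1 w.2.2 tw.2.1 tw.2.2
      exact ⟨g, Subtype.ext hg⟩
    have hgP : D.rep g ∈ P := D.range_rep.le ⟨g, rfl⟩
    have h7 : (D.rep g : Matrix ι ι F) *ᵥ V w = V tw := by rw [hact, hg]
    -- `N (t)` is rational
    obtain ⟨n, hn'⟩ : ∃ n : F, algebraMap F (AlgebraicClosure F) n = D.j (t : E) ^ (1 + q) := by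
      have : Fintype F := Fintype.ofFinite F
      have hcard := card_psu3_sd p hC hsd hq3 hE e hn
      rw [Nat.card_eq_fintype_card] at hcard
      apply exists_alg
      rw [hcard, ← map_pow, ← map_pow]
      congr 1
      have h9 : (t : E) ^ (q ^ 2) = t := by rw [← hE, FiniteField.pow_card]
      rw [← pow_mul, add_mul, one_mul, ← pow_two, pow_add, h9, pow_add, pow_one, mul_comm]
    have h8 : V tw = n • V w := by
      funext i
      apply (algebraMap F (AlgebraicClosure F)).injective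
      have h9 := congrFun (hV tw) i
      have h10 := congrFun (hV w) i
      rw [h9, h4, Pi.smul_apply, Pi.smul_apply, Pi.smul_apply, smul_eq_mul, smul_eq_mul, smul_eq_mul, map_mul, hn', h10,
        Pi.smul_apply, smul_eq_mul]
      ring
    have h9 := hfix _ ⟨D.rep g, hgP, rfl⟩ (V w)
    rw [h7, h8, hQ.smul] at h9
    by_contra h0
    have h10 : n ^ 2 = 1 := by
      have h11 : (n ^ 2 - 1) * Q (V w) = 0 := by linear_combination h9
      exact sub_eq_zero.1 ((mul_eq_zero.1 h11).resolve_right h0)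
    have h11 : t ^ ((1 + q) * 2) = 1 := by
      apply Units.ext
      rw [Units.val_pow_eq_pow_val, Units.val_one]
      apply D.j.injective
      rw [map_one, pow_mul, map_pow, map_pow, ← hn', ← map_pow, h10, map_one]
    have h12 := orderOf_dvd_of_pow_eq_one h11
    have h13 : q ^ 2 - 1 = (1 + q) * (q - 1) := by
      obtain ⟨r, rfl⟩ : ∃ r, q = r + 1 := ⟨q - 1, by omega⟩
      rw [Nat.add_sub_cancel]
      have : (r + 1) ^ 2 = (1 + (r + 1)) * r + 1 := by ring
      rw [this, Nat.add_sub_cancel]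
    rw [hord, h13] at h12
    have h14 : q - 1 ∣ 2 := Nat.dvd_of_mul_dvd_mul_left (by omega) h12
    have := Nat.le_of_dvd (by norm_num) h14
    omega
  · intro u w
    rw [hfV, hc1]

end Data

end Cfsg.Agent.H682.EP.SUn
end

-- part: H682/EP/SUVec
section
/-!
# S3499, own characteristic: `PSU(3, q)` in dimension 8, root vectors (helper682)
-/

set_option autoImplicit false
set_option linter.unusedSectionVars false
set_option linter.unusedVariables false

namespace Cfsg.Agent.H682.EP.SUn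

open Cfsg Cfsg.Geo Cfsg.Agent.LieClassical.HermSiegel Cfsg.Agent.LieClassical.HermBasic Matrix QuadraticMap
  Cfsg.Agent.H929.U3
open scoped MatrixGroups

variable {F : Type*} [Field F] {ι : Type} [Fintype ι] [DecidableEq ι] {E : Type} [Field E] [Fintype E] {q : ℕ}
  {K : Type*} [Field K]

/-- the rational model -/
structure Dat (rep : SU 3 E q →* GL ι F) (Q : (ι → F) → F) (V : Iso q E → ι → F) (c : F) (i : F →+* K)
    (j : E →+* K) : Prop where
  hE : Fintype.card E = q ^ 2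
  rat : ∀ x : K, x ^ q = x → ∃ y, i y = x
  hQ : IsNondegenerateQuadraticForm Q
  hc : c ≠ 0
  sing : ∀ w, Q (V w) = 0
  gram : ∀ u w : Iso q E, i (polar Q (V u) (V w)) = i c * j (hermForm 3 E q w.1 u.1 * hermForm 3 E q w.1 u.1 ^ q)
  actV : ∀ g w, (rep g : Matrix ι ι F) *ᵥ V w = V (actIso g w)
  sep : ∀ x, (∀ w, polar Q x (V w) = 0) → x = 0
  fix : ∀ g x, Q ((rep g : Matrix ι ι F) *ᵥ x) = Q x

/-- `x` represents the function `g` -/
def Rp (Q : (ι → F) → F) (V : Iso q E → ι → F) (c : F) (i : F →+* K) (j : E →+* K) (x : ι → F)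
    (g : (Fin 3 → E) → E) : Prop := ∀ w : Iso q E, i (polar Q x (V w)) = i c * j (g w.1)

namespace Dat

variable {rep : SU 3 E q →* GL ι F} {Q : (ι → F) → F} {V : Iso q E → ι → F} {c : F} {i : F →+* K} {j : E →+* K}
  (D : Dat rep Q V c i j)
include D

theorem uniq {x y : ι → F} {g g' : (Fin 3 → E) → E} (hx : Rp Q V c i j x g) (hy : Rp Q V c i j y g')
    (h : ∀ w : Iso q E, g w.1 = g' w.1) : x = y := by
  have h1 : x - y = 0 := by
    apply D.sep
    intro w
    apply i.injective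
    have h2 : polar Q (x - y) (V w) = polar Q x (V w) - polar Q y (V w) := by
      have h3 := D.hQ.polar_bilinear.add_left (x - y) y (V w)
      rw [sub_add_cancel] at h3
      rw [h3, add_sub_cancel_right]
    rw [h2, map_sub, hx w, hy w, h w, sub_self, map_zero]
  exact sub_eq_zero.1 h1

theorem rp_add {x y : ι → F} {g g' : (Fin 3 → E) → E} (hx : Rp Q V c i j x g) (hy : Rp Q V c i j y g') :
    Rp Q V c i j (x + y) (fun w => g w + g' w) := by
  intro w
  rw [D.hQ.polar_bilinear.add_left, map_add, hx w, hy w, map_add]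
  ring

theorem rp_smul {x : ι → F} {g : (Fin 3 → E) → E} (hx : Rp Q V c i j x g) {a : F} {b : E} (hab : i a = j b) :
    Rp Q V c i j (a • x) (fun w => b * g w) := by
  intro w
  rw [D.hQ.polar_bilinear.smul_left, map_mul, hx w, hab, map_mul]
  ring

theorem rp_sub {x y : ι → F} {g g' : (Fin 3 → E) → E} (hx : Rp Q V c i j x g) (hy : Rp Q V c i j y g') :
    Rp Q V c i j (x - y) (fun w => g w - g' w) := by
  have h1 := D.rp_add hx (D.rp_smul hy (a := -1) (b := -1) (by rw [map_neg, map_neg, map_one, map_one]))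
  have e1 : x + (-1 : F) • y = x - y := by rw [neg_one_smul, sub_eq_add_neg]
  rw [e1] at h1
  intro w
  rw [h1 w]
  congr 2
  ring

theorem rp_V (u : Iso q E) : Rp Q V c i j (V u) (fun w => hermForm 3 E q w u.1 * hermForm 3 E q w u.1 ^ q) :=
  fun w => D.gram u w

theorem rp_act {x : ι → F} {g : (Fin 3 → E) → E} (hx : Rp Q V c i j x g) (k : SU 3 E q) :
    Rp Q V c i j ((rep k : Matrix ι ι F) *ᵥ x) (fun w => g (act k⁻¹ w)) := by
  intro w
  have h1 : V w = (rep k : Matrix ι ι F) *ᵥ V (actIso k⁻¹ w) := by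
    rw [D.actV]
    congr 1
    exact Subtype.ext (act_act_inv k w.1).symm
  have h2 : polar Q ((rep k : Matrix ι ι F) *ᵥ x) (V w) = polar Q x (V (actIso k⁻¹ w)) := by
    rw [h1]
    exact polar_fix (D.fix k) _ _
  rw [h2, hx]
  rfl

/-- `e₁` and a frame -/
theorem exists_v {e₁ e₂ e₃ : Fin 3 → E} (h : Fr q e₁ e₂ e₃) (κ : E) : ∃ v : ι → F, Rp Q V c i j v (fun w =>
    κ * (hermForm 3 E q w e₂ * hermForm 3 E q w e₁ ^ q) + (κ * (hermForm 3 E q w e₂ * hermForm 3 E q w e₁ ^ q)) ^ q) := by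
  have hE := D.hE
  obtain ⟨δ, hδ, hδt⟩ := exists_trace_zero_ne hE
  obtain ⟨ζ, hζ⟩ := exists_zeta hE
  have hq := two_le hE
  have hζ1 : ζ ^ q ≠ 1 := by
    intro h1
    have h2 := hζ.pow_eq_one_iff_dvd q |>.1 h1
    have := Nat.le_of_dvd (by omega) h2
    omega
  have hζN : ζ * ζ ^ q = 1 := by rw [mul_comm, ← pow_succ]; exact hζ.pow_eq_one
  have hκ0 : δ * (1 - ζ ^ q) ≠ 0 := mul_ne_zero hδ (sub_ne_zero.2 hζ1.symm)
  set x := (κ / (δ * (1 - ζ ^ q))) ^ q with hx
  have hxq : x ^ q = κ / (δ * (1 - ζ ^ q)) := pow_q_pow_q hE _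
  obtain ⟨y, hy⟩ := exists_root hE x
  have hy' : (y + δ) + (y + δ) ^ q + x * x ^ q = 0 := by
    rw [add_pow_q hE]
    linear_combination hy + hδt
  have hxζ : (ζ * x) * (ζ * x) ^ q = x * x ^ q := by
    rw [mul_pow]
    linear_combination (x * x ^ q) * hζN
  have iso : ∀ a b : E, a + a ^ q + b * b ^ q = 0 →
      hermForm 3 E q (a • e₁ + b • e₂ + (1 : E) • e₃) (a • e₁ + b • e₂ + (1 : E) • e₃) = 0 := by
    intro a b hab
    rw [h.herm_comb hE, one_pow]
    linear_combination hab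
  have ne : ∀ a b : E, a • e₁ + b • e₂ + (1 : E) • e₃ ≠ 0 := fun a b => h.comb_ne_zero hE one_ne_zero
  have hv := D.rp_sub (D.rp_sub (D.rp_add
    (D.rp_V ⟨(y + δ) • e₁ + x • e₂ + (1 : E) • e₃, iso _ _ hy', ne _ _⟩)
    (D.rp_V ⟨y • e₁ + (ζ * x) • e₂ + (1 : E) • e₃, iso _ _ (by rw [hxζ]; exact hy), ne _ _⟩))
    (D.rp_V ⟨(y + δ) • e₁ + (ζ * x) • e₂ + (1 : E) • e₃, iso _ _ (by rw [hxζ]; exact hy'), ne _ _⟩))
    (D.rp_V ⟨y • e₁ + x • e₂ + (1 : E) • e₃, iso _ _ hy, ne _ _⟩)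
  refine ⟨_, fun w => (hv w).trans ?_⟩
  congr 2
  have hκ : κ = δ * (1 - ζ ^ q) * x ^ q := by rw [hxq, mul_div_cancel₀ _ hκ0]
  simp only [herm_add_right hE, herm_smul_right, one_pow, one_mul]
  rw [hκ]
  simp only [mul_pow, add_pow_q hE, sub_pow_q hE, one_pow, pow_q_pow_q hE]
  ring

end Dat

end Cfsg.Agent.H682.EP.SUn
end

-- part: H682/EP/SUMain
section
/-!
# S3499, own characteristic: `PSU(3, q)` in dimension 8, the contradiction (helper682)
-/

set_option autoImplicit false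
set_option linter.unusedSectionVars false
set_option linter.unusedVariables false

namespace Cfsg.Agent.H682.EP.SUn

open Cfsg Cfsg.Geo Cfsg.Agent.LieClassical.HermSiegel Cfsg.Agent.LieClassical.HermBasic Matrix QuadraticMap
  Cfsg.Agent.H929.U3 Subgroup Cfsg.Agent.H284 Cfsg.Agent.H419.EP
open scoped MatrixGroups

/-- an element of order `p` centralising a Sylow subgroup lies in it -/
theorem mem_of_comm_sylow {G : Type*} [Group G] [Finite G] {p : ℕ} [Fact p.Prime] {U : Subgroup G} (hU : IsPGroup p U)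
    (hi : ¬ p ∣ U.index) {x : G} (hx : x ^ p = 1) (hc : ∀ u ∈ U, x * u = u * x) : x ∈ U := by
  have h1 : IsPGroup p (zpowers x) := by
    rintro ⟨g, hg⟩
    obtain ⟨k, rfl⟩ := mem_zpowers_iff.1 hg
    refine ⟨1, Subtype.ext ?_⟩
    change (x ^ k) ^ p ^ 1 = 1
    rw [pow_one, ← zpow_natCast, ← _root_.zpow_mul, mul_comm, _root_.zpow_mul, zpow_natCast, hx, _root_.one_zpow]
  have h2 : zpowers x ≤ normalizer (U : Set G) := by
    rw [zpowers_le]
    refine mem_normalizer_fintype fun u hu => ?_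
    rw [hc u hu, mul_inv_cancel_right]
    exact hu
  have h3 := hU.to_sup_of_normal_left' h1 h2
  have h4 := (hU.toSylow hi).is_maximal' h3 le_sup_left
  have h5 : x ∈ U ⊔ zpowers x := mem_sup_right (mem_zpowers x)
  rw [h4] at h5
  exact h5

variable {F : Type*} [Field F] {ι : Type} [Fintype ι] [DecidableEq ι] {E : Type} [Field E] [Fintype E] {q : ℕ}
  {K : Type*} [Field K]

/-- the function of a root vector -/
def tv (q : ℕ) (e₁ e₂ : Fin 3 → E) (κ : E) (w : Fin 3 → E) : E :=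
  κ * (hermForm 3 E q w e₂ * hermForm 3 E q w e₁ ^ q) + (κ * (hermForm 3 E q w e₂ * hermForm 3 E q w e₁ ^ q)) ^ q

namespace Dat

variable {rep : SU 3 E q →* GL ι F} {Q : (ι → F) → F} {V : Iso q E → ι → F} {c : F} {i : F →+* K} {j : E →+* K}
  (D : Dat rep Q V c i j) {e₁ e₂ e₃ : Fin 3 → E} (h : Fr q e₁ e₂ e₃) (he0 : e₁ ≠ 0) {v : E → ι → F}
  (hv : ∀ κ, Rp Q V c i j (v κ) (tv q e₁ e₂ κ))

include D hv in
theorem v_add (κ κ' : E) : v (κ + κ') = v κ + v κ' := by
  refine D.uniq (hv _) (D.rp_add (hv κ) (hv κ')) fun w => ?_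
  unfold tv
  rw [add_mul, add_pow_q D.hE]
  ring

include D h hv in
theorem z_v (κ : E) : polar Q (V ⟨e₁, h.h11, he0⟩) (v κ) = 0 := by
  apply i.injective
  rw [polar_comm, hv κ, map_zero]
  have h1 : tv q e₁ e₂ κ e₁ = 0 := by
    unfold tv
    rw [h.h11, zero_pow_q D.hE, mul_zero, mul_zero, zero_pow_q D.hE, add_zero]
  rw [h1, map_zero, mul_zero]

include D in
theorem u_z {u : SU 3 E q} (hu : u ∈ Stab q e₁) :
    (rep u : Matrix ι ι F) *ᵥ V ⟨e₁, h.h11, he0⟩ = V ⟨e₁, h.h11, he0⟩ := by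
  rw [D.actV]
  congr 1
  exact Subtype.ext hu

include D h hv in
theorem u_v {u : SU 3 E q} (hu : u ∈ Stab q e₁) (κ : E) :
    ∃ a : F, (rep u : Matrix ι ι F) *ᵥ v κ = v κ + a • V ⟨e₁, h.h11, he0⟩ := by
  obtain ⟨x, μ, hx, hs⟩ := stab_siegel D.hE h he0 ((Stab q e₁).inv_mem hu)
  obtain ⟨a, ha⟩ := D.rat (j (κ * x + (κ * x) ^ q)) (by rw [← map_pow, trace_pow_q D.hE])
  refine ⟨a, D.uniq (D.rp_act (hv κ) u) (D.rp_add (hv κ) (D.rp_smul (D.rp_V _) ha)) fun w => ?_⟩
  rw [hs]
  unfold tv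
  rw [herm_sie_one D.hE h hx, herm_sie_two D.hE h hx]
  simp only [mul_pow, add_pow_q D.hE, pow_q_pow_q D.hE]
  ring

section torus

variable {l : E} (hl : l * l ^ q = 1)

theorem act_tor_one (hE : Fintype.card E = q ^ 2) : act (tor hE hl h.h22) e₁ = l • e₁ := by
  rw [act_tor, h.h12, mul_zero, zero_smul, add_zero]

include hl in
theorem l_ne : l ≠ 0 := by
  rintro rfl
  rw [zero_mul] at hl
  exact zero_ne_one hl

theorem act_tor_two (hE : Fintype.card E = q ^ 2) : act (tor hE hl h.h22) e₂ = (l ^ 2)⁻¹ • e₂ := by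
  have hl0 := l_ne hl
  rw [act_tor, h.h22, mul_one]
  have h1 : e₂ + ((l ^ 3)⁻¹ - 1) • e₂ = (l ^ 3)⁻¹ • e₂ := by module
  rw [h1, smul_smul]
  congr 1
  field_simp

include D h hl in
theorem c_z : (rep (tor D.hE hl h.h22) : Matrix ι ι F) *ᵥ V ⟨e₁, h.h11, he0⟩ = V ⟨e₁, h.h11, he0⟩ := by
  rw [D.actV]
  refine D.uniq (D.rp_V _) (D.rp_V _) fun w => ?_
  change hermForm 3 E q w (act (tor D.hE hl h.h22) e₁) * hermForm 3 E q w (act (tor D.hE hl h.h22) e₁) ^ q = _
  rw [act_tor_one h hl, herm_smul_right, mul_pow, pow_q_pow_q D.hE]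
  linear_combination (hermForm 3 E q w e₁ * hermForm 3 E q w e₁ ^ q) * hl

include D h hl hv in
theorem c_v (κ : E) : (rep (tor D.hE hl h.h22) : Matrix ι ι F) *ᵥ v κ = v (l ^ 3 * κ) := by
  refine D.uniq (D.rp_act (hv κ) _) (hv _) fun w => ?_
  have hl0 := l_ne hl
  have hlq : l ^ q = l⁻¹ := eq_inv_of_mul_eq_one_right hl
  have h0 : ((l ^ 2)⁻¹) ^ q = l ^ 2 := by rw [inv_pow, ← pow_mul, mul_comm 2 q, pow_mul, hlq, inv_pow, inv_inv]
  have h1 : hermForm 3 E q (act (tor D.hE hl h.h22)⁻¹ w) e₂ = l ^ 2 * hermForm 3 E q w e₂ := by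
    rw [herm_act_left, inv_inv, act_tor_two h hl, herm_smul_right, h0]
  have h2 : hermForm 3 E q (act (tor D.hE hl h.h22)⁻¹ w) e₁ = l⁻¹ * hermForm 3 E q w e₁ := by
    rw [herm_act_left, inv_inv, act_tor_one h hl, herm_smul_right, hlq]
  have h3 : (l⁻¹) ^ q = l := by rw [inv_pow, hlq, inv_inv]
  unfold tv
  rw [h1, h2, mul_pow l⁻¹, h3]
  have h4 : κ * (l ^ 2 * hermForm 3 E q w e₂ * (l * hermForm 3 E q w e₁ ^ q)) =
      l ^ 3 * κ * (hermForm 3 E q w e₂ * hermForm 3 E q w e₁ ^ q) := by ring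
  rw [h4]

end torus

/-! ### the elements `T κ` -/

/-- the Siegel element -/
noncomputable def T (κ : E) : GL ι F := sg D.hQ (V ⟨e₁, h.h11, he0⟩) (v κ) (D.sing _) (z_v D h he0 hv κ)

theorem T_mul (κ κ' : E) : T D h he0 hv κ * T D h he0 hv κ' = T D h he0 hv (κ + κ') := by
  unfold T
  have h1 : polar Q (V ⟨e₁, h.h11, he0⟩) (v κ + v κ') = 0 := by rw [← v_add D hv]; exact z_v D h he0 hv _
  rw [sg_mul D.hQ _ _ _ h1]
  exact sg_congr D.hQ _ _ _ _ rfl (v_add D hv κ κ').symm

theorem T_zero : T D h he0 hv 0 = 1 := by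
  have h1 := T_mul D h he0 hv 0 0
  rw [add_zero] at h1
  exact mul_eq_left.1 h1

theorem T_inv (κ : E) : (T D h he0 hv κ)⁻¹ = T D h he0 hv (-κ) := by
  rw [inv_eq_iff_mul_eq_one, T_mul, add_neg_cancel, T_zero]

theorem T_pow (κ : E) (n : ℕ) : T D h he0 hv κ ^ n = T D h he0 hv (n • κ) := by
  induction n with
  | zero => rw [pow_zero, zero_smul, T_zero]
  | succ n ih => rw [pow_succ, ih, T_mul, succ_nsmul]

/-- conjugation -/
theorem T_conj {g : SU 3 E q} (hg : (rep g : Matrix ι ι F) *ᵥ V ⟨e₁, h.h11, he0⟩ = V ⟨e₁, h.h11, he0⟩) {κ κ' : E}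
    {a : F} (hk : (rep g : Matrix ι ι F) *ᵥ v κ = v κ' + a • V ⟨e₁, h.h11, he0⟩) :
    rep g * T D h he0 hv κ * (rep g)⁻¹ = T D h he0 hv κ' := by
  unfold T
  have h1 : Q ((rep g : Matrix ι ι F) *ᵥ V ⟨e₁, h.h11, he0⟩) = 0 := by rw [hg]; exact D.sing _
  have h2 : polar Q ((rep g : Matrix ι ι F) *ᵥ V ⟨e₁, h.h11, he0⟩) ((rep g : Matrix ι ι F) *ᵥ v κ) = 0 := by
    rw [polar_fix (D.fix g)]; exact z_v D h he0 hv _
  have h3 : polar Q (V ⟨e₁, h.h11, he0⟩) (v κ' + a • V ⟨e₁, h.h11, he0⟩) = 0 := by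
    rw [polar_add_r D.hQ, polar_smul_r D.hQ, polar_self_sing D.hQ (D.sing _), z_v D h he0 hv, mul_zero, add_zero]
  rw [sg_conj D.hQ (D.fix g) _ _ h1 h2, sg_congr D.hQ h1 h2 (D.sing _) h3 hg hk, sg_add_self D.hQ]

theorem T_comm_U {u : SU 3 E q} (hu : u ∈ Stab q e₁) (κ : E) :
    rep u * T D h he0 hv κ * (rep u)⁻¹ = T D h he0 hv κ := by
  obtain ⟨a, ha⟩ := u_v D h he0 hv hu κ
  exact T_conj D h he0 hv (u_z D h he0 hu) ha

theorem T_tor {l : E} (hl : l * l ^ q = 1) (κ : E) :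
    rep (tor D.hE hl h.h22) * T D h he0 hv κ * (rep (tor D.hE hl h.h22))⁻¹ = T D h he0 hv (l ^ 3 * κ) := by
  refine T_conj D h he0 hv (c_z D h he0 hl) (a := 0) ?_
  rw [c_v D h hv hl, zero_smul, add_zero]

/-- the commutator with the torus -/
theorem T_comm_tor {l : E} (hl : l * l ^ q = 1) (κ : E) :
    T D h he0 hv κ * rep (tor D.hE hl h.h22) * (T D h he0 hv κ)⁻¹ * (rep (tor D.hE hl h.h22))⁻¹ =
      T D h he0 hv ((1 - l ^ 3) * κ) := by
  have e : T D h he0 hv κ * rep (tor D.hE hl h.h22) * (T D h he0 hv κ)⁻¹ * (rep (tor D.hE hl h.h22))⁻¹ =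
      T D h he0 hv κ * (rep (tor D.hE hl h.h22) * (T D h he0 hv κ)⁻¹ * (rep (tor D.hE hl h.h22))⁻¹) := by group
  rw [e, T_inv, T_tor, T_mul]
  congr 1
  ring

include D h in
/-- nontriviality -/
theorem T_ne {κ : E} (h1 : T D h he0 hv κ = 1) : κ = 0 := by
  have hE := D.hE
  have h3ne : e₃ ≠ 0 := by
    rintro rfl
    have := h.h13
    rw [herm_zero_right hE] at this
    exact zero_ne_one this
  set x := V ⟨e₃, h.h33, h3ne⟩ with hx
  set z := V ⟨e₁, h.h11, he0⟩ with hz
  have h2 : (T D h he0 hv κ : Matrix ι ι F) *ᵥ x = x := by rw [h1, Units.val_one, Matrix.one_mulVec]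
  unfold T at h2
  rw [sg_apply] at h2
  have hzx : i (polar Q z x) = i c := by
    rw [hz, hx, D.gram]
    change i c * j (hermForm 3 E q e₃ e₁ * hermForm 3 E q e₃ e₁ ^ q) = i c
    rw [h.h31 hE, one_pow, mul_one, map_one, mul_one]
  have hzx0 : polar Q z x ≠ 0 := by
    intro h0
    rw [h0, map_zero] at hzx
    exact D.hc ((map_eq_zero i).1 hzx.symm)
  -- `v κ` is a multiple of `z`
  obtain ⟨b, hb⟩ : ∃ b : F, v κ = b • z := by
    refine ⟨(polar Q z x)⁻¹ * (polar Q (v κ) x + Q (v κ) * polar Q z x), ?_⟩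
    have h4 : polar Q z x • v κ = (polar Q (v κ) x + Q (v κ) * polar Q z x) • z := by
      have h5 : x + polar Q z x • v κ - polar Q (v κ) x • z - (Q (v κ) * polar Q z x) • z - x = 0 := by
        rw [h2, sub_self]
      have h6 : x + polar Q z x • v κ - polar Q (v κ) x • z - (Q (v κ) * polar Q z x) • z - x =
          polar Q z x • v κ - (polar Q (v κ) x + Q (v κ) * polar Q z x) • z := by module
      rw [h6] at h5
      exact sub_eq_zero.1 h5
    rw [← smul_smul, ← h4, smul_smul, inv_mul_cancel₀ hzx0, one_smul]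
  have hic : i c ≠ 0 := (map_ne_zero i).2 D.hc
  have h4 : ∀ w : Iso q E, j (tv q e₁ e₂ κ w.1) = i b * j (hermForm 3 E q w.1 e₁ * hermForm 3 E q w.1 e₁ ^ q) := by
    intro w
    have h5 := hv κ w
    rw [hb, polar_smul_l D.hQ, map_mul, hz, D.gram] at h5
    apply mul_left_cancel₀ hic
    rw [← h5]
    ring
  have hb0 : i b = 0 := by
    have h5 := h4 ⟨e₃, h.h33, h3ne⟩
    unfold tv at h5
    simp only [h.h31 hE, h.h32 hE, mul_zero, zero_pow_q hE, add_zero, map_zero, one_pow, mul_one, map_one] at h5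
    exact h5.symm
  apply eq_zero_of_forall_trace hE
  intro y
  obtain ⟨y', hy'⟩ := exists_root hE y
  have hw : hermForm 3 E q (y' • e₁ + y • e₂ + (1 : E) • e₃) (y' • e₁ + y • e₂ + (1 : E) • e₃) = 0 := by
    rw [h.herm_comb hE, one_pow]
    linear_combination hy'
  have h5 := h4 ⟨y' • e₁ + y • e₂ + (1 : E) • e₃, hw, h.comb_ne_zero hE one_ne_zero⟩
  rw [hb0, zero_mul, map_eq_zero] at h5
  have h6 : hermForm 3 E q (y' • e₁ + y • e₂ + (1 : E) • e₃) e₁ = 1 := by
    rw [herm_add_left, herm_add_left, herm_smul_left, herm_smul_left, herm_smul_left, h.h11, h.h21 hE, h.h31 hE]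
    ring
  have h7 : hermForm 3 E q (y' • e₁ + y • e₂ + (1 : E) • e₃) e₂ = y := by
    rw [herm_add_left, herm_add_left, herm_smul_left, herm_smul_left, herm_smul_left, h.h12, h.h22, h.h32 hE]
    ring
  unfold tv at h5
  rw [h6, h7, one_pow, mul_one, mul_comm κ y] at h5
  exact h5

end Dat

/-! ### the kernel -/

/-- an element stabilising all the isotropic lines is scalar -/
theorem scal_of_lines (hE : Fintype.card E = q ^ 2) {e₁ e₂ e₃ : Fin 3 → E} (h : Fr q e₁ e₂ e₃) {g : SU 3 E q}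
    (hg : ∀ w, hermForm 3 E q w w = 0 → ∃ t : E, act g w = t • w) : ∃ t : E, t ^ 3 = 1 ∧ ∀ w, act g w = t • w := by
  obtain ⟨y, hy⟩ := exists_root hE (1 : E)
  rw [one_pow, mul_one] at hy
  have hy0 : y ≠ 0 := by
    rintro rfl
    rw [zero_pow_q hE, add_zero, zero_add] at hy
    exact one_ne_zero hy
  obtain ⟨t₁, ht₁⟩ := hg e₁ h.h11
  obtain ⟨t₃, ht₃⟩ := hg e₃ h.h33
  obtain ⟨t, ht⟩ := hg (y • e₁ + (1 : E) • e₂ + (1 : E) • e₃) (by
    rw [h.herm_comb hE, one_pow, one_mul]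
    linear_combination hy)
  have h13 := h.h13
  rw [← herm_act g, ht₁, ht₃, herm_smul_left, herm_smul_right, h.h13] at h13
  have ht₁0 : t₁ ≠ 0 := by
    rintro rfl
    rw [zero_mul] at h13
    exact zero_ne_one h13
  have ht₃0 : t₃ ≠ 0 := by
    rintro rfl
    rw [zero_pow_q hE] at h13
    simp at h13
  have h2 : act g e₂ = t • e₂ + (y * (t - t₁)) • e₁ + (t - t₃) • e₃ := by
    have e1 : act g (y • e₁ + (1 : E) • e₂ + (1 : E) • e₃) = y • act g e₁ + act g e₂ + act g e₃ := by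
      rw [act_add, act_add, act_smul, act_smul, act_smul, one_smul, one_smul]
    rw [ht, ht₁, ht₃] at e1
    have e2 : act g e₂ = (y • t₁ • e₁ + act g e₂ + t₃ • e₃) - y • t₁ • e₁ - t₃ • e₃ := by module
    rw [e2, ← e1]
    module
  have h21 := h.h21 hE
  rw [← herm_act g, ht₁, h2, herm_smul_right, herm_add_left, herm_add_left, herm_smul_left, herm_smul_left,
    herm_smul_left, h.h21 hE, h.h11, h.h31 hE] at h21
  have h23 := h.h23
  rw [← herm_act g, ht₃, h2, herm_smul_right, herm_add_left, herm_add_left, herm_smul_left, herm_smul_left,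
    herm_smul_left, h.h23, h.h13, h.h33] at h23
  have k1 : t = t₃ := by
    have h5 : t₁ ^ q * (t - t₃) = 0 := by linear_combination h21
    exact sub_eq_zero.1 ((mul_eq_zero.1 h5).resolve_left (pow_ne_zero _ ht₁0))
  have k2 : t = t₁ := by
    have h5 : t₃ ^ q * (y * (t - t₁)) = 0 := by linear_combination h23
    exact sub_eq_zero.1 ((mul_eq_zero.1 ((mul_eq_zero.1 h5).resolve_left (pow_ne_zero _ ht₃0))).resolve_left hy0)
  have hall : ∀ w, act g w = t • w := by
    intro w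
    obtain ⟨a, b, c, rfl⟩ := h.exists_comb hE w
    rw [act_add, act_add, act_smul, act_smul, act_smul, ht₁, ht₃, h2, ← k1, ← k2, sub_self, mul_zero, zero_smul,
      zero_smul, add_zero, add_zero]
    module
  refine ⟨t, ?_, hall⟩
  have hm : mat g = t • (1 : Matrix (Fin 3) (Fin 3) E) := by
    apply Matrix.ext_of_mulVec_single
    intro k
    rw [← act_def, hall, Matrix.smul_mulVec, Matrix.one_mulVec]
  have hd := det_mat g
  rw [hm, Matrix.det_smul, Matrix.det_one, mul_one, Fintype.card_fin] at hd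
  exact hd

theorem central_of_scal {g : SU 3 E q} {t : E} (ht : t ^ 3 = 1) (hg : ∀ w, act g w = t • w) :
    (∀ k, k * g = g * k) ∧ g ^ 3 = 1 := by
  constructor
  · intro k
    apply ext_act
    intro w
    rw [act_mul, act_mul, hg, hg, act_smul]
  · apply ext_act
    intro w
    have h3 : g ^ 3 = g * (g * g) := by rw [pow_succ, pow_two, mul_assoc]
    rw [h3, act_mul, act_mul, hg, hg, hg, act_one, smul_smul, smul_smul]
    have : t * t * t = t ^ 3 := by ring
    rw [this, ht, one_smul]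

section final

variable {rep : SU 3 E q →* GL ι F} {Q : (ι → F) → F} {V : Iso q E → ι → F} {c : F} {i : F →+* K} {j : E →+* K}
  (D : Dat rep Q V c i j) {e₁ e₂ e₃ : Fin 3 → E} (h : Fr q e₁ e₂ e₃) (he0 : e₁ ≠ 0)

include D h in
/-- the kernel modulo scalars -/
theorem ker_su {g : SU 3 E q} (hg : rep g ∈ scalars ι F) : (∀ k, k * g = g * k) ∧ g ^ 3 = 1 := by
  have hE := D.hE
  obtain ⟨l, hl⟩ := (mem_scalars_iff _).1 hg
  obtain ⟨t, ht, h1⟩ := scal_of_lines hE h (g := g) (fun w hw => by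
    by_cases hw0 : w = 0
    · exact ⟨0, by rw [hw0, act_zero, zero_smul]⟩
    · apply eq_smul_of_orth hE hw hw0 (by rw [herm_act, hw])
      have h2 := D.actV g ⟨w, hw, hw0⟩
      rw [hl, Matrix.smul_mulVec, Matrix.one_mulVec] at h2
      have h3 := D.gram (actIso g ⟨w, hw, hw0⟩) ⟨w, hw, hw0⟩
      rw [← h2, polar_smul_l D.hQ, polar_self_sing D.hQ (D.sing _), mul_zero, map_zero] at h3
      have h4 := ((mul_eq_zero.1 h3.symm).resolve_left ((map_ne_zero i).2 D.hc))
      rw [map_eq_zero, norm_eq_zero hE] at h4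
      exact herm_eq_zero_swap hE h4)
  exact central_of_scal ht h1

include D h he0 in
/-- **`q ≥ 3`, `p ≠ 3`: no EP pair.** -/
theorem adj_su {Qg : Type*} [Group Qg] [Finite Qg] {A : Subgroup Qg} {Γ : Subgroup (MulAut Qg)} [Finite F]
    (hE : EPT A Γ) (m : Model Qg (omegaGL Q)) (hn : 7 ≤ Fintype.card ι)
    {p : ℕ} [hp : Fact p.Prime] [CharP E p] (hp3 : p ≠ 3) (hq : 3 ≤ q) {P : Subgroup (GL ι F)} (hr : rep.range = P)
    (hP : IsResidualCore (m.hat A) P) : False := by
  have hEq := D.hE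
  have hcv := D.exists_v h
  choose v hv using hcv
  change ∀ κ, Rp Q V c i j (v κ) (tv q e₁ e₂ κ) at hv
  -- the torus
  obtain ⟨l, hlp⟩ := exists_zeta hEq
  have hl : l * l ^ q = 1 := by rw [mul_comm, ← pow_succ]; exact hlp.pow_eq_one
  have hl3 : 1 - l ^ 3 ≠ 0 := by
    intro h1
    have h2 : l ^ 3 = 1 := (sub_eq_zero.1 h1).symm
    have h3 := Nat.le_of_dvd (by norm_num) ((hlp.pow_eq_one_iff_dvd 3).1 h2)
    omega
  set s := tor hEq hl h.h22 with hs
  have hrP : ∀ g, rep g ∈ P := fun g => by rw [← hr]; exact ⟨g, rfl⟩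
  have hrA : ∀ g, rep g ∈ m.hat A := fun g => hP.le (hrP g)
  have hz : ∀ z, rep z ∈ scalars ι F → (∀ g, g * z = z * g) ∧ z ^ 3 = 1 := fun z hz => ker_su D h hz
  have hUp := isPGroup_Stab (p := p) hEq h.h11 he0
  have hi := stab_index (p := p) hEq h.h11 he0
  -- `s` normalises `U`
  have hsU : ∀ k ∈ Stab q e₁, s * k * s⁻¹ ∈ Stab q e₁ := by
    intro k hk
    have hl0 := Dat.l_ne hl
    have h1 : act s e₁ = l • e₁ := Dat.act_tor_one h hl hEq
    have h2 : act s⁻¹ e₁ = l⁻¹ • e₁ := by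
      have h3 := act_inv_act s e₁
      rw [h1, act_smul] at h3
      calc act s⁻¹ e₁ = l⁻¹ • (l • act s⁻¹ e₁) := by rw [smul_smul, inv_mul_cancel₀ hl0, one_smul]
        _ = l⁻¹ • e₁ := by rw [h3]
    rw [mem_Stab, act_mul, act_mul, h2, act_smul, mem_Stab.1 hk, act_smul, h1, smul_smul, inv_mul_cancel₀ hl0, one_smul]
  -- CL
  have hT1 : ∀ κ, Dat.T D h he0 hv κ ∈ m.hat A := by
    intro κ
    have h1 := cl_gl m hE hP hr hp.out hp3 hUp hi hz (C := {rep s})
      (fun _ e => by rw [Set.mem_singleton_iff] at e; rw [e]; exact hrA s)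
      (fun Dd hD hne => by
        rw [core_SU hEq h.h11 he0 hD hne]
        refine ⟨stab_ne_bot hEq h.h11 he0, fun _ e k hk => ?_⟩
        rw [Set.mem_singleton_iff] at e
        exact ⟨s * k * s⁻¹, hsU k hk, by rw [e, map_mul, map_mul, map_inv]⟩)
      (t := Dat.T D h he0 hv ((1 - l ^ 3)⁻¹ * κ)) (sg_mem D.hQ hn _ _) (fun u hu => ⟨u, hu, by
        have h2 := Dat.T_comm_U D h he0 hv hu ((1 - l ^ 3)⁻¹ * κ)
        rw [mul_inv_eq_iff_eq_mul] at h2 ⊢
        exact h2.symm⟩) (Set.mem_singleton (rep s))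
    have h2 := (m.hat A).mul_mem h1 ((m.hat A).inv_mem (hrA s))
    rw [Dat.T_comm_tor, ← mul_assoc, mul_inv_cancel₀ hl3, one_mul] at h2
    exact h2
  have hT2 : ∀ κ, Dat.T D h he0 hv κ ∈ P := by
    intro κ
    have h1 := P.mul_mem (hP.normal _ (hT1 ((1 - l ^ 3)⁻¹ * κ)) _ (hrP s)) (P.inv_mem (hrP s))
    rw [Dat.T_comm_tor, ← mul_assoc, mul_inv_cancel₀ hl3, one_mul] at h1
    exact h1
  -- `T 1 ∈ rep U`
  have hFp : ∀ κ, Dat.T D h he0 hv κ ^ p = 1 := by
    intro κ
    rw [Dat.T_pow, nsmul_eq_mul, CharP.cast_eq_zero, zero_mul, Dat.T_zero]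
  let rp : SU 3 E q →* P := rep.codRestrict P hrP
  have hrs : Function.Surjective rp := by
    rintro ⟨x, hx⟩
    rw [← hr] at hx
    obtain ⟨g, rfl⟩ := hx
    exact ⟨g, rfl⟩
  have hPfin : Finite P := Finite.of_surjective rp hrs
  have hx := mem_of_comm_sylow (G := P) (p := p) (U := (Stab q e₁).map rp) (hUp.map rp)
    (fun h1 => hi (h1.trans (Subgroup.index_map_dvd _ hrs))) (x := ⟨Dat.T D h he0 hv 1, hT2 1⟩)
    (Subtype.ext (hFp 1)) (by
      rintro _ ⟨u, hu, rfl⟩
      apply Subtype.ext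
      have h2 := Dat.T_comm_U D h he0 hv hu 1
      rw [mul_inv_eq_iff_eq_mul] at h2
      exact h2.symm)
  obtain ⟨u, hu, hu1⟩ := hx
  have hu2 : rep u = Dat.T D h he0 hv 1 := congrArg Subtype.val hu1
  -- `u` is central in `U`
  have hU1 : ∀ k ∈ Stab q e₁, rep k = 1 → k = 1 := by
    intro k hk h1
    obtain ⟨-, h2⟩ := hz k (by rw [h1]; exact (scalars ι F).one_mem)
    obtain ⟨n, hn'⟩ := IsPGroup.iff_card.1 hUp
    have h3 : k ^ p ^ n = 1 := by
      rw [← hn']
      exact congrArg Subtype.val (pow_card_eq_one' (x := (⟨k, hk⟩ : Stab q e₁)))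
    have h4 := Nat.dvd_gcd (orderOf_dvd_of_pow_eq_one h3) (orderOf_dvd_of_pow_eq_one h2)
    have h5 : Nat.gcd (p ^ n) 3 = 1 := by
      apply Nat.Coprime.pow_left
      exact (Nat.coprime_primes hp.out Nat.prime_three).2 hp3
    rw [h5, Nat.dvd_one, orderOf_eq_one_iff] at h4
    exact h4
  have huc : ∀ k ∈ Stab q e₁, k * u = u * k := by
    intro k hk
    have h1 := hU1 (k * u * k⁻¹ * u⁻¹) ((Stab q e₁).mul_mem ((Stab q e₁).mul_mem ((Stab q e₁).mul_mem hk hu)
      ((Stab q e₁).inv_mem hk)) ((Stab q e₁).inv_mem hu)) (by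
        rw [map_mul, map_mul, map_mul, map_inv, map_inv, hu2, Dat.T_comm_U D h he0 hv hk, mul_inv_cancel])
    rw [mul_inv_eq_one, mul_inv_eq_iff_eq_mul] at h1
    exact h1
  obtain ⟨x, μ, hx, hus⟩ := stab_siegel hEq h he0 hu
  rw [hus] at huc
  obtain rfl := central_siegel hEq h hx huc
  -- `u` commutes with `s`
  have hsu : s * u * s⁻¹ = u := by
    rw [hus, conj_siegel]
    apply ext_act
    intro w
    rw [act_siegel, act_siegel, zero_smul, act_zero, Dat.act_tor_one h hl hEq, herm_smul_right, herm_zero_right hEq,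
      smul_zero, smul_zero, sub_zero, sub_zero, smul_smul]
    congr 2
    linear_combination (μ * hermForm 3 E q w e₁) * hl
  have h1 := Dat.T_tor D h he0 hv hl 1
  rw [← hu2, ← hs, ← map_mul, ← map_inv, ← map_mul, hsu, hu2, mul_one] at h1
  have h2 : Dat.T D h he0 hv (1 - l ^ 3) = 1 := by
    rw [sub_eq_add_neg, ← Dat.T_mul, ← Dat.T_inv, ← h1, mul_inv_cancel]
  exact hl3 (Dat.T_ne D h he0 hv h2)

end final

end Cfsg.Agent.H682.EP.SUn
end

-- part: H682/EP/SURow
section
/-!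
# S3499, own characteristic: socle `PSU(3, q)` in dimension 8, `p ≠ 3` (helper682)
-/

set_option autoImplicit false

namespace Cfsg.Agent.H682.EP

open Matrix Cfsg Cfsg.Geo QuadraticMap Cfsg.Agent.H284 Cfsg.Agent.H419.EP Cfsg.Agent.H915.LD Cfsg.Agent.H929.U3
open scoped MatrixGroups

/-- **The module of `PSU(3, q)`, `p ≠ 3`, `q ≥ 3`: no EP pair.** -/
theorem adj_psu3 {Q : Type*} [Group Q] [Finite Q] {A : Subgroup Q} {Γ : Subgroup (MulAut Q)}
    (h : EPT A Γ) {F : Type*} [Field F] [Finite F] {ι : Type} [Fintype ι] [DecidableEq ι] {Qf : (ι → F) → F}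
    (m : Model Q (Cfsg.Geo.omegaGL Qf)) (hn : 7 ≤ Fintype.card ι) (hn' : Fintype.card ι ≤ 11)
    (hQ : IsNondegenerateQuadraticForm Qf) {P : Subgroup (GL ι F)} (hP : IsResidualCore (m.hat A) P)
    (p : ℕ) [hp : Fact p.Prime] [CharP F p] (hp3 : p ≠ 3) {E : Type} [Field E] [Fintype E] [CharP E p] {q : ℕ}
    (hE : Fintype.card E = q ^ 2) (hq : 3 ≤ q) (Φ : Soc P ≃* PSU 3 E q) : False := by
  have hC := core_of_residual hP
  have hfix : FixesQuadForm (matrixSet P) Qf := by
    rintro s ⟨g, hg, rfl⟩ v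
    have h1 : g ∈ Cfsg.Geo.omegaGL Qf := m.hat_le A (hP.le hg)
    rw [Cfsg.Agent.H887.OmegaBridge.omegaGL_eq] at h1
    exact Cfsg.Agent.H887.OmegaBridge.mem_isometryGroup.1 (Subgroup.commutator_le_self _ h1) v
  have hsd : SD P := Cfsg.Agent.H879.Nine.sd_of_fixQ ⟨Qf, hQ, hfix⟩
  have hq4 : 4 ≤ q := by
    by_contra hcon
    have hq3 : q = 3 := by omega
    subst hq3
    obtain ⟨n, hpr, hn3⟩ := FiniteField.card E p
    rw [hE] at hn3
    have h1 : p ∣ 3 ^ 2 := by
      rw [hn3]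
      exact dvd_pow_self p n.ne_zero
    exact hp3 ((Nat.prime_dvd_prime_iff_eq hpr Nat.prime_three).1 (hpr.dvd_of_dvd_pow h1))
  have hn12 : Fintype.card ι ≤ 12 := by omega
  obtain ⟨D0⟩ := core_model p hC hq hE Φ hn12
  obtain ⟨V, c, hc, hsing, hgram, hact⟩ := SUn.rat_model p hC hsd hq4 hE hn12 D0 hQ hfix
  obtain ⟨e₂, e₃, hfr⟩ := exists_fr hE D0.iso D0.ne
  have h3 : e₃ ≠ 0 := by
    rintro rfl
    have := hfr.h13
    rw [Cfsg.Agent.LieClassical.HermBasic.herm_zero_right hE] at this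
    exact zero_ne_one this
  have hspan : Submodule.span F (Set.range V) = ⊤ := by
    rcases hC.absIrred.1 (Submodule.span F (Set.range V)) (by
      rintro s ⟨g, hg, rfl⟩ _ ⟨v, hv, rfl⟩
      rw [SetLike.mem_coe, ← D0.range_rep] at hg
      obtain ⟨g, rfl⟩ := hg
      rw [Matrix.toLin'_apply]
      induction hv using Submodule.span_induction with
      | mem x hx =>
        obtain ⟨w, rfl⟩ := hx
        change (D0.rep g : Matrix ι ι F) *ᵥ V w ∈ _
        rw [hact]
        exact Submodule.subset_span ⟨_, rfl⟩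
      | zero => rw [Matrix.mulVec_zero]; exact Submodule.zero_mem _
      | add x y _ _ hx hy => rw [Matrix.mulVec_add]; exact Submodule.add_mem _ hx hy
      | smul a x _ hx => rw [Matrix.mulVec_smul]; exact Submodule.smul_mem _ _ hx) with h1 | h1
    · exfalso
      have h2 : V ⟨e₃, hfr.h33, h3⟩ = 0 := by
        have : V ⟨e₃, hfr.h33, h3⟩ ∈ Submodule.span F (Set.range V) := Submodule.subset_span ⟨_, rfl⟩
        rw [h1, Submodule.mem_bot] at this
        exact this
      have h4 := hgram ⟨D0.e₀, D0.iso, D0.ne⟩ ⟨e₃, hfr.h33, h3⟩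
      have h5 : polar Qf (V ⟨D0.e₀, D0.iso, D0.ne⟩) 0 = 0 := by
        have := hQ.polar_bilinear.smul_right 0 (V ⟨D0.e₀, D0.iso, D0.ne⟩) 0
        rw [zero_smul, zero_mul] at this
        exact this
      rw [h2, h5, map_zero] at h4
      change 0 = algebraMap F (AlgebraicClosure F) c * D0.j (hermForm 3 E q e₃ D0.e₀) ^ (1 + q) at h4
      rw [hfr.h31 hE, map_one, one_pow, mul_one] at h4
      exact hc ((map_eq_zero _).1 h4.symm)
    · exact h1
  have hcard := card_psu3_sd p hC hsd hq hE Φ hn12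
  have D : SUn.Dat D0.rep Qf V c (algebraMap F (AlgebraicClosure F)) D0.j :=
    { hE := hE
      rat := by
        intro x hx
        have : Fintype F := Fintype.ofFinite F
        rw [Nat.card_eq_fintype_card] at hcard
        exact exists_alg _ (by rw [hcard]; exact hx)
      hQ := hQ
      hc := hc
      sing := hsing
      gram := by
        intro u w
        rw [hgram, pow_add, pow_one, map_mul, map_pow]
      actV := hact
      sep := by
        intro x hx
        by_contra hx0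
        obtain ⟨-, y, hy⟩ := hQ.nondegenerate x hx0
        apply hy
        have hyV : y ∈ Submodule.span F (Set.range V) := by rw [hspan]; trivial
        clear hy
        induction hyV using Submodule.span_induction with
        | mem y hy =>
          obtain ⟨w, rfl⟩ := hy
          exact hx w
        | zero =>
          have := hQ.polar_bilinear.smul_right 0 x 0
          rw [zero_smul, zero_mul] at this
          exact this
        | add y y' _ _ hy hy' => rw [hQ.polar_bilinear.add_right, hy, hy', add_zero]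
        | smul a y _ hy => rw [hQ.polar_bilinear.smul_right, hy, mul_zero]
      fix := fun g x => hfix _ ⟨D0.rep g, D0.range_rep.le ⟨g, rfl⟩, rfl⟩ x }
  exact SUn.adj_su D hfr D0.ne h m hn (p := p) hp3 hq D0.range_rep hP

end Cfsg.Agent.H682.EP
end

private theorem dce_ca61ff6eefa0 : _root_.True := by
  try have : _root_.True := by simp only [_root_.Cfsg.Agent.H682.EP.sg.congr_simp]
  try have : _root_.True := by simp only [_root_.Cfsg.Agent.H682.EP.SUn.torMat.eq_1]
  try have : _root_.True := by simp only [_root_.Cfsg.Agent.H682.EP.SUn.Dat.T.congr_simp]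
  try have : _root_.True := by simp only [_root_.Cfsg.Agent.H682.EP.SUn.tor.congr_simp]
  exact _root_.True.intro
end

-- part: H855/EP/LeftFin
section
prune_inst 0x102045001400120000000012000020044800000000200000c9800b000200e122090021000c0010000008200000000000000000904000000000000400000100208080500413000104060089800000000000000000000000000000000000000004000000000
set_option linter.all false
open scoped Cfsg.Agent.FastGrp

-- part: H270/EP/Ree
section
/-!
# S3499, dimension at least 13, own characteristic: Ree groups (helper270)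
-/

set_option autoImplicit false
set_option linter.unusedSectionVars false

namespace Cfsg.Agent.H270.EP

open Matrix
open Cfsg Cfsg.Geo Cfsg.Lie Cfsg.Agent.ChevalleyStructure.Ree Cfsg.Agent.ChevalleyStructure.Ree.Words
  Cfsg.Agent.ChevalleyStructure.Ree.Gens Cfsg.Agent.ChevalleyStructure.Ree.Normal
  Cfsg.Agent.ChevalleyStructure.Ree.Bruhat Cfsg.Agent.ChevalleyStructure.Ree.Blocks
  Cfsg.Agent.LieRecognition.ReeSylowThree Cfsg.Agent.FixBN.ReeSplit Cfsg.Agent.H905.Md Cfsg.Agent.H915.LD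
  Cfsg.Agent.H911 Cfsg.Agent.H100.Ppd Cfsg.Agent.H141.ReeK Cfsg.Agent.H909.Ppd Cfsg.Agent.H909.ReeKer
  Cfsg.Agent.H419.EP

universe u v

section

variable {ι : Type} [Fintype ι] [DecidableEq ι] {F : Type u} [Field F] [Finite F] {P : Subgroup (GL ι F)}

/-- **Ree groups in characteristic three: the degree.** -/
theorem ree_deg [CharP F 3] (hC : Core P) {K : Type v} [Field K] [Fintype K] {l : ℕ} (hl : 1 ≤ l)
    (hK : Fintype.card K = 3 ^ (2 * l + 1)) (e : Soc P ≃* ↥(twistedG2 K (3 ^ l))) :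
    ∃ s, Nat.card F ^ s = 3 ^ (2 * l + 1) ∧ (s = 1 ∨ (3 ≤ s ∧ (4 ^ s ≤ Fintype.card ι ∨
      3 ^ s - 2 ≤ Fintype.card ι))) := by
  classical
  have h3p : Fact (Nat.Prime 3) := ⟨Nat.prime_three⟩
  have hk : CharP (AlgebraicClosure F) 3 :=
    charP_of_injective_ringHom (algebraMap F (AlgebraicClosure F)).injective 3
  obtain ⟨s, hs, hFs⟩ := card_pow_eq (F := F) 3 (a := 2 * l + 1) (by omega)
    (pow_eq_of_no_subfield hC.absIrred hC.no_subfield 3 _ fun g hg => by
      rw [← hK]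
      exact (ree_both hC.absIrred hC.perfect hl hK e hg).1)
  refine ⟨s, hFs, ?_⟩
  have hF := Fintype.ofFinite F
  obtain ⟨f, hf0, hf⟩ := FiniteField.card F 3
  have hF3 : Nat.card F = 3 ^ (f : ℕ) := by rw [Nat.card_eq_fintype_card, hf]
  have hfs : (f : ℕ) * s = 2 * l + 1 := by
    rw [hF3, ← pow_mul] at hFs
    exact Nat.pow_right_injective (show 2 ≤ 3 by norm_num) hFs
  by_cases hs1 : s = 1
  · exact Or.inl hs1
  right
  have hs3 : 3 ≤ s := by
    have hodd : Odd (f * s : ℕ) := ⟨l, by rw [hfs]⟩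
    have := (Nat.odd_mul.1 hodd).2
    obtain ⟨b, hb⟩ := this
    omega
  refine ⟨hs3, ?_⟩
  obtain ⟨θ, c⟩ := exists_ctx hK
  obtain ⟨j⟩ := H141.ReeK.exists_emb F hK
  obtain ⟨φ, v, ψ, r, hφ, hinj, hr1, hr2, hψv, hU, hT, hψU, hψn, -, hker⟩ := core_coef hC hl hK e c j
  have hv : v ≠ 0 := by
    rintro rfl
    rw [map_zero] at hψv
    exact zero_ne_one hψv
  have hper := period hC hK c j hφ hv hU hT
  have hq3 : 3 ^ 1 ≤ 3 ^ (f : ℕ) := Nat.pow_le_pow_right (by norm_num) f.pos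
  have hGm := Gm_mul f s
  rw [hfs] at hGm
  obtain ⟨t, ht⟩ : Gm f s ∣ r := by
    rw [hK, hF3] at hper
    have h1 : 3 ^ (2 * l + 1) - 1 = Gm f s * (3 ^ (f : ℕ) - 1) := by omega
    rw [h1] at hper
    exact Nat.dvd_of_mul_dvd_mul_right (by omega) hper
  have ht1 : 1 ≤ t := by
    rcases Nat.eq_zero_or_pos t with rfl | h1
    · rw [mul_zero] at ht; omega
    · exact h1
  have ht2 : t ≤ 3 ^ (f : ℕ) - 1 := by
    have h1 : Gm f s * t ≤ Gm f s * (3 ^ (f : ℕ) - 1) := by
      rw [← ht]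
      rw [hK] at hr2
      omega
    exact Nat.le_of_mul_le_mul_left h1 (Gm_pos (by omega))
  rw [mul_comm] at ht
  have hfr : Module.finrank (AlgebraicClosure F) (ι → AlgebraicClosure F) = Fintype.card ι :=
    Module.finrank_fintype_fun_eq_card _
  rcases per_le (V := ι → AlgebraicClosure F) j hl hK hfs ht1 ht2
    (f := fun t u w => ψ.comp (lin (acRep φ) (Data.U K (3 ^ l) t u w)))
    (w := fun t u w => lin (acRep φ) (Data.N c * Data.U K (3 ^ l) t u w * Data.N c) v)
    (by rw [← ht]; exact hker) with h4 | h4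
  · rw [hfr] at h4
    exact Or.inl h4
  · right
    rw [hfr, hK, ← hfs] at h4
    have h6 : 3 ^ s ≤ 3 ^ ((f : ℕ) * s) := Nat.pow_le_pow_right (by norm_num) (Nat.le_mul_of_pos_left _ f.pos)
    omega

end

section ownree

variable {Q : Type} [Group Q] [Finite Q] {A : Subgroup Q} {Γ : Subgroup (MulAut Q)} {ι : Type} [Fintype ι]
    [DecidableEq ι] {F : Type} [Field F] [Fintype F] {S P : Subgroup (GL ι F)}

/-- `|Aut Ree(K)| ≤ |K| ^ 8` -/
theorem ree_aut {X : Type u} [Group X] (hna : ¬ IsMulCommutative X) (hX : IsSimpleGroup X) {K : Type v} [Field K]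
    [Fintype K] {l : ℕ} (hl : 1 ≤ l) (hK : Fintype.card K = 3 ^ (2 * l + 1)) (e : X ≃* ↥(twistedG2 K (3 ^ l))) :
    Nat.card (MulAut X) ≤ (3 ^ (2 * l + 1)) ^ 8 := by
  have h1 := Cfsg.Agent.LieRecognition.ReeFinal.card hK
  have hs : IsSimpleGroup ↥(twistedG2 K (3 ^ l)) := e.symm.isSimpleGroup
  have hq3 : 3 ≤ 3 ^ (2 * l + 1) := by
    calc 3 = 3 ^ 1 := rfl
      _ ≤ _ := Nat.pow_le_pow_right (by norm_num) (by omega)
  have hfin : Finite ↥(twistedG2 K (3 ^ l)) := Nat.finite_of_card_ne_zero (by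
    rw [h1]
    have h3 : 3 ^ (2 * l + 1) - 1 ≠ 0 := by omega
    (clear * - h3; positivity))
  rw [card_aut hna e, S2127.result hl hK, h1]
  obtain ⟨q, hq⟩ : ∃ q, q = 3 ^ (2 * l + 1) := ⟨_, rfl⟩
  have h2 : 2 * l + 1 ≤ q := by rw [hq]; exact (Nat.lt_pow_self (by norm_num)).le
  rw [← hq] at hq3 ⊢
  have h3 : (q - 1) * (q ^ 3 + 1) ≤ q ^ 4 := by
    obtain ⟨c, rfl⟩ : ∃ c, q = c + 1 := ⟨q - 1, by omega⟩
    rw [Nat.add_sub_cancel]
    have : (c + 1) ^ 4 = c * ((c + 1) ^ 3 + 1) + (c + 1) ^ 3 - c := by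
      have h4 : c ≤ (c + 1) ^ 3 := (Nat.le_succ c).trans (Nat.le_self_pow (by norm_num) _)
      have h5 : (c + 1) ^ 4 + c = c * ((c + 1) ^ 3 + 1) + (c + 1) ^ 3 := by ring
      omega
    have h4 : c ≤ (c + 1) ^ 3 := (Nat.le_succ c).trans (Nat.le_self_pow (by norm_num) _)
    omega
  calc (2 * l + 1) * (q ^ 3 * (q - 1) * (q ^ 3 + 1)) = (2 * l + 1) * (q ^ 3 * ((q - 1) * (q ^ 3 + 1))) := by ring
    _ ≤ q * (q ^ 3 * q ^ 4) := Nat.mul_le_mul h2 (Nat.mul_le_mul_left _ h3)
    _ = q ^ 8 := by ring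

end ownree

end Cfsg.Agent.H270.EP
end

-- part: H752/EP/Ree
section
/-!
# S3499, dimension at least 13: Ree groups in their own characteristic (helper752)

`card_le_ree`: `|Q| ≤ |A|^6`; `own_ree` : Ree groups do not occur.
-/

set_option autoImplicit false
set_option linter.unusedSectionVars false

namespace Cfsg.Agent.H752.EP

open Cfsg Matrix Subgroup Cfsg.Agent.H284 Cfsg.Agent.H59.EP Cfsg.Agent.H12.EP.BT Cfsg.Agent.H419.EP
open Cfsg.Geo Cfsg.Agent.H915.LD

universe u

/-- **The order bound**, any exponent -/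
theorem le_of_big' {Q : Type} [Group Q] [Finite Q] {A : Subgroup Q} {Γ : Subgroup (MulAut Q)} {ι : Type} [Fintype ι]
    [DecidableEq ι] {F : Type} [Field F] [Fintype F] {S P : Subgroup (GL ι F)} (b : Big A Γ S P) {c : ℕ}
    (hUB : Nat.card Q ≤ Nat.card A ^ c) {C : ℕ} (hA : Nat.card (MulAut (socle P)) ^ c ≤ Fintype.card F ^ C) :
    Fintype.card ι * (Fintype.card ι - 1) / 2 ≤ C + 3 := by
  have := H270.EP.finite_socle P
  have hF : 2 ≤ Fintype.card F := b.two_le
  have h1 : Nat.card A ^ c ≤ Fintype.card F ^ C := (Nat.pow_le_pow_left b.hasSoc.card_le c).trans hA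
  have h2 : Fintype.card F ^ (Fintype.card ι * (Fintype.card ι - 1) / 2) ≤ Fintype.card F ^ (C + 3) := by
    calc Fintype.card F ^ (Fintype.card ι * (Fintype.card ι - 1) / 2) ≤ 8 * Nat.card Q := b.ord
      _ ≤ Fintype.card F ^ 3 * Fintype.card F ^ C := Nat.mul_le_mul
          (by have := Nat.pow_le_pow_left hF 3; omega) (hUB.trans h1)
      _ = _ := by rw [← pow_add, add_comm]
  exact (Nat.pow_le_pow_iff_right (by omega)).1 h2

section ree

variable {K : Type} [Field K] [Fintype K] {l : ℕ}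

theorem ree_two (l : ℕ) : ¬ 2 ^ 4 ∣ (2 * l + 1) * ((3 ^ (2 * l + 1)) ^ 3 * (3 ^ (2 * l + 1) - 1) * ((3 ^ (2 * l + 1)) ^ 3 + 1)) := by
  have h1 : 3 ^ (2 * l + 1) % 8 = 3 := by
    induction l with
    | zero => norm_num
    | succ l ih =>
      rw [show 2 * (l + 1) + 1 = (2 * l + 1) + 2 by ring, pow_add, Nat.mul_mod, ih]
      norm_num
  obtain ⟨t, ht⟩ : ∃ t, 3 ^ (2 * l + 1) = 8 * t + 3 := ⟨3 ^ (2 * l + 1) / 8, by omega⟩
  rw [ht]
  have h2 : (2 * l + 1) * ((8 * t + 3) ^ 3 * (8 * t + 3 - 1) * ((8 * t + 3) ^ 3 + 1)) =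
      8 * ((2 * l + 1) * ((8 * t + 3) ^ 3 * (4 * t + 1) * (128 * t ^ 3 + 144 * t ^ 2 + 54 * t + 7))) := by
    have h3 : 8 * t + 3 - 1 = 2 * (4 * t + 1) := by (clear * -; omega)
    rw [h3]
    ring
  rw [h2, show (2 : ℕ) ^ 4 = 8 * 2 by norm_num, Nat.mul_dvd_mul_iff_left (by norm_num)]
  intro h
  have h4 : Even ((2 * l + 1) * ((8 * t + 3) ^ 3 * (4 * t + 1) * (128 * t ^ 3 + 144 * t ^ 2 + 54 * t + 7))) :=
    even_iff_two_dvd.2 h
  rw [← Nat.not_odd_iff_even] at h4
  apply h4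
  refine Odd.mul ⟨l, rfl⟩ (Odd.mul (Odd.mul (Odd.pow ⟨4 * t + 1, by ring⟩) ⟨2 * t, by ring⟩)
    ⟨64 * t ^ 3 + 72 * t ^ 2 + 27 * t + 3, by ring⟩)

theorem srank_ree (hl : 1 ≤ l) (hK : Fintype.card K = 3 ^ (2 * l + 1)) {s : ℕ} (hs : s.Prime) (h5 : 5 ≤ s) :
    SRank (MulAut ↥(Lie.twistedG2 K (3 ^ l))) s 2 := by
  have : Fact s.Prime := ⟨hs⟩
  have hcyc : IsCyclic (K ≃+* K) := LieRecognition.FieldSemilinear.isCyclic_ringAut K
  have hsim : IsSimpleGroup ↥(Lie.twistedG2 K (3 ^ l)) := (Cfsg.Agent.S1073.result hl hK).1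
  have hfin : Finite ↥(Lie.twistedG2 K (3 ^ l)) := inferInstance
  have hD := H28.T5RankOne.ree_data hl hK (p := s) h5
  have := H240.GenTwF.cyclic_out _ hD.aut
  exact srank_aut hD.center this hs.pos (srank_cyc hD.cyc)

theorem srank_ree_aut (hl : 1 ≤ l) (hK : Fintype.card K = 3 ^ (2 * l + 1)) {s : ℕ} (hs : s.Prime) (h3 : s ≠ 3) :
    SRank (MulAut ↥(Lie.twistedG2 K (3 ^ l))) s 3 := by
  by_cases h2 : s = 2
  · subst h2
    have hsim : IsSimpleGroup ↥(Lie.twistedG2 K (3 ^ l)) := (Cfsg.Agent.S1073.result hl hK).1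
    have hfin : Finite ↥(Lie.twistedG2 K (3 ^ l)) := inferInstance
    have hfinA : Finite (MulAut ↥(Lie.twistedG2 K (3 ^ l))) :=
      Finite.of_injective (fun a : MulAut ↥(Lie.twistedG2 K (3 ^ l)) => (a : _ → _)) DFunLike.coe_injective
    apply srank_of_not_dvd Nat.prime_two
    rw [H270.EP.card_aut (H28.T5RankOne.ree_na hl hK) (MulEquiv.refl ↥(Lie.twistedG2 K (3 ^ l))), S2127.result hl hK,
      Cfsg.Agent.LieRecognition.ReeFinal.card hK]
    exact ree_two l
  · have h5 : 5 ≤ s := by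
      have h4 := hs.two_le
      have h6 : s ≠ 4 := by
        rintro rfl
        exact absurd hs (by norm_num)
      omega
    exact (srank_ree hl hK hs h5).mono hs.pos (by norm_num)

end ree

/-- `|Q| ≤ |A| ^ 6` -/
theorem card_le_ree {Q : Type u} [Group Q] [Finite Q] {A : Subgroup Q} {Γ : Subgroup (MulAut Q)}
    (hs : IsSimpleGroup Q) (h : EPT A Γ) (hg : TwoGen.{u}) {K : Type} [Field K] [Fintype K] {l : ℕ} (hl : 1 ≤ l)
    (hK : Fintype.card K = 3 ^ (2 * l + 1)) (hsoc : HasSoc A ↥(Lie.twistedG2 K (3 ^ l))) :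
    Nat.card Q ≤ Nat.card A ^ 6 := by
  have h3p : Fact (Nat.Prime 3) := ⟨Nat.prime_three⟩
  have hsim : IsSimpleGroup ↥(Lie.twistedG2 K (3 ^ l)) := (Cfsg.Agent.S1073.result hl hK).1
  have hfin : Finite ↥(Lie.twistedG2 K (3 ^ l)) := inferInstance
  have hcyc : IsCyclic (K ≃+* K) := LieRecognition.FieldSemilinear.isCyclic_ringAut K
  have h5p : Fact (Nat.Prime 5) := ⟨by norm_num⟩
  have hout := H240.GenTwF.cyclic_out _ (H28.T5RankOne.ree_data hl hK (p := 5) (by norm_num)).aut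
  obtain ⟨N, hS, ⟨e⟩⟩ := lieSoc_of_ti (p := 3) hsoc hsim
    (fun h => H28.T5RankOne.ree_na hl hK ⟨⟨h⟩⟩) (H210.Loc.ti_ree ⟨K, _, _, l, hl, hK, ⟨MulEquiv.refl _⟩⟩) (by
      rw [Cfsg.Agent.LieRecognition.ReeFinal.card hK]
      exact ((dvd_pow (dvd_pow_self 3 (by omega)) (by norm_num)).mul_right _).mul_right _)
  exact card_le_rank hs h hg hS (hout_of_cyc hS e hout) (k := 3) (by norm_num)
    (fun s hs hs3 => (srank_ree_aut hl hK hs hs3).of_hasSoc hsoc)
    (fun s hs hs5 => ((srank_ree hl hK hs hs5).of_hasSoc hsoc).mono hs.pos (by norm_num))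

/-- **Ree groups, own characteristic, dimension at least 13.** -/
theorem own_ree {Q : Type} [Group Q] [Finite Q] {A : Subgroup Q} {Γ : Subgroup (MulAut Q)} {ι : Type} [Fintype ι]
    [DecidableEq ι] {F : Type} [Field F] [Fintype F] {S P : Subgroup (GL ι F)} (b : Big A Γ S P) (hg : TwoGen.{0})
    (hc : ringChar F = 3) (h : Lie.IsoRee (socle P)) : False := by
  obtain ⟨K, _, _, l, hl, hK, ⟨e⟩⟩ := h
  have := H270.EP.charP_of_ringChar hc
  have hUB : Nat.card Q ≤ Nat.card A ^ 6 := card_le_ree b.simple b.ept hg hl hK (b.hasSoc' e)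
  obtain ⟨s, hFs, h4⟩ := H270.EP.ree_deg (core_of_residual b.core) hl hK e
  have h1 := H270.EP.ree_aut b.core.nonabelian b.core.simple hl hK e
  have h2 : Nat.card (MulAut (socle P)) ^ 6 ≤ Fintype.card F ^ (48 * s) := by
    calc Nat.card (MulAut (socle P)) ^ 6 ≤ ((3 ^ (2 * l + 1)) ^ 8) ^ 6 := Nat.pow_le_pow_left h1 6
      _ = Fintype.card F ^ (48 * s) := by
        rw [← hFs, Nat.card_eq_fintype_card, ← pow_mul, ← pow_mul]
        congr 1
        ring
  have h3 := le_of_big' b hUB h2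
  have h13 := b.thirteen
  rcases h4 with rfl | ⟨hs3, h4⟩
  · have := H270.EP.tri_mono h13
    norm_num only [] at this
    omega
  · have h8 : ∀ s : ℕ, 3 ≤ s → 8 * s + 1 ≤ 3 ^ s - 2 := by
      intro s hs
      have : 8 * s + 3 ≤ 3 ^ s := by
        induction s, hs using Nat.le_induction with
        | base => norm_num
        | succ s hs ih => rw [pow_succ]; omega
      omega
    have h9 : 8 * s + 1 ≤ Fintype.card ι := by
      have := h8 s hs3
      have h10 : 3 ^ s ≤ 4 ^ s := Nat.pow_le_pow_left (by norm_num) s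
      omega
    have h5 := H270.EP.tri_mono h9
    have h6 : (8 * s + 1) * (8 * s + 1 - 1) / 2 = (8 * s + 1) * (4 * s) := by
      rw [Nat.add_sub_cancel, show (8 * s + 1) * (8 * s) = 2 * ((8 * s + 1) * (4 * s)) by ring]
      exact Nat.mul_div_cancel_left _ (by norm_num)
    rw [h6] at h5
    obtain ⟨t, rfl⟩ : ∃ t, s = t + 3 := ⟨s - 3, by omega⟩
    nlinarith only [h3, h5]

end Cfsg.Agent.H752.EP
end

-- part: H752/EP/Sz
section
/-!
# S3499, dimension at least 13: Suzuki groups in characteristic two (helper752)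

`card_le_sz`: `|Q| ≤ |A|^5`; `own_sz` : Suzuki groups do not occur.
-/

set_option autoImplicit false
set_option linter.unusedSectionVars false

namespace Cfsg.Agent.H752.EP

open Cfsg Matrix Subgroup Cfsg.Agent.H284 Cfsg.Agent.H59.EP Cfsg.Agent.H12.EP.BT Cfsg.Agent.H419.EP
open Cfsg.Geo Cfsg.Agent.H915.LD

universe u

theorem srank_sz {K : Type} [Field K] [Fintype K] {l : ℕ} (hl : 1 ≤ l) (hK : Fintype.card K = 2 ^ (2 * l + 1)) {s : ℕ}
    (hs : s.Prime) (h2 : s ≠ 2) : SRank (MulAut ↥(Lie.Sz K (2 ^ (l + 1)))) s 2 := by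
  have : Fact s.Prime := ⟨hs⟩
  have hcyc : IsCyclic (K ≃+* K) := LieRecognition.FieldSemilinear.isCyclic_ringAut K
  have hsim : IsSimpleGroup ↥(Lie.Sz K (2 ^ (l + 1))) := Cfsg.Agent.S1162.result hl hK
  have hfin : Finite ↥(Lie.Sz K (2 ^ (l + 1))) := inferInstance
  have hD := H28.T5RankOne.sz_data hl hK (p := s) h2
  have := H240.GenTwF.cyclic_out _ hD.aut
  exact srank_aut hD.center this hs.pos (srank_cyc hD.cyc)

/-- `|Q| ≤ |A| ^ 5` -/
theorem card_le_sz {Q : Type u} [Group Q] [Finite Q] {A : Subgroup Q} {Γ : Subgroup (MulAut Q)}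
    (hs : IsSimpleGroup Q) (h : EPT A Γ) (hg : TwoGen.{u}) {K : Type} [Field K] [Fintype K] {l : ℕ} (hl : 1 ≤ l)
    (hK : Fintype.card K = 2 ^ (2 * l + 1)) (hsoc : HasSoc A ↥(Lie.Sz K (2 ^ (l + 1)))) :
    Nat.card Q ≤ Nat.card A ^ 5 := by
  have h2p : Fact (Nat.Prime 2) := ⟨Nat.prime_two⟩
  have hsim : IsSimpleGroup ↥(Lie.Sz K (2 ^ (l + 1))) := Cfsg.Agent.S1162.result hl hK
  have hfin : Finite ↥(Lie.Sz K (2 ^ (l + 1))) := inferInstance
  have hcyc : IsCyclic (K ≃+* K) := LieRecognition.FieldSemilinear.isCyclic_ringAut K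
  have h5p : Fact (Nat.Prime 5) := ⟨by norm_num⟩
  have hout := H240.GenTwF.cyclic_out _ (H28.T5RankOne.sz_data hl hK (p := 5) (by norm_num)).aut
  obtain ⟨N, hS, ⟨e⟩⟩ := lieSoc_of_ti (p := 2) hsoc hsim
    (fun h => H28.T5RankOne.sz_na hl hK ⟨⟨h⟩⟩) (H210.Loc.ti_suzuki ⟨K, _, _, l, hl, hK, ⟨MulEquiv.refl _⟩⟩) (by
      rw [(Cfsg.Agent.S1163.result hl hK).1]
      exact ((dvd_pow (dvd_pow_self 2 (by omega)) (by norm_num)).mul_right _).mul_right _)
  exact card_le_rank hs h hg hS (hout_of_cyc hS e hout) (k := 2) le_rfl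
    (fun s hs hs2 => (srank_sz hl hK hs hs2).of_hasSoc hsoc)
    (fun s hs hs5 => ((srank_sz hl hK hs (by omega)).of_hasSoc hsoc).mono hs.pos (by norm_num))

/-- **Suzuki groups, own characteristic, dimension at least 13.** -/
theorem own_sz {Q : Type} [Group Q] [Finite Q] {A : Subgroup Q} {Γ : Subgroup (MulAut Q)} {ι : Type} [Fintype ι]
    [DecidableEq ι] {F : Type} [Field F] [Fintype F] {S P : Subgroup (GL ι F)} (b : Big A Γ S P) (hg : TwoGen.{0})
    (hc : ringChar F = 2) (h : Lie.IsoSuzuki (socle P)) : False := by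
  obtain ⟨K, _, _, l, hl, hK, ⟨e⟩⟩ := id h
  exact H270.EP.own_sz (c := 5) b (by norm_num) (card_le_sz b.simple b.ept hg hl hK (b.hasSoc' e)) hc h

end Cfsg.Agent.H752.EP
end

-- part: H855/EP/LeftExc
section
/-!
# S3499, assembly: the remaining own characteristic rows of exceptional Lie type (helper855, task 6287)

* `TwFKill` : `Big A Γ S P`, `char F = 2`, `socle P ≅ ²F₄(q)`, `q ≥ 8`: impossible (helper564);
* `leftKill_of` : `LeftKill` from `TwFKill` (over the field with two elements: helper241; `Sz`, `²G₂`: helper752);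
* `bigOf_exceptional_of_twF` : `BigOf IsExceptionalLieType` from `TwFKill`.
-/

set_option autoImplicit false

namespace Cfsg.Agent.H855.EP

open Subgroup Cfsg.Agent.H284 Cfsg.Agent.H419.EP

/-- the row `²F₄(q)` -/
def TwFKill : Prop := ∀ {Q : Type} [Group Q] [Finite Q] {A : Subgroup Q}
    {Γ : Subgroup (MulAut Q)} {ι : Type} [Fintype ι] [DecidableEq ι] {F : Type} [Field F] [Fintype F]
    {S P : Subgroup (GL ι F)}, Big A Γ S P → ringChar F = 2 → Cfsg.Lie.Iso2F4 (socle P) → False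

/-- **The remaining own characteristic rows.** -/
theorem leftKill_of (hg : Cfsg.Agent.H59.EP.TwoGen.{0}) (tf : TwFKill) : LeftKill := by
  intro Q _ _ A Γ ι _ _ F _ _ S P b K _ _ hc h
  rcases h with ⟨hK, e⟩ | ⟨hK, e⟩ | ⟨hK, e⟩ | ⟨hK, e⟩ | ⟨hK, e⟩ | ⟨hK, e⟩ | ⟨l, hl, hK, e⟩ | ⟨l, hl, hK, e⟩ |
    ⟨l, hl, hK, e⟩
  · exact Cfsg.Agent.H241.Own.two_f4 b hg hK hc e
  · exact Cfsg.Agent.H241.Own.two_e6 b hg hK hc e
  · exact Cfsg.Agent.H241.Own.two_e7 b hg hK hc e
  · exact Cfsg.Agent.H241.Own.two_e8 b hg hK hc e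
  · exact Cfsg.Agent.H241.Own.two_2e6 b hg hK hc e
  · exact Cfsg.Agent.H241.Own.two_3d4 b hg hK hc e
  · exact Cfsg.Agent.H752.EP.own_sz b hg (hc.trans (ringChar_of_card Nat.prime_two hK)) ⟨K, _, _, l, hl, hK, e⟩
  · exact Cfsg.Agent.H752.EP.own_ree b hg (hc.trans (ringChar_of_card Nat.prime_three hK)) ⟨K, _, _, l, hl, hK, e⟩
  · exact tf b (hc.trans (ringChar_of_card Nat.prime_two hK)) ⟨K, _, _, l, hl, hK, e⟩

end Cfsg.Agent.H855.EP
end

-- part: H270/EPU/Par
section
/-!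
# Canonical parabolic subgroups, rank two, without root groups (helper270)

`exists_pars` : a finite simple group acting on a thick building of rank two with a system of Sylow `p`-groups
(`FixBN.Sys`) has the canonical parabolic subgroups `H12.EP.BT.Pars p`.
-/

set_option autoImplicit false
set_option linter.unusedSectionVars false

open scoped Pointwise

namespace Cfsg.Agent.H270.EPU

open Cfsg.Agent.Tits.Core Cfsg.Agent.Tits.Core.Bldg Cfsg.Agent.Tits.Exchange Cfsg.Agent.Tits Cfsg.Agent.FixBN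
open Subgroup

section core

variable {G : Type*} [Group G] (p : ℕ)

/-- the largest normal `p`-subgroup of a subgroup -/
noncomputable def OO (H : Subgroup G) : Subgroup G := (Cfsg.pCore p H).map H.subtype

variable {p}

theorem OO_isPGroup [Finite G] [Fact p.Prime] (H : Subgroup G) : IsPGroup p (OO p H) :=
  (Cfsg.Agent.Lib.Cores.pCore_isPGroup p).map _

theorem le_OO [Finite G] [Fact p.Prime] {H V : Subgroup G} (hVH : V ≤ H) (hV : IsPGroup p V)
    (hn : ∀ h ∈ H, ∀ v ∈ V, h * v * h⁻¹ ∈ V) : V ≤ OO p H := by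
  have h2 : (V.subgroupOf H).Normal := ⟨fun n hn' g => hn g g.2 n hn'⟩
  have h3 : V.subgroupOf H ≤ Cfsg.pCore p H := Cfsg.Agent.Lib.Cores.le_pCore h2 hV.comap_subtype
  intro x hx
  exact ⟨⟨x, hVH hx⟩, h3 hx, rfl⟩

theorem conj_OO {H : Subgroup G} : ∀ h ∈ H, ∀ v ∈ OO p H, h * v * h⁻¹ ∈ OO p H := by
  rintro h hh _ ⟨x, hx, rfl⟩
  have hnn : (Cfsg.pCore p H).Normal := Cfsg.Agent.Lib.Cores.pCore_normal_inst p
  exact ⟨_, hnn.conj_mem x hx ⟨h, hh⟩, rfl⟩

theorem le_normalizer_OO (H : Subgroup G) : H ≤ normalizer (OO p H : Set G) := by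
  intro h hh
  rw [mem_normalizer_iff]
  intro x
  refine ⟨conj_OO h hh x, fun h1 => ?_⟩
  have h2 := conj_OO h⁻¹ (H.inv_mem hh) _ h1
  have e : h⁻¹ * (h * x * h⁻¹) * h⁻¹⁻¹ = x := by group
  rwa [e] at h2

theorem map_OO [Finite G] {H : Subgroup G} {φ : MulAut G} (hφ : ∀ x ∈ H, φ x ∈ H) : ∀ x ∈ OO p H, φ x ∈ OO p H := by
  let f : H →* H := (φ.toMonoidHom.comp H.subtype).codRestrict H (fun y => hφ y y.2)
  have hf : Function.Injective f := by
    intro y z e
    have e' : φ y = φ z := Subtype.ext_iff.1 e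
    exact Subtype.ext (φ.injective e')
  let τ : MulAut H := MulEquiv.ofBijective f (Finite.injective_iff_bijective.1 hf)
  rintro _ ⟨x, hx, rfl⟩
  have hch : (Cfsg.pCore p H).Characteristic := Cfsg.Agent.Lib.Cores.pCore_characteristic p
  have h2 : τ x ∈ Cfsg.pCore p H := by
    have h3 := Subgroup.characteristic_iff_map_eq.1 hch τ
    rw [← h3]
    exact ⟨x, hx, rfl⟩
  exact ⟨τ x, h2, rfl⟩

/-- an automorphism fixing `V` fixes its normalizer -/
theorem map_normalizer [Finite G] {V : Subgroup G} {φ : MulAut G} (hφ : ∀ x ∈ V, φ x ∈ V) :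
    ∀ x ∈ normalizer (V : Set G), φ x ∈ normalizer (V : Set G) := by
  have hle : V.map φ.toMonoidHom ≤ V := by
    rintro _ ⟨x, hx, rfl⟩
    exact hφ x hx
  have heq : V.map φ.toMonoidHom = V := by
    apply Subgroup.eq_of_le_of_card_ge hle
    exact (Nat.card_congr (V.equivMapOfInjective φ.toMonoidHom φ.injective).toEquiv).le
  have key : ∀ x ∈ normalizer (V : Set G), ∀ v ∈ V, φ x * v * (φ x)⁻¹ ∈ V := by
    intro x hx v hv
    have h1 : v ∈ V.map φ.toMonoidHom := by rw [heq]; exact hv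
    obtain ⟨w, hw, rfl⟩ := h1
    have h2 : φ x * φ w * (φ x)⁻¹ = φ (x * w * x⁻¹) := by rw [map_mul, map_mul, map_inv]
    show φ x * φ w * (φ x)⁻¹ ∈ V
    rw [h2]
    exact hφ _ ((mem_normalizer_iff.1 hx w).1 hw)
  intro x hx
  rw [mem_normalizer_iff]
  intro v
  refine ⟨key x hx v, fun h1 => ?_⟩
  have h2 := key x⁻¹ (inv_mem hx) _ h1
  rw [map_inv] at h2
  have e : (φ x)⁻¹ * (φ x * v * (φ x)⁻¹) * (φ x)⁻¹⁻¹ = v := by group
  rwa [e] at h2

/-- **Radical `p`-subgroups.** A nontrivial `p`-subgroup `N₀` normalised by `K` has a radical overgroup `V` with `K` in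
its normalizer, invariant under the automorphisms fixing `K`. -/
theorem exists_radical [Finite G] [Fact p.Prime] {K N₀ : Subgroup G} (hN : N₀ ≤ K)
    (hn : ∀ k ∈ K, ∀ v ∈ N₀, k * v * k⁻¹ ∈ N₀) (hp : IsPGroup p N₀) (h1 : N₀ ≠ ⊥) :
    ∃ V : Subgroup G, IsPGroup p V ∧ V ≠ ⊥ ∧ K ≤ normalizer (V : Set G) ∧ OO p (normalizer (V : Set G)) = V ∧
      ∀ φ : MulAut G, (∀ k ∈ K, φ k ∈ K) → ∀ x ∈ V, φ x ∈ V := by
  classical
  set 𝒱 : Set (Subgroup G) := {V | IsPGroup p V ∧ V ≠ ⊥ ∧ K ≤ normalizer (V : Set G) ∧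
    ∀ φ : MulAut G, (∀ k ∈ K, φ k ∈ K) → ∀ x ∈ V, φ x ∈ V} with h𝒱
  have hne : 𝒱.Nonempty := by
    refine ⟨OO p K, OO_isPGroup K, fun h2 => h1 ?_, le_normalizer_OO K, fun φ hφ => map_OO hφ⟩
    rw [eq_bot_iff, ← h2]
    exact le_OO hN hp hn
  obtain ⟨V, ⟨hV1, hV2, hV3, hV4⟩, hmax⟩ := Set.exists_max_image 𝒱 (fun V => Nat.card V) (Set.toFinite _) hne
  have hle : V ≤ OO p (normalizer (V : Set G)) :=
    le_OO le_normalizer hV1 fun h hh v hv => (mem_normalizer_iff.1 hh v).1 hv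
  have hmem : OO p (normalizer (V : Set G)) ∈ 𝒱 := by
    refine ⟨OO_isPGroup _, fun h2 => hV2 ?_, hV3.trans (le_normalizer_OO _), fun φ hφ =>
      map_OO (map_normalizer (hV4 φ hφ))⟩
    rw [eq_bot_iff, ← h2]
    exact hle
  exact ⟨V, hV1, hV2, hV3, (Subgroup.eq_of_le_of_card_ge hle (hmax _ hmem)).symm, hV4⟩

/-- a radical subgroup inside a normalised `p`-subgroup -/
theorem eq_of_radical [Finite G] [Fact p.Prime] {V U : Subgroup G} (hV : OO p (normalizer (V : Set G)) = V)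
    (hU : IsPGroup p U) (hVU : V ≤ U) (hn : ∀ g ∈ normalizer (V : Set G), ∀ u ∈ U, g * u * g⁻¹ ∈ U) : V = U := by
  have h1 : normalizer (V : Set G) ⊓ U ≤ V := by
    conv_rhs => rw [← hV]
    refine le_OO inf_le_left (hU.to_le inf_le_right) fun h hh v hv => ?_
    exact mem_inf.2 ⟨mul_mem (mul_mem hh (mem_inf.1 hv).1) (inv_mem hh), hn h hh v (mem_inf.1 hv).2⟩
  by_contra hne
  have hlt : V.subgroupOf U < ⊤ := by
    rw [lt_top_iff_ne_top]
    intro h2
    rw [Subgroup.subgroupOf_eq_top] at h2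
    exact hne (le_antisymm hVU h2)
  have hnil : Group.IsNilpotent U := hU.isNilpotent
  have h3 := Group.normalizerCondition_of_isNilpotent (G := U) (V.subgroupOf U) hlt
  obtain ⟨u, hu1, hu2⟩ := SetLike.exists_of_lt h3
  apply hu2
  show (u : G) ∈ V
  apply h1
  refine mem_inf.2 ⟨?_, u.2⟩
  rw [mem_normalizer_iff]
  intro x
  constructor
  · intro hx
    exact (mem_normalizer_iff.1 hu1 ⟨x, hVU hx⟩).1 hx
  · intro hx
    have hxU : x ∈ U := by
      have h4 := mul_mem (mul_mem (inv_mem u.2) (hVU hx)) u.2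
      have e : (u : G)⁻¹ * (u * x * (u : G)⁻¹) * u = x := by group
      rwa [e] at h4
    exact (mem_normalizer_iff.1 hu1 ⟨x, hxU⟩).2 hx

end core

section sys

variable {M : CoxeterMatrix (Fin 2)} {W : Type*} [Group W] {cs : CoxeterSystem M W} {C : Type*} {Δ : Bldg cs C}
  [F : OppRes.Cox cs] {G : Type*} [Group G] [MulAction G C] {p : ℕ} (S : Sys Δ G p)

local prefix:100 "ℓ" => cs.length

include S

/-- **Borel–Tits, rank two.** -/
theorem bt {V : Subgroup G} (hV : IsPGroup p V) (h1 : V ≠ ⊥) :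
    (∃ x, V ≤ S.U x ∧ ∀ g ∈ normalizer (V : Set G), g • x = x) ∨
      (∃ x i, V ≤ S.UR (Δ.Pan i x) ∧ ∀ g ∈ normalizer (V : Set G), g • x ∈ Δ.Pan i x) := by
  set X : Set C := {x | ∀ v ∈ V, v • x = x} with hXdef
  have hX : Good Δ X := by
    refine ⟨S.conv_fix (V : Set G), fun x hx y hy hxy => ?_⟩
    apply h1
    rw [Subgroup.eq_bot_iff_forall]
    intro v hv
    exact S.free x y hxy v (S.mem_U_of_isPGroup hV hv (hx v hv)) (hy v hv)
  have hne : X.Nonempty := S.exists_fix V hV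
  have hpan : ∀ x ∈ X, ∀ y ∈ X, ∀ i, Δ.δ x y = cs.simple i → Δ.Pan i x ⊆ X := by
    intro x hx y hy i hi z hz v hv
    exact S.pan x y i hi v (S.mem_U_of_isPGroup hV hv (hx v hv)) (hy v hv) z hz
  have hN : ∀ g ∈ normalizer (V : Set G), ∀ a ∈ X, g • a ∈ X := by
    intro g hg a ha v hv
    have h2 := (mem_normalizer_iff''.1 hg v).1 hv
    have h3 := ha _ h2
    rw [mul_smul, mul_smul, inv_smul_eq_iff] at h3
    exact h3
  have hN' : ∀ g ∈ normalizer (V : Set G), ∀ a ∈ X, ∃ b ∈ X, g • b = a := fun g hg a ha =>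
    ⟨g⁻¹ • a, hN g⁻¹ (inv_mem hg) a ha, smul_inv_smul g a⟩
  rcases centre hX hne hpan with ⟨c, hc, h2⟩ | ⟨c, hc, i, hi, h2⟩
  · left
    exact ⟨c, S.max c V hV hc, fun g hg => h2 (fun a => g • a) (S.iso g) (hN g hg) (hN' g hg)⟩
  · right
    refine ⟨c, i, fun v hv y hy => S.mem_U_of_isPGroup hV hv (hi hy v hv), fun g hg =>
      h2 (fun a => g • a) (S.iso g) (hN g hg) (hN' g hg)⟩

/-- the radical subgroups -/
theorem radical_cases [Finite G] [Fact p.Prime] {V : Subgroup G} (hV : IsPGroup p V) (h1 : V ≠ ⊥)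
    (hr : OO p (normalizer (V : Set G)) = V) : (∃ x, V = S.U x) ∨ ∃ x i, V = S.UR (Δ.Pan i x) := by
  rcases bt S hV h1 with ⟨x, h2, h3⟩ | ⟨x, i, h2, h3⟩
  · left
    refine ⟨x, eq_of_radical hr (S.isP x) h2 fun g hg u hu => ?_⟩
    have h4 := S.conj_mem_U hu g
    rwa [h3 g hg] at h4
  · right
    refine ⟨x, i, eq_of_radical hr (S.UR_isP ⟨x, Δ.self_mem_Pan i x⟩) h2 fun g hg u hu => ?_⟩
    have h4 : g • Δ.Pan i x = Δ.Pan i x := by
      rw [Δ.Pan_eq_Res, S.smul_Res, ← Δ.Pan_eq_Res, ← Δ.Pan_eq_Res]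
      exact Δ.Pan_eq_of_mem (h3 g hg)
    have h5 := (S.conj_mem_UR_iff (Q := Δ.Pan i x) (u := u) (g := g)).2 hu
    rwa [h4] at h5

/-- transitivity on the chambers -/
theorem exists_smul (hth : Δ.Thick) (n : ℕ) : ∀ x y : C, ℓ (Δ.δ x y) = n → ∃ g : G, g • x = y := by
  induction n with
  | zero =>
    intro x y h
    rw [cs.length_eq_zero_iff, Δ.eq_one] at h
    exact ⟨1, by rw [one_smul, h]⟩
  | succ n ih =>
    intro x y h
    have h1 : Δ.δ x y ≠ 1 := by
      intro h1
      rw [h1, cs.length_one] at h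
      omega
    obtain ⟨i, hi⟩ := cs.exists_leftDescent_of_ne_one h1
    have hi' : ℓ (cs.simple i * Δ.δ x y) < ℓ (Δ.δ x y) := hi
    obtain ⟨x', hx1, hx2⟩ := exists_first Δ hi'
    have h2 := cs.length_simple_mul (Δ.δ x y) i
    obtain ⟨g, hg⟩ := ih x' y (by rw [hx2]; omega)
    -- a third chamber
    obtain ⟨a, b, hab, ha, hb⟩ := hth x i
    obtain ⟨z, hz, hzx⟩ : ∃ z, Δ.δ x z = cs.simple i ∧ z ≠ x' := by
      by_cases h3 : a = x'
      · exact ⟨b, hb, fun h4 => hab (h3.trans h4.symm)⟩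
      · exact ⟨a, ha, h3⟩
    have h3 : Δ.δ z x = cs.simple i := Δ.δ_symm_simple hz
    have h4 : Δ.δ z x' = cs.simple i :=
      Δ.δ_eq_of_mem_Pan (Δ.mem_Pan_of_δ hz) (Δ.mem_Pan_of_δ hx1) hzx
    obtain ⟨u, -, hu⟩ := S.exists_move (x := z) (z := x) (z' := x') (by rw [h3, h4])
    exact ⟨g * u, by rw [mul_smul, hu, hg]⟩

/-- `|U x| ≥ 3` -/
theorem three_le_card_U [Finite G] (hth : Δ.Thick) (x : C) : 3 ≤ Nat.card (S.U x) := by
  have hs : cs.simple 0 ≠ cs.simple 1 := fun h => by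
    have := F.inj h
    omega
  have hlen : ℓ (cs.simple 0 * cs.simple 1) = ℓ (cs.simple 0) + ℓ (cs.simple 1) := by
    rw [cs.length_simple, cs.length_simple]
    have h1 := cs.length_mul_simple (cs.simple 0) 1
    rw [cs.length_simple] at h1
    rcases h1 with h1 | h1
    · exact h1
    · exfalso
      have h2 : ℓ (cs.simple 0 * cs.simple 1) = 0 := by omega
      rw [cs.length_eq_zero_iff] at h2
      apply hs
      rw [← mul_left_inj (cs.simple 1), h2, cs.simple_mul_simple_self]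
  obtain ⟨a, a', haa, ha, ha'⟩ := hth x 0
  obtain ⟨b, b', hbb, hb, hb'⟩ := hth a 1
  obtain ⟨b'', -, -, hb'', -⟩ := hth a' 1
  have h1 : Δ.δ x b = cs.simple 0 * cs.simple 1 := Δ.δ_mul_of ha hb hlen
  have h2 : Δ.δ x b' = cs.simple 0 * cs.simple 1 := Δ.δ_mul_of ha hb' hlen
  have h3 : Δ.δ x b'' = cs.simple 0 * cs.simple 1 := Δ.δ_mul_of ha' hb'' hlen
  have h4 : b ≠ b'' := by
    rintro rfl
    exact haa (Δ.between_unique hlen ha hb ha' hb'')
  have h5 : b' ≠ b'' := by
    rintro rfl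
    exact haa (Δ.between_unique hlen ha hb' ha' hb'')
  obtain ⟨u2, hu2, hu2'⟩ := S.exists_move (x := x) (z := b) (z' := b') (by rw [h1, h2])
  obtain ⟨u3, hu3, hu3'⟩ := S.exists_move (x := x) (z := b) (z' := b'') (by rw [h1, h3])
  let f : Fin 3 → S.U x := ![1, ⟨u2, hu2⟩, ⟨u3, hu3⟩]
  have hf : Function.Injective fun k => ((f k : G) • b : C) := by
    have e0 : ((f 0 : G) • b : C) = b := one_smul _ _
    have e1 : ((f 1 : G) • b : C) = b' := hu2'
    have e2 : ((f 2 : G) • b : C) = b'' := hu3'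
    intro k l hkl
    fin_cases k <;> fin_cases l <;> simp only at hkl ⊢ <;>
      first
        | rfl
        | (exfalso
           first
             | exact hbb (e0.symm.trans (hkl.trans e1))
             | exact h4 (e0.symm.trans (hkl.trans e2))
             | exact hbb (e0.symm.trans (hkl.symm.trans e1))
             | exact h4 (e0.symm.trans (hkl.symm.trans e2))
             | exact h5 (e1.symm.trans (hkl.trans e2))
             | exact h5 (e1.symm.trans (hkl.symm.trans e2)))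
  have hf' : Function.Injective f := fun k l h => hf (by show ((f k : G) • b : C) = (f l : G) • b; rw [h])
  have h6 := Nat.card_le_card_of_injective f hf'
  rwa [Nat.card_eq_fintype_card (α := Fin 3), Fintype.card_fin] at h6

/-- `3 |C| ≤ |G|` -/
theorem three_mul_card_le [Finite G] [Finite C] (hth : Δ.Thick) : 3 * Nat.card C ≤ Nat.card G := by
  rcases isEmpty_or_nonempty C with hC | ⟨⟨x⟩⟩
  · rw [Nat.card_of_isEmpty, mul_zero]
    exact Nat.zero_le _
  have htr : MulAction.IsPretransitive G C := ⟨fun x y => exists_smul S hth _ x y rfl⟩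
  have h1 := MulAction.index_stabilizer_of_transitive G x
  have h2 := (MulAction.stabilizer G x).card_mul_index
  have h3 : 3 ≤ Nat.card (MulAction.stabilizer G x) := by
    refine (three_le_card_U S hth x).trans ?_
    exact Subgroup.card_le_of_le fun u hu => S.fix x u hu
  rw [← h2, h1]
  exact Nat.mul_le_mul_right _ h3

/-- **The canonical parabolic subgroups.** -/
theorem exists_pars_sys [Finite G] [Finite C] [Fact p.Prime] (hth : Δ.Thick) (hs : IsSimpleGroup G)
    (hna : ¬ ∀ a b : G, a * b = b * a) : ∃ 𝓟 : Set (Subgroup G), Cfsg.Agent.H12.EP.BT.Pars p G 𝓟 := by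
  classical
  let f : C ⊕ (C × Fin 2) → Subgroup G := fun t =>
    Sum.elim (fun x => normalizer (S.U x : Set G)) (fun t => normalizer (S.UR (Δ.Pan t.2 t.1) : Set G)) t
  refine ⟨{P | P ≠ ⊤ ∧ P ∈ Set.range f}, ?_, fun P hP => hP.1, ?_⟩
  · have h1 : {P | P ≠ ⊤ ∧ P ∈ Set.range f} ⊆ Set.range f := fun P hP => hP.2
    refine (Set.ncard_le_ncard h1 (Set.toFinite _)).trans ?_
    rw [← Set.image_univ]
    refine (Set.ncard_image_le (Set.toFinite _)).trans ?_
    rw [Set.ncard_univ, Nat.card_sum, Nat.card_prod, Nat.card_eq_fintype_card (α := Fin 2), Fintype.card_fin]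
    have := three_mul_card_le S hth
    omega
  · intro K N₀ hN hn hp h1
    obtain ⟨V, hV1, hV2, hV3, hV4, hV5⟩ := exists_radical hN hn hp h1
    refine ⟨normalizer (V : Set G), ⟨fun htop => ?_, ?_⟩, hV3, fun φ hφ => map_normalizer (hV5 φ hφ)⟩
    · have hVn : V.Normal := Subgroup.normalizer_eq_top_iff.1 htop
      rcases hVn.eq_bot_or_eq_top with h2 | h2
      · exact hV2 h2
      · have h6 : IsPGroup p G := (h2 ▸ hV1 : IsPGroup p (⊤ : Subgroup G)).of_equiv Subgroup.topEquiv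
        have h7 : Group.IsSolvable G := by
          have := h6.isNilpotent
          infer_instance
        exact hna (IsSimpleGroup.comm_iff_isSolvable.2 h7)
    · rcases radical_cases S hV1 hV2 hV4 with ⟨x, h2⟩ | ⟨x, i, h2⟩
      · exact ⟨Sum.inl x, by rw [h2]; rfl⟩
      · exact ⟨Sum.inr (x, i), by rw [h2]; rfl⟩

end sys

end Cfsg.Agent.H270.EPU
end

-- part: H752/EP/OwnRankB
section
/-!
# Counting two-point stabilisers, own characteristic, bounded rank, part B (helper752)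

As `OwnRank.lean`, with the number `D ≤ |A|^k` of elementary abelian `s`-subgroups, `s ≠ p`, instead of the number of
classes: `card_le_rank_d` : `|Q| ≤ |A|^(k+2)`, `k ≥ 3`.
-/

set_option autoImplicit false
set_option linter.unusedSectionVars false

namespace Cfsg.Agent.H752.EP

open Subgroup Cfsg.Agent.H284 Cfsg.Agent.H59.EP Cfsg.Agent.H528.EP Cfsg.Agent.H12.EP.BT Cfsg.Agent.H419.EP

universe u

section count

variable {B : Type u} [Group B] [Finite B]

/-- **Counting theorem**, the prime `p` excluded. -/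
theorem ncard_np_le_d (hg : TwoGen.{u}) {j : ℕ} (hB : MLe j B) {p D : ℕ}
    (hD : {X : Subgroup B | ∃ s : ℕ, s.Prime ∧ s ≠ p ∧ ElAb s X ∧ X ≠ ⊥}.ncard ≤ D) {E : ℕ}
    (hE : (∃ s : ℕ, s.Prime ∧ 5 ≤ s ∧ s ^ 2 ∣ Nat.card B) → Nat.card B ^ (2 + j) / 3600 ≤ E)
    {𝓜 : Set (Subgroup B)} (hnt : ∀ M ∈ 𝓜, M ≠ ⊥)
    (hch : ∀ M ∈ 𝓜, ∀ K : Subgroup M, K.Characteristic → K ≠ ⊥ → ∀ b : B,
      (∀ k ∈ K.map M.subtype, b * k * b⁻¹ ∈ K.map M.subtype) → b ∈ M)
    (hnp : ∀ M ∈ 𝓜, ∀ K : Subgroup M, K.Characteristic → K ≠ ⊥ → ¬ ElAb p K) :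
    𝓜.ncard ≤ D + Nat.card B ^ 2 / 60 + E := by
  classical
  -- the minimal characteristic subgroup
  have key : ∀ M ∈ 𝓜, ∃ X : Subgroup B, normalizer (X : Set B) = M ∧
      ((∃ s : ℕ, s.Prime ∧ s ≠ p ∧ ElAb s X ∧ X ≠ ⊥) ∨
        ((IsSimpleGroup X ∧ ¬ Group.IsSolvable X) ∧ ∃ a b : X, _root_.Subgroup.closure ({a, b} : Set X) = ⊤) ∨
        ((∃ s : ℕ, s.Prime ∧ 5 ≤ s ∧ s ^ 2 ∣ Nat.card B) ∧ 3600 ≤ Nat.card X ∧ center X = ⊥ ∧
          ∃ f : Fin (2 + j) → X, closure (Set.range f) = ⊤)) := by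
    intro M hM
    have hMn : Nontrivial M := (Subgroup.nontrivial_iff_ne_bot M).2 (hnt M hM)
    obtain ⟨Y, hY, hYne, hYmin⟩ := exists_min_char (B := M)
    have hYn : Nontrivial Y := (Subgroup.nontrivial_iff_ne_bot Y).2 hYne
    have hYc : ∀ Z : Subgroup Y, Z.Characteristic → Z = ⊥ ∨ Z = ⊤ := by
      intro Z hZ
      by_cases hZb : Z = ⊥
      · exact Or.inl hZb
      right
      have h1 := hYmin (Z.map Y.subtype) char_trans (by
        rintro _ ⟨z, _, rfl⟩
        exact z.2) (by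
        intro e
        rw [Subgroup.map_eq_bot_iff_of_injective _ Y.subtype_injective] at e
        exact hZb e)
      rw [Subgroup.eq_top_iff']
      intro y
      have h2 : (y : M) ∈ Z.map Y.subtype := by rw [h1]; exact y.2
      obtain ⟨z, hz, e⟩ := h2
      have : z = y := Subtype.ext e
      rw [← this]
      exact hz
    set X : Subgroup B := Y.map M.subtype with hX
    have hcard : Nat.card X = Nat.card Y :=
      (Nat.card_congr (Y.equivMapOfInjective _ M.subtype_injective).toEquiv).symm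
    have e : Y ≃* X := Y.equivMapOfInjective _ M.subtype_injective
    have hXB : Nat.card Y ∣ Nat.card B := by
      rw [← hcard]
      exact Subgroup.card_subgroup_dvd_card X
    have hXne : X ≠ ⊥ := by
      intro e
      rw [hX, Subgroup.map_eq_bot_iff_of_injective _ M.subtype_injective] at e
      exact hYne e
    refine ⟨X, ?_, ?_⟩
    · apply le_antisymm
      · intro b hb
        exact hch M hM Y hY hYne b fun k hk => (mem_normalizer_iff.1 hb k).1 hk
      · intro m hm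
        have hn : Y.Normal := inferInstance
        rw [mem_normalizer_iff]
        have key : ∀ m ∈ M, ∀ k ∈ X, m * k * m⁻¹ ∈ X := by
          rintro m hm _ ⟨k, hk, rfl⟩
          exact ⟨_, hn.conj_mem k hk ⟨m, hm⟩, rfl⟩
        intro k
        refine ⟨key m hm k, fun h => ?_⟩
        have := key m⁻¹ (M.inv_mem hm) _ h
        have e : m⁻¹ * (m * k * m⁻¹) * m⁻¹⁻¹ = k := by group
        rwa [e] at this
    · rcases char_simple_m hg hYc (fun T _ _ m hT hTs ⟨e'⟩ => hB X T m hT hTs ⟨e.symm.trans e'⟩) with ⟨s, hs, hsd, hel⟩ | ⟨h1, h2⟩ | ⟨⟨s, hs, hs5, hsd⟩, h1, h2, f, h3⟩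
      · left
        have hsp : s ≠ p := by
          rintro rfl
          refine hnp M hM Y hY hYne ⟨fun a ha b hb => ?_, fun a ha => ?_⟩
          · exact Subtype.ext_iff.1 (hel.comm ⟨a, ha⟩ (mem_top _) ⟨b, hb⟩ (mem_top _))
          · exact Subtype.ext_iff.1 (hel.exp ⟨a, ha⟩ (mem_top _))
        refine ⟨s, hs, hsp, ⟨?_, ?_⟩, hXne⟩
        · rintro _ ⟨a, ha, rfl⟩ _ ⟨b, hb, rfl⟩
          have := hel.comm ⟨a, ha⟩ (mem_top _) ⟨b, hb⟩ (mem_top _)
          have h1 : a * b = b * a := Subtype.ext_iff.1 this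
          rw [← map_mul, ← map_mul, h1]
        · rintro _ ⟨a, ha, rfl⟩
          have := hel.exp ⟨a, ha⟩ (mem_top _)
          have h1 : a ^ s = 1 := Subtype.ext_iff.1 this
          rw [← map_pow, h1, map_one]
      · right; left
        have hXs : IsSimpleGroup X := e.symm.isSimpleGroup
        refine ⟨⟨hXs, fun h => h2 ?_⟩, hg X⟩
        exact Group.isSolvable_of_isSolvable_injective (f := e.toMonoidHom) e.injective
      · right; right
        refine ⟨⟨s, hs, hs5, hsd.trans hXB⟩, by rw [hcard]; exact h1, ?_, _, closure_range_of_equiv e.symm h3⟩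
        rw [Subgroup.eq_bot_iff_forall]
        intro x hx
        have h4 : e.symm x ∈ center Y := by
          rw [mem_center_iff] at hx ⊢
          intro y
          apply e.injective
          rw [map_mul, map_mul, MulEquiv.apply_symm_apply]
          exact hx _
        rw [h2, mem_bot] at h4
        exact (MulEquiv.map_eq_one_iff e.symm).1 h4
  choose! f hf1 hf2 using key
  have hinj : Set.InjOn f 𝓜 := by
    intro M hM N hN e
    rw [← hf1 M hM, ← hf1 N hN, e]
  rw [← hinj.ncard_image]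
  have hsub : f '' 𝓜 ⊆ ({X : Subgroup B | ∃ s : ℕ, s.Prime ∧ s ≠ p ∧ ElAb s X ∧ X ≠ ⊥} ∪
      {X : Subgroup B | (IsSimpleGroup X ∧ ¬ Group.IsSolvable X) ∧ ∃ a b : X, _root_.Subgroup.closure ({a, b} : Set X) = ⊤}) ∪
      {X : Subgroup B | (∃ s : ℕ, s.Prime ∧ 5 ≤ s ∧ s ^ 2 ∣ Nat.card B) ∧ 3600 ≤ Nat.card X ∧ center X = ⊥ ∧
        ∃ f : Fin (2 + j) → X, _root_.Subgroup.closure (Set.range f) = ⊤} := by
    rintro _ ⟨M, hM, rfl⟩
    rcases hf2 M hM with h1 | h | h
    · left; left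
      exact h1
    · left; right
      exact h
    · right
      exact h
  refine (Set.ncard_le_ncard hsub (Set.toFinite _)).trans ((Set.ncard_union_le _ _).trans (Nat.add_le_add
    ((Set.ncard_union_le _ _).trans (Nat.add_le_add hD ?_)) ?_))
  · exact ncard_simple_le (fun X hX => hX.1) (fun X hX => hX.2)
  · by_cases h5 : ∃ s : ℕ, s.Prime ∧ 5 ≤ s ∧ s ^ 2 ∣ Nat.card B
    · exact (ncard_dgen_le (by norm_num) (fun X hX => hX.2)).trans (hE h5)
    · have h0 : {X : Subgroup B | (∃ s : ℕ, s.Prime ∧ 5 ≤ s ∧ s ^ 2 ∣ Nat.card B) ∧ 3600 ≤ Nat.card X ∧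
          center X = ⊥ ∧ ∃ f : Fin (2 + j) → X, _root_.Subgroup.closure (Set.range f) = ⊤} = ∅ := by
        rw [Set.eq_empty_iff_forall_notMem]
        intro X hX
        exact h5 hX.1
      rw [h0, Set.ncard_empty]
      exact Nat.zero_le _

end count

/-- the number of elementary abelian subgroups from the rank -/
theorem ncard_elab_rank {B : Type u} [Group B] [Finite B] {p k : ℕ} (h : ∀ s : ℕ, s.Prime → s ≠ p → SRank B s k) :
    {X : Subgroup B | ∃ s : ℕ, s.Prime ∧ s ≠ p ∧ ElAb s X ∧ X ≠ ⊥}.ncard ≤ Nat.card B ^ k := by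
  classical
  have hsub : {X : Subgroup B | ∃ s : ℕ, s.Prime ∧ s ≠ p ∧ ElAb s X ∧ X ≠ ⊥} ⊆
      Set.range fun f : Fin k → B => _root_.Subgroup.closure (Set.range f) := by
    rintro X ⟨s, hs, hsp, hel, -⟩
    have : Fact s.Prime := ⟨hs⟩
    have h1 := h s hs hsp X (fun x hx y hy => hel.comm x hx y hy) (fun x hx => hel.exp x hx)
    have h2 : IsPGroup s X := by
      rintro ⟨y, hy⟩
      refine ⟨1, Subtype.ext ?_⟩
      rw [pow_one]
      exact hel.exp y hy
    obtain ⟨f, hf⟩ := exists_gen_pgroup h2 h1.2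
    refine ⟨fun i => (f i : B), ?_⟩
    have h3 := congrArg (Subgroup.map X.subtype) hf
    rw [MonoidHom.map_closure, ← Set.range_comp, ← MonoidHom.range_eq_map, X.range_subtype] at h3
    exact h3
  refine (Set.ncard_le_ncard hsub (Set.toFinite _)).trans ?_
  rw [← Set.image_univ]
  refine (Set.ncard_image_le (Set.toFinite _)).trans ?_
  rw [Set.ncard_univ, Nat.card_fun, Nat.card_eq_fintype_card (α := Fin k), Fintype.card_fin]

section own

variable {Q : Type u} [Group Q] [Finite Q] {A N : Subgroup Q} {Γ : Subgroup (MulAut Q)} {p : ℕ}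

/-- **the number of two-point stabilisers, own characteristic** -/
theorem EPT.ncard_own_d [Fact p.Prime] (h : EPT A Γ) (hg : TwoGen.{u}) (hS : LieSoc p A N) {j : ℕ}
    (hout : ∀ R : Subgroup Q, R ≤ A → IsPGroup p R → R ⊓ N = ⊥ → ∃ x ∈ R, R = zpowers x) (hj : MLe j A) {D : ℕ}
    (hC : {X : Subgroup A | ∃ s : ℕ, s.Prime ∧ s ≠ p ∧ ElAb s X ∧ X ≠ ⊥}.ncard ≤ D) {E : ℕ} (hE : (∃ s : ℕ, s.Prime ∧ 5 ≤ s ∧ s ^ 2 ∣ Nat.card A) → Nat.card A ^ (2 + j) / 3600 ≤ E) :
    {M : Subgroup Q | ∃ x, x ∉ A ∧ M = A ⊓ cj x A}.ncard ≤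
      Nat.card A + Nat.card A + (D + Nat.card A ^ 2 / 60 + E) := by
  classical
  set 𝓟 := {M : Subgroup Q | ∃ x, x ∉ A ∧ M = A ⊓ cj x A ∧ ∃ R : Subgroup Q, R ≤ A ⊓ cj x A ∧
      (∀ σ ∈ Γ, x⁻¹ * σ x ∈ A → ∀ k ∈ R, σ k ∈ R) ∧ IsPGroup p R ∧ R ⊓ N ≠ ⊥} with h𝓟
  set 𝓞 := {M : Subgroup Q | ∃ x, x ∉ A ∧ M = A ⊓ cj x A ∧ ∃ R : Subgroup Q, R ≤ A ⊓ cj x A ∧
      (∀ σ ∈ Γ, x⁻¹ * σ x ∈ A → ∀ k ∈ R, σ k ∈ R) ∧ IsPGroup p R ∧ R ≠ ⊥ ∧ R ⊓ N = ⊥} with h𝓞
  set 𝓡 := {M : Subgroup Q | ∃ x, x ∉ A ∧ M = A ⊓ cj x A ∧ ∀ R : Subgroup Q, R ≤ A ⊓ cj x A →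
      (∀ σ ∈ Γ, x⁻¹ * σ x ∈ A → ∀ k ∈ R, σ k ∈ R) → IsPGroup p R → R = ⊥} with h𝓡
  have hcov : {M : Subgroup Q | ∃ x, x ∉ A ∧ M = A ⊓ cj x A} ⊆ 𝓟 ∪ 𝓞 ∪ 𝓡 := by
    rintro _ ⟨x, hx, rfl⟩
    by_cases h1 : ∀ R : Subgroup Q, R ≤ A ⊓ cj x A → (∀ σ ∈ Γ, x⁻¹ * σ x ∈ A → ∀ k ∈ R, σ k ∈ R) → IsPGroup p R →
        R = ⊥
    · exact Or.inr ⟨x, hx, rfl, h1⟩
    · push Not at h1
      obtain ⟨R, hR, hRn, hRp, hR1⟩ := h1
      by_cases hRN : R ⊓ N = ⊥
      · exact Or.inl (Or.inr ⟨x, hx, rfl, R, hR, hRn, hRp, hR1, hRN⟩)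
      · exact Or.inl (Or.inl ⟨x, hx, rfl, R, hR, hRn, hRp, hRN⟩)
  refine (Set.ncard_le_ncard hcov (Set.toFinite _)).trans ((Set.ncard_union_le _ _).trans (Nat.add_le_add
    ((Set.ncard_union_le _ _).trans (Nat.add_le_add (hS.ncard_par h) (ncard_out_cyc hS h hout))) ?_))
  -- no invariant `p`-subgroups
  set 𝓜 : Set (Subgroup A) := {M | ∃ x, x ∉ A ∧ A ⊓ cj x A ∈ 𝓡 ∧ M = (A ⊓ cj x A).subgroupOf A} with h𝓜
  have h1 : 𝓡.ncard ≤ 𝓜.ncard := by
    refine Set.ncard_le_ncard_of_injOn (fun M => M.subgroupOf A) ?_ ?_ (Set.toFinite _)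
    · rintro _ ⟨x, hx, rfl, h2⟩
      exact ⟨x, hx, ⟨x, hx, rfl, h2⟩, rfl⟩
    · rintro _ ⟨x, _, rfl, _⟩ _ ⟨y, _, rfl, _⟩ e
      have e1 := congrArg (Subgroup.map A.subtype) e
      simp only [Subgroup.subgroupOf_map_subtype] at e1
      rw [inf_eq_left.2 (inf_le_left : A ⊓ cj x A ≤ A), inf_eq_left.2 (inf_le_left : A ⊓ cj y A ≤ A)] at e1
      exact e1
  refine h1.trans (ncard_np_le_d hg hj hC hE ?_ ?_ ?_)
  · rintro _ ⟨x, hx, -, rfl⟩ e
    apply h.M0 x hx
    rw [Subgroup.subgroupOf_eq_bot] at e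
    exact e.eq_bot_of_le inf_le_left
  · rintro _ ⟨x, hx, -, rfl⟩ K hK hne b hb
    set E : (A ⊓ cj x A).subgroupOf A ≃* (A ⊓ cj x A : Subgroup Q) :=
      Subgroup.subgroupOfEquivOfLe (inf_le_left : A ⊓ cj x A ≤ A) with hE
    have hch := char_map E hK
    have hn := h.norm_char hx (K.map E.toMonoidHom) (hK := hch) (by
      intro e
      rw [Subgroup.map_eq_bot_iff_of_injective _ E.injective] at e
      exact hne e) (a := (b : Q)) b.2 (by
      rintro _ ⟨_, ⟨k, hk, rfl⟩, rfl⟩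
      obtain ⟨k', hk', e'⟩ := hb _ ⟨k, hk, rfl⟩
      refine ⟨_, ⟨k', hk', rfl⟩, ?_⟩
      have e2 := congrArg (Subtype.val) e'
      exact e2)
    exact ⟨b.2, hn⟩
  · rintro _ ⟨x, hx, ⟨x', hx', exx', h𝓡x⟩, rfl⟩ K hK hne hel
    -- the image of `K` is invariant
    set R : Subgroup Q := (K.map ((A ⊓ cj x A).subgroupOf A).subtype).map A.subtype with hRdef
    have hRmem : ∀ y, y ∈ R ↔ ∃ k ∈ K, ((k : A) : Q) = y := by
      intro y
      constructor
      · rintro ⟨_, ⟨k, hk, rfl⟩, rfl⟩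
        exact ⟨k, hk, rfl⟩
      · rintro ⟨k, hk, rfl⟩
        exact ⟨_, ⟨k, hk, rfl⟩, rfl⟩
    have hRM : R ≤ A ⊓ cj x A := by
      intro y hy
      obtain ⟨k, _, rfl⟩ := (hRmem y).1 hy
      exact k.2
    have hRx : ∀ σ : MulAut Q, (∀ y ∈ A ⊓ cj x A, σ y ∈ A ⊓ cj x A) → ∀ k ∈ R, σ k ∈ R := by
      intro σ hσ
      have hA : ∀ y : (A ⊓ cj x A).subgroupOf A, σ ((y : A) : Q) ∈ A ⊓ cj x A := fun y => hσ _ y.2
      let f : (A ⊓ cj x A).subgroupOf A →* (A ⊓ cj x A).subgroupOf A :=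
        { toFun := fun y => ⟨⟨σ ((y : A) : Q), (mem_inf.1 (hA y)).1⟩, hA y⟩
          map_one' := by
            apply Subtype.ext
            apply Subtype.ext
            exact map_one σ
          map_mul' := fun y z => by
            apply Subtype.ext
            apply Subtype.ext
            exact map_mul σ _ _ }
      have hf : Function.Injective f := by
        intro y z e
        have e' : σ ((y : A) : Q) = σ ((z : A) : Q) := Subtype.ext_iff.1 (Subtype.ext_iff.1 e)
        exact Subtype.ext (Subtype.ext (σ.injective e'))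
      let τ : MulAut ((A ⊓ cj x A).subgroupOf A) := MulEquiv.ofBijective f (Finite.injective_iff_bijective.1 hf)
      have hτ : K.map τ.toMonoidHom = K := Subgroup.characteristic_iff_map_eq.1 hK τ
      intro y hy
      obtain ⟨k, hk, rfl⟩ := (hRmem y).1 hy
      have h2 : τ k ∈ K := by
        rw [← hτ]
        exact ⟨k, hk, rfl⟩
      exact (hRmem _).2 ⟨τ k, h2, rfl⟩
    have hRp : IsPGroup p R := by
      rintro ⟨y, hy⟩
      obtain ⟨k, hk, rfl⟩ := (hRmem y).1 hy
      refine ⟨1, Subtype.ext ?_⟩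
      rw [pow_one]
      have h3 := hel.exp k hk
      have h4 : ((k : A) : Q) ^ p = 1 := by
        have := congrArg (fun z : (A ⊓ cj x A).subgroupOf A => ((z : A) : Q)) h3
        simpa only [_root_.SubmonoidClass.coe_pow, _root_.OneMemClass.coe_one] using this
      exact h4
    have h2 := h𝓡x R (exx' ▸ hRM) (fun σ hσ hσx => hRx σ fun y hy => by
      rw [exx'] at hy ⊢
      exact h.stab_M0 hσ hσx hy) hRp
    apply hne
    rw [Subgroup.eq_bot_iff_forall]
    intro k hk
    have h3 : ((k : A) : Q) ∈ R := (hRmem _).2 ⟨k, hk, rfl⟩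
    rw [h2, mem_bot] at h3
    exact Subtype.ext (Subtype.ext h3)

/-- **the bound for the index, own characteristic** -/
theorem EPT.index_own_d [Fact p.Prime] (hs : IsSimpleGroup Q) (h : EPT A Γ) (hg : TwoGen.{u}) (hS : LieSoc p A N)
    {j : ℕ} (hout : ∀ R : Subgroup Q, R ≤ A → IsPGroup p R → R ⊓ N = ⊥ → ∃ x ∈ R, R = zpowers x) (hj : MLe j A)
    {D : ℕ} (hC : {X : Subgroup A | ∃ s : ℕ, s.Prime ∧ s ≠ p ∧ ElAb s X ∧ X ≠ ⊥}.ncard ≤ D) {E : ℕ}
    (hE : (∃ s : ℕ, s.Prime ∧ 5 ≤ s ∧ s ^ 2 ∣ Nat.card A) → Nat.card A ^ (2 + j) / 3600 ≤ E) :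
    A.index ≤ 1 + (Nat.card A + Nat.card A + (D + Nat.card A ^ 2 / 60 + E)) *
      (2 * (Nat.card A / 6)) :=
  index_le_of (EPT.ncard_own_d h hg hS hout hj hC hE)
    (Cfsg.Agent.H173.EP.ub1 hs h (by norm_num) fun _ hx => EPT.six_le h hS.no_abelian hx) le_rfl

end own

/-- the numbers -/
theorem num_rank_d {n k x y E i q : ℕ} (hk : 3 ≤ k) (hn : 60 ≤ n) (hx : 6 * x ≤ n) (hy : 60 * y ≤ n ^ 2)
    (hE : 3600 * E ≤ n ^ 3) (hi : i ≤ 1 + (n + n + (n ^ k + y + E)) * (2 * x)) (hq : q = n * i) :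
    q ≤ n ^ (k + 2) := by
  have hn0 : 0 < n := by omega
  have e2 : n ^ (k + 1) = n ^ k * n := pow_succ n k
  have e3 : n ^ (k + 2) = n ^ (k + 1) * n := pow_succ n (k + 1)
  have h3 : n ^ 3 ≤ n ^ k := Nat.pow_le_pow_right hn0 (by omega)
  have h2 : 60 * n ^ 2 ≤ n ^ 3 := by
    rw [pow_succ n 2, mul_comm]
    exact Nat.mul_le_mul_left _ hn
  have h1 : 60 * n ≤ n ^ 2 := by rw [sq]; exact Nat.mul_le_mul_right _ hn
  have hS : n + n + (n ^ k + y + E) ≤ 2 * n ^ k := by
    generalize n ^ k = w at *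
    generalize n ^ 3 = u at *
    generalize n ^ 2 = v at *
    omega
  have h4 : (n + n + (n ^ k + y + E)) * (2 * x) ≤ 4 * (n ^ k * x) := by
    calc (n + n + (n ^ k + y + E)) * (2 * x) ≤ (2 * n ^ k) * (2 * x) := Nat.mul_le_mul_right _ hS
      _ = _ := by ring
  have h5 : 6 * (n ^ k * x) ≤ n ^ (k + 1) := by
    rw [e2, show 6 * (n ^ k * x) = n ^ k * (6 * x) by ring]
    exact Nat.mul_le_mul_left _ hx
  have h6 : i ≤ n ^ (k + 1) := by
    have h7 : 60 ≤ n ^ (k + 1) := by
      calc 60 ≤ n := hn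
        _ = n ^ 1 := (pow_one n).symm
        _ ≤ n ^ (k + 1) := Nat.pow_le_pow_right hn0 (by omega)
    omega
  rw [hq, e3, mul_comm]
  exact Nat.mul_le_mul_right _ h6

/-- **the closed form** -/
theorem card_le_rank_d {Q : Type u} [Group Q] [Finite Q] {A N : Subgroup Q} {Γ : Subgroup (MulAut Q)} {p : ℕ}
    [Fact p.Prime] (hs : IsSimpleGroup Q) (h : EPT A Γ) (hg : TwoGen.{u}) (hS : LieSoc p A N)
    (hout : ∀ R : Subgroup Q, R ≤ A → IsPGroup p R → R ⊓ N = ⊥ → ∃ x ∈ R, R = zpowers x)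
    {k : ℕ} (hk : 3 ≤ k) (hr : ∀ s : ℕ, s.Prime → s ≠ p → SRank A s k) (h5 : ∀ s : ℕ, s.Prime → 5 ≤ s → SRank A s 60) :
    Nat.card Q ≤ Nat.card A ^ (k + 2) := by
  have h1 := EPT.index_own_d hs h hg hS (j := 1) hout (mLe_of_srank h5 (by norm_num)) (ncard_elab_rank hr)
    (E := Nat.card A ^ (2 + 1) / 3600) (fun _ => le_rfl)
  exact num_rank_d hk (sixty_le_card hS) (Nat.mul_div_le _ 6) (Nat.mul_div_le _ 60) (Nat.mul_div_le _ 3600) h1
    (A.card_mul_index).symm

end Cfsg.Agent.H752.EP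
end

-- part: H270/EPU/Glue
section
/-!
# S3499, dimension at least 13: large Ree groups `²F₄(q)`, `q > 2`, in their own characteristic (helper270)

`card_le_twF4`: `|Q| ≤ |A| ^ 5`, `own_twF4` : `²F₄(q)` does not occur. The canonical parabolic subgroups are a
hypothesis `Pars 2 (²F₄(q)) 𝓟`.
-/

set_option autoImplicit false
set_option linter.unusedSectionVars false

namespace Cfsg.Agent.H270.EPU

open Cfsg Matrix Subgroup Cfsg.Agent.H284 Cfsg.Agent.H59.EP Cfsg.Agent.H12.EP.BT Cfsg.Agent.H419.EP Cfsg.Agent.H752.EP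
open Cfsg.Geo Cfsg.Agent.H915.LD

universe u v w

/-- transport of the canonical parabolic subgroups -/
theorem pars_of_equiv {p : ℕ} {Y : Type u} {Z : Type v} [Group Y] [Finite Y] [Group Z] (e : Y ≃* Z)
    {𝓟 : Set (Subgroup Y)} (h : Pars p Y 𝓟) : Pars p Z ((fun P : Subgroup Y => P.map e.toMonoidHom) '' 𝓟) := by
  have hfin : Finite Z := Finite.of_equiv _ e.toEquiv
  refine ⟨?_, ?_, ?_⟩
  · rw [← Nat.card_congr e.toEquiv]
    exact (Set.ncard_image_le (Set.toFinite _)).trans h.card_le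
  · rintro _ ⟨P, hP, rfl⟩ ht
    apply h.ne_top P hP
    have ht' : P.map e.toMonoidHom = ⊤ := ht
    rw [Subgroup.eq_top_iff']
    intro y
    have h1 : e y ∈ P.map e.toMonoidHom := by rw [ht']; exact mem_top _
    obtain ⟨z, hz, h2⟩ := h1
    have h3 : z = y := e.injective h2
    rwa [← h3]
  · intro K N₀ hNK hn hp h1
    have hmem : ∀ (H : Subgroup Z) (y : Y), y ∈ H.comap e.toMonoidHom ↔ e y ∈ H := fun H y => Iff.rfl
    obtain ⟨P, hP, h2, h3⟩ := h.exists_mem (K.comap e.toMonoidHom) (N₀.comap e.toMonoidHom) (Subgroup.comap_mono hNK)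
      (fun k hk v hv => by
        rw [hmem] at hk hv ⊢
        rw [map_mul, map_mul, map_inv]
        exact hn _ hk _ hv)
      (hp.comap_of_injective _ e.injective) (by
        intro h4
        apply h1
        rw [Subgroup.eq_bot_iff_forall] at h4 ⊢
        intro x hx
        have h5 := h4 (e.symm x) (by rw [hmem, e.apply_symm_apply]; exact hx)
        exact (MulEquiv.map_eq_one_iff e.symm).1 h5)
    refine ⟨_, ⟨P, hP, rfl⟩, ?_, ?_⟩
    · intro k hk
      exact ⟨e.symm k, h2 (by rw [hmem, e.apply_symm_apply]; exact hk), e.apply_symm_apply k⟩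
    · rintro φ hφ _ ⟨x, hx, rfl⟩
      let ψ : MulAut Y := (e.trans φ).trans e.symm
      refine ⟨ψ x, h3 ψ (fun k hk => ?_) x hx, e.apply_symm_apply _⟩
      rw [hmem] at hk ⊢
      show e (e.symm (φ (e k))) ∈ K
      rw [e.apply_symm_apply]
      exact hφ _ hk

theorem lieSoc_of_pars {p : ℕ} {Q : Type u} [Group Q] [Finite Q] {A : Subgroup Q} {L : Type v} [Group L]
    (hsoc : HasSoc A L) (hL : IsSimpleGroup L) (hLn : ¬ ∀ a b : L, a * b = b * a)
    (hP : ∃ 𝓟 : Set (Subgroup L), Pars p L 𝓟) :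
    ∃ N : Subgroup Q, LieSoc p A N ∧ Nonempty (N ≃* L) := by
  obtain ⟨N, h1, h2, h3, ⟨e⟩⟩ := hsoc
  obtain ⟨𝓟, hP⟩ := hP
  have hLfin : Finite L := Finite.of_equiv _ e.toEquiv
  have hNs : IsSimpleGroup N := e.isSimpleGroup
  refine ⟨N, ⟨h1, h2, h3, hNs, ?_, ⟨_, pars_of_equiv e.symm hP⟩⟩, ⟨e⟩⟩
  intro h
  apply hLn
  intro a b
  have h4 := h (e.symm a) (e.symm a).2 (e.symm b) (e.symm b).2
  have h5 : e.symm a * e.symm b = e.symm b * e.symm a := Subtype.ext h4
  apply e.symm.injective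
  rw [map_mul, map_mul, h5]

section twf

variable {K : Type} [Field K] [Fintype K] {l : ℕ}

theorem srank_twF4 (hK : Fintype.card K = 2 ^ (2 * l + 1)) {s : ℕ} (hs : s.Prime) (h2 : s ≠ 2) :
    SRank ↥(Lie.twistedF4 K (2 ^ l)) s 2 := by
  have hfin : Finite ↥(Lie.twistedF4 K (2 ^ l)) := by
    have := Cfsg.Agent.ChevalleyStructure.TwF4.Twisted.charP_two hK
    exact H42.Tw.finite_tw (K := K) (2 ^ l)
  have hr : PRankLE s 2 ↥(Lie.twistedF4 K (2 ^ l)) := by
    by_cases h3 : s = 3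
    · subst h3
      exact H565.F4R.prankLE_three_twF4 hK
    · exact prankLE_five hK hs h2 h3
  intro X h1 h2
  exact ⟨Nat.card_pos.ne', hr X ⟨⟨fun a b => Subtype.ext (h1 a a.2 b b.2)⟩⟩ h2⟩

/-- the rank of the automorphism group -/
theorem srank_aut_twF4 (hl : 1 ≤ l) (hK : Fintype.card K = 2 ^ (2 * l + 1))
    (hL : IsSimpleGroup ↥(Lie.twistedF4 K (2 ^ l))) (hLn : ¬ ∀ a b : ↥(Lie.twistedF4 K (2 ^ l)), a * b = b * a)
    {s : ℕ} (hs : s.Prime) (h2 : s ≠ 2) : SRank (MulAut ↥(Lie.twistedF4 K (2 ^ l))) s 3 := by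
  have hfin : Finite ↥(Lie.twistedF4 K (2 ^ l)) := by
    have := Cfsg.Agent.ChevalleyStructure.TwF4.Twisted.charP_two hK
    exact H42.Tw.finite_tw (K := K) (2 ^ l)
  have hZ : center ↥(Lie.twistedF4 K (2 ^ l)) = ⊥ := by
    rcases (inferInstance : (center ↥(Lie.twistedF4 K (2 ^ l))).Normal).eq_bot_or_eq_top with h | h
    · exact h
    · exfalso
      apply hLn
      intro a b
      have h3 : b ∈ center ↥(Lie.twistedF4 K (2 ^ l)) := by rw [h]; exact mem_top _
      exact mem_center_iff.1 h3 a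
  exact srank_aut hZ (H240.GenTwF.out_cyclic hl hK) hs.pos (srank_twF4 hK hs h2)

/-- `|Q| ≤ |A| ^ 5` -/
theorem card_le_twF4 {Q : Type u} [Group Q] [Finite Q] {A : Subgroup Q} {Γ : Subgroup (MulAut Q)}
    (hs : IsSimpleGroup Q) (h : EPT A Γ) (hg : TwoGen.{u}) (hl : 1 ≤ l)
    (hK : Fintype.card K = 2 ^ (2 * l + 1)) (hL : IsSimpleGroup ↥(Lie.twistedF4 K (2 ^ l)))
    (hLn : ¬ ∀ a b : ↥(Lie.twistedF4 K (2 ^ l)), a * b = b * a)
    (hsoc : HasSoc A ↥(Lie.twistedF4 K (2 ^ l)))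
    (hP : ∃ 𝓟 : Set (Subgroup ↥(Lie.twistedF4 K (2 ^ l))), Pars 2 ↥(Lie.twistedF4 K (2 ^ l)) 𝓟) :
    Nat.card Q ≤ Nat.card A ^ 5 := by
  have h2p : Fact (Nat.Prime 2) := ⟨Nat.prime_two⟩
  obtain ⟨N, hS, ⟨e⟩⟩ := lieSoc_of_pars hsoc hL hLn hP
  exact card_le_rank_d hs h hg hS (hout_of_cyc hS e (H240.GenTwF.out_cyclic hl hK)) (k := 3) le_rfl
    (fun s hs hs2 => (srank_aut_twF4 hl hK hL hLn hs hs2).of_hasSoc hsoc)
    (fun s hs hs5 => ((srank_aut_twF4 hl hK hL hLn hs (by omega)).of_hasSoc hsoc).mono hs.pos (by norm_num))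

end twf

end Cfsg.Agent.H270.EPU
end

-- part: H270/EPU/OwnTwF
section
/-!
# S3499, dimension at least 13: `²F₄(q)`, `q > 2`, own characteristic (helper270)

`own_twF4` : no hypothesis.
-/

set_option autoImplicit false
set_option linter.unusedSectionVars false

namespace Cfsg.Agent.H270.EPU

open Cfsg Matrix Subgroup Cfsg.Agent.H284 Cfsg.Agent.H59.EP Cfsg.Agent.H12.EP.BT Cfsg.Agent.H419.EP
open Cfsg.Geo

universe u

/-- **the canonical parabolic subgroups of `²F₄(q)`** -/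
theorem exists_pars_twF4 {Y : Type u} [Group Y] [Finite Y] (h : Lie.Iso2F4 Y) (hs : IsSimpleGroup Y)
    (hna : ¬ ∀ a b : Y, a * b = b * a) : ∃ 𝓟 : Set (Subgroup Y), Pars 2 Y 𝓟 := by
  have : Fact (Nat.Prime 2) := ⟨Nat.prime_two⟩
  have hc : center Y = ⊥ := by
    rcases (inferInstance : (center Y).Normal).eq_bot_or_eq_top with h1 | h1
    · exact h1
    · exfalso
      apply hna
      intro a b
      have h3 : b ∈ center Y := by rw [h1]; exact mem_top _
      exact mem_center_iff.1 h3 a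
  have hk : (MonoidHom.id Y).ker = ⊥ := MonoidHom.ker_id
  obtain ⟨M, -, ⟨W, C, i1, cs, i2, i3, Δ, i4, hth, ⟨S⟩⟩, -⟩ := H60.HerTwF4.sys_twF4 h (MonoidHom.id Y) (by rw [hk, hc])
    (by rw [hk, Subgroup.card_bot]; exact Nat.coprime_one_left 2) Function.surjective_id
  have : Finite C := inferInstance
  exact exists_pars_sys S hth hs hna

/-- **Large Ree groups `²F₄(q)`, `q > 2`, own characteristic, dimension at least 13.** -/
theorem own_twF4 {Q : Type} [Group Q] [Finite Q] {A : Subgroup Q} {Γ : Subgroup (MulAut Q)} {ι : Type} [Fintype ι]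
    [DecidableEq ι] {F : Type} [Field F] [Fintype F] {S P : Subgroup (GL ι F)} (b : Big A Γ S P) (hg : TwoGen.{0})
    (hc : ringChar F = 2) (h : Lie.Iso2F4 (socle P)) : False := by
  obtain ⟨K, _, _, l, hl, hK, ⟨e⟩⟩ := id h
  have hfin := H270.EP.finite_socle P
  have hna : ¬ ∀ a b : socle P, a * b = b * a := fun h1 => b.core.nonabelian ⟨⟨h1⟩⟩
  obtain ⟨𝓟, hP⟩ := exists_pars_twF4 h b.core.simple hna
  have hL : IsSimpleGroup ↥(Lie.twistedF4 K (2 ^ l)) := by
    have := b.core.simple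
    exact e.symm.isSimpleGroup
  have hLn : ¬ ∀ a b : ↥(Lie.twistedF4 K (2 ^ l)), a * b = b * a := by
    intro h1
    apply hna
    intro x y
    apply e.injective
    rw [map_mul, map_mul]
    exact h1 _ _
  exact H270.EP.own_2f4 b le_rfl
    (card_le_twF4 b.simple b.ept hg hl hK hL hLn (b.hasSoc' e) ⟨_, pars_of_equiv e hP⟩) hc h

end Cfsg.Agent.H270.EPU
end

-- part: H855/EP/LeftFin
section
/-!
# S3499, assembly: `BigTarget` for the socles of exceptional Lie type, final (helper855, task 6287)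

* `twFKill` : the row `²F₄(q)` in its own characteristic (helper270);
* `leftKill` : `LeftKill`; `bigOf_exceptional` : `BigOf IsExceptionalLieType` (no hypothesis except `TwoGen`).
-/

set_option autoImplicit false

namespace Cfsg.Agent.H855.EP

open Subgroup Cfsg.Agent.H284 Cfsg.Agent.H419.EP

/-- the row `²F₄(q)` -/
theorem twFKill (hg : Cfsg.Agent.H59.EP.TwoGen.{0}) : TwFKill := by
  intro Q _ _ A Γ ι _ _ F _ _ S P b hc h
  exact Cfsg.Agent.H270.EPU.own_twF4 b hg hc h

/-- **The remaining own characteristic rows.** -/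
theorem leftKill (hg : Cfsg.Agent.H59.EP.TwoGen.{0}) : LeftKill := leftKill_of hg (twFKill hg)

/-- **The part of `BigTarget` for the socles of exceptional Lie type.** -/
theorem bigOf_exceptional (hg : Cfsg.Agent.H59.EP.TwoGen.{0}) : BigOf (fun L _ => Cfsg.IsExceptionalLieType L) :=
  bigOf_exceptional_of hg (leftKill hg)

end Cfsg.Agent.H855.EP
end
end
end

-- part: H840/EP/CoTwo_mg
section
set_option linter.all false
open scoped Cfsg.Agent.FastGrp

-- part: H840/EP/Dual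
section
/-!
# Self-dual matrices of prime order over small fields (helper840)

* `charpoly_inv` : isometries of a non-degenerate bilinear form are conjugate to their inverses in the linear group, so
  far as the characteristic polynomial is concerned;
* `le_card_of_orbit` : `x ≠ 1`, `x ^ s = 1`, `s` prime, `x` an isometry of a non-degenerate bilinear form over `F`, every
  `0 < k < s` of the form `± |F|^j` modulo `s`: then `s - 1 ≤ dim`.
-/

set_option autoImplicit false

namespace Cfsg.Agent.H840.EP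

open Matrix Polynomial Cfsg Cfsg.Geo

variable {ι : Type} [Fintype ι] [DecidableEq ι] {F : Type} [Field F]

/-- the characteristic polynomial of the inverse of an isometry -/
theorem charpoly_inv {f : (ι → F) → (ι → F) → F} (hf : IsBilinearForm f) (hn : IsNondegenerateForm f) {x : GL ι F}
    (hx : ∀ u v, f ((x : Matrix ι ι F) *ᵥ u) ((x : Matrix ι ι F) *ᵥ v) = f u v) :
    ((x⁻¹ : GL ι F) : Matrix ι ι F).charpoly = (x : Matrix ι ι F).charpoly := by
  let B : (ι → F) →ₗ[F] (ι → F) →ₗ[F] F := LinearMap.mk₂ F f hf.add_left hf.smul_left hf.add_right hf.smul_right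
  have hB : ∀ u v, B u v = f u v := fun u v => rfl
  let J : Matrix ι ι F := LinearMap.toMatrix₂' F B
  have hJf : ∀ u v, u ⬝ᵥ (J *ᵥ v) = f u v := by
    intro u v
    have h1 : Matrix.toLinearMap₂' F J u v = u ⬝ᵥ (J *ᵥ v) := Matrix.toLinearMap₂'_apply' J u v
    rw [← h1]
    change Matrix.toLinearMap₂' F (LinearMap.toMatrix₂' F B) u v = f u v
    rw [Matrix.toLinearMap₂'_toMatrix']
    rfl
  have hdet : J.det ≠ 0 := by
    intro h0
    obtain ⟨v, hv, h1⟩ := Matrix.exists_mulVec_eq_zero_iff.2 h0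
    obtain ⟨u, hu⟩ := (hn v hv).1
    apply hu
    rw [← hJf, h1, dotProduct_zero]
  have hJx : (x : Matrix ι ι F)ᵀ * J * (x : Matrix ι ι F) = J := by
    have h1 : B.compl₁₂ (Matrix.toLin' (x : Matrix ι ι F)) (Matrix.toLin' (x : Matrix ι ι F)) = B := by
      apply LinearMap.ext₂
      intro u v
      rw [LinearMap.compl₁₂_apply, Matrix.toLin'_apply, Matrix.toLin'_apply]
      exact hx u v
    have h2 := LinearMap.toMatrix₂'_compl₁₂ (R := F) B (Matrix.toLin' (x : Matrix ι ι F))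
      (Matrix.toLin' (x : Matrix ι ι F))
    rw [h1, LinearMap.toMatrix'_toLin'] at h2
    exact h2.symm
  let U : GL ι F := Matrix.GeneralLinearGroup.mkOfDetNeZero J hdet
  have hU : (U : Matrix ι ι F) = J := rfl
  have h3 : ((x⁻¹ : GL ι F) : Matrix ι ι F) = ((U⁻¹ : GL ι F) : Matrix ι ι F) * (x : Matrix ι ι F)ᵀ * (U : Matrix ι ι F) := by
    have h4 : (x : Matrix ι ι F)ᵀ * J = J * ((x⁻¹ : GL ι F) : Matrix ι ι F) := by
      conv_rhs => rw [← hJx]
      rw [Matrix.mul_assoc, ← Units.val_mul, mul_inv_cancel, Units.val_one, Matrix.mul_one]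
    rw [hU, Matrix.mul_assoc, h4, ← Matrix.mul_assoc, ← hU, ← Units.val_mul, inv_mul_cancel, Units.val_one,
      Matrix.one_mul]
  rw [h3, Matrix.coe_units_inv, Matrix.charpoly_units_conj', Matrix.charpoly_transpose]

section

variable {K : Type*} [Field K]

theorem eig_iff {M : Matrix ι ι K} {c : K} : M.charpoly.IsRoot c ↔ ∃ v ≠ 0, M *ᵥ v = c • v := by
  rw [IsRoot.def, Matrix.eval_charpoly, ← Matrix.exists_mulVec_eq_zero_iff]
  constructor
  · rintro ⟨v, hv, h⟩
    refine ⟨v, hv, ?_⟩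
    rw [Matrix.sub_mulVec, sub_eq_zero, Matrix.scalar_apply, ← Matrix.smul_one_eq_diagonal, Matrix.smul_mulVec,
      Matrix.one_mulVec] at h
    exact h.symm
  · rintro ⟨v, hv, h⟩
    refine ⟨v, hv, ?_⟩
    rw [Matrix.sub_mulVec, sub_eq_zero, Matrix.scalar_apply, ← Matrix.smul_one_eq_diagonal, Matrix.smul_mulVec,
      Matrix.one_mulVec]
    exact h.symm

theorem eig_pow {M : Matrix ι ι K} {c : K} {v : ι → K} (h : M *ᵥ v = c • v) (k : ℕ) : (M ^ k) *ᵥ v = c ^ k • v := by
  induction k with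
  | zero => rw [pow_zero, pow_zero, Matrix.one_mulVec, one_smul]
  | succ k ih => rw [pow_succ, ← Matrix.mulVec_mulVec, h, Matrix.mulVec_smul, ih, smul_smul, pow_succ, mul_comm]

/-- a matrix of finite order prime to the characteristic with the only eigenvalue 1 is 1 -/
theorem eq_one_of_eig [IsAlgClosed K] {p : ℕ} [hp : Fact p.Prime] [CharP K p] {M : Matrix ι ι K} {s : ℕ}
    (hs : M ^ s = 1) (hsp : s.Coprime p) (h : ∀ c : K, M.charpoly.IsRoot c → c = 1) : M = 1 := by
  classical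
  have hsplit := IsAlgClosed.splits M.charpoly
  have h1 : M.charpoly = (X - C 1) ^ Fintype.card ι := by
    have h2 := hsplit.eq_prod_roots_of_monic M.charpoly_monic
    have h3 : M.charpoly.roots = Multiset.replicate (Fintype.card ι) 1 := by
      rw [Multiset.eq_replicate]
      refine ⟨?_, ?_⟩
      · rw [← hsplit.natDegree_eq_card_roots, M.charpoly_natDegree_eq_dim]
      · intro c hc
        exact h c (isRoot_of_mem_roots hc)
    rw [h2, h3, Multiset.map_replicate, Multiset.prod_replicate]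
  have h2 : (M - 1) ^ Fintype.card ι = 0 := by
    have h3 := Matrix.aeval_self_charpoly M
    rw [h1, map_pow, map_sub, aeval_X, aeval_C, map_one] at h3
    exact h3
  obtain ⟨k, hk⟩ : ∃ k, Fintype.card ι ≤ p ^ k := ⟨Fintype.card ι, (Nat.lt_pow_self hp.out.one_lt).le⟩
  have h3 : (M - 1) ^ p ^ k = 0 := by
    obtain ⟨d, hd⟩ := Nat.exists_eq_add_of_le hk
    rw [hd, pow_add, h2, zero_mul]
  rcases isEmpty_or_nonempty ι with hι | hι
  · exact Subsingleton.elim _ _
  have h4 : M ^ p ^ k = 1 := by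
    have : CharP (Matrix ι ι K) p := inferInstance
    rw [sub_pow_char_pow_of_commute p k (Commute.one_right M), one_pow, sub_eq_zero] at h3
    exact h3
  have h5 : orderOf M ∣ 1 := by
    have h6 := Nat.dvd_gcd (orderOf_dvd_of_pow_eq_one hs) (orderOf_dvd_of_pow_eq_one h4)
    rwa [Nat.Coprime.pow_right k hsp] at h6
  rwa [Nat.dvd_one, orderOf_eq_one_iff] at h5

end

theorem le_card_aux [Fintype F] (K : Type*) [Field K] [Algebra F K] [IsAlgClosed K] {f : (ι → F) → (ι → F) → F} (hf : IsBilinearForm f)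
    (hn : IsNondegenerateForm f) {x : GL ι F}
    (hx : ∀ u v, f ((x : Matrix ι ι F) *ᵥ u) ((x : Matrix ι ι F) *ᵥ v) = f u v) {s : ℕ} (hs : s.Prime)
    (hsF : (s : F) ≠ 0) (hx1 : x ≠ 1) (hxs : x ^ s = 1)
    (ho : ∀ k < s, 0 < k → ∃ j, Fintype.card F ^ j % s = k ∨ (s - 1) * Fintype.card F ^ j % s = k) :
    s - 1 ≤ Fintype.card ι := by
  classical
  obtain ⟨p, hp⟩ := CharP.exists F
  have hpp : p.Prime := (CharP.char_is_prime_or_zero F p).resolve_right (CharP.char_ne_zero_of_finite F p)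
  have : Fact p.Prime := ⟨hpp⟩
  have : CharP K p := charP_of_injective_algebraMap (algebraMap F K).injective p
  obtain ⟨M, hM⟩ : ∃ M : Matrix ι ι K, M = (x : Matrix ι ι F).map (algebraMap F K) := ⟨_, rfl⟩
  have hMc : M.charpoly = (x : Matrix ι ι F).charpoly.map (algebraMap F K) := by rw [hM, Matrix.charpoly_map]
  have hMs : M ^ s = 1 := by
    rw [hM, ← RingHom.mapMatrix_apply, ← map_pow, ← Units.val_pow_eq_pow_val, hxs, Units.val_one, map_one]
  have hM1 : M ≠ 1 := by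
    intro h
    apply hx1
    apply Units.ext
    have h1 : (algebraMap F K).mapMatrix (x : Matrix ι ι F) = (algebraMap F K).mapMatrix 1 := by
      rw [map_one, ← h, hM]
      rfl
    exact Matrix.map_injective (algebraMap F K).injective h1
  have hsp : s.Coprime p := by
    rw [Nat.coprime_primes hs hpp]
    rintro rfl
    exact hsF (CharP.cast_eq_zero F s)
  -- the eigenvalues
  have hsq : ∀ c : K, M.charpoly.IsRoot c → M.charpoly.IsRoot (c ^ Fintype.card F) := by
    intro c hc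
    rw [IsRoot.def, hMc, eval_map_algebraMap] at hc ⊢
    have h1 : aeval c (expand F (Fintype.card F) (x : Matrix ι ι F).charpoly) =
        aeval (c ^ Fintype.card F) (x : Matrix ι ι F).charpoly := expand_aeval _ _ _
    rw [← h1, FiniteField.expand_card, map_pow, hc, zero_pow Fintype.card_ne_zero]
  have hinv : ∀ c : K, M.charpoly.IsRoot c → M.charpoly.IsRoot c⁻¹ := by
    intro c hc
    obtain ⟨v, hv, h⟩ := eig_iff.1 hc
    have hc0 : c ≠ 0 := by
      rintro rfl
      have h1 := eig_pow h s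
      rw [hMs, Matrix.one_mulVec, zero_pow hs.ne_zero, zero_smul] at h1
      exact hv h1
    have hMi : M.charpoly = (((x⁻¹ : GL ι F) : Matrix ι ι F).map (algebraMap F K)).charpoly := by
      refine hMc.trans ?_
      rw [Matrix.charpoly_map, charpoly_inv hf hn hx]
    rw [hMi]
    apply eig_iff.2
    refine ⟨v, hv, ?_⟩
    have h2 : (((x⁻¹ : GL ι F) : Matrix ι ι F).map (algebraMap F K)) * M = 1 := by
      rw [hM]
      change (algebraMap F K).mapMatrix _ * (algebraMap F K).mapMatrix _ = 1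
      rw [← map_mul, ← Units.val_mul, inv_mul_cancel, Units.val_one, map_one]
    have h3 : (((x⁻¹ : GL ι F) : Matrix ι ι F).map (algebraMap F K)) *ᵥ (c • v) = v := by
      rw [← h, Matrix.mulVec_mulVec, h2, Matrix.one_mulVec]
    rw [Matrix.mulVec_smul] at h3
    rw [eq_inv_smul_iff₀ hc0]
    exact h3
  obtain ⟨z, hz, hz1⟩ : ∃ z : K, M.charpoly.IsRoot z ∧ z ≠ 1 := by
    by_contra hcon
    push Not at hcon
    exact hM1 (eq_one_of_eig hMs hsp hcon)
  have hzs : z ^ s = 1 := by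
    obtain ⟨v, hv, h⟩ := eig_iff.1 hz
    have h1 := eig_pow h s
    rw [hMs, Matrix.one_mulVec] at h1
    have h2 : (z ^ s - 1) • v = 0 := by rw [sub_smul, one_smul, ← h1, sub_self]
    rcases smul_eq_zero.1 h2 with h3 | h3
    · exact sub_eq_zero.1 h3
    · exact absurd h3 hv
  have : Fact s.Prime := ⟨hs⟩
  have hord : orderOf z = s := orderOf_eq_prime hzs hz1
  have hpow : ∀ j, M.charpoly.IsRoot (z ^ Fintype.card F ^ j) := by
    intro j
    induction j with
    | zero => rw [pow_zero, pow_one]; exact hz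
    | succ j ih =>
      rw [pow_succ, pow_mul]
      exact hsq _ ih
  have hmod : ∀ a : ℕ, z ^ a = z ^ (a % s) := fun a => by rw [← hord, pow_mod_orderOf]
  have hall : ∀ k < s, 0 < k → M.charpoly.IsRoot (z ^ k) := by
    intro k hk hk0
    obtain ⟨j, hj | hj⟩ := ho k hk hk0
    · rw [← hj, ← hmod]
      exact hpow j
    · rw [← hj, ← hmod]
      have h1 := hinv _ (hpow j)
      have h2 : (z ^ Fintype.card F ^ j)⁻¹ = z ^ ((s - 1) * Fintype.card F ^ j) := by
        apply inv_eq_of_mul_eq_one_right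
        rw [← pow_add]
        have h3 : Fintype.card F ^ j + (s - 1) * Fintype.card F ^ j = s * Fintype.card F ^ j := by
          obtain ⟨t, rfl⟩ : ∃ t, s = t + 1 := ⟨s - 1, by have := hs.pos; omega⟩
          rw [Nat.add_sub_cancel]
          ring
        rw [h3, pow_mul, hzs, one_pow]
      rw [← h2]
      exact h1
  -- counting
  have hne : M.charpoly ≠ 0 := M.charpoly_monic.ne_zero
  have hsub : (Finset.Ico 1 s).image (fun k => z ^ k) ⊆ M.charpoly.roots.toFinset := by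
    intro c hc
    obtain ⟨k, hk, rfl⟩ := Finset.mem_image.1 hc
    rw [Finset.mem_Ico] at hk
    rw [Multiset.mem_toFinset, mem_roots hne]
    exact hall k hk.2 hk.1
  have hinj : Set.InjOn (fun k => z ^ k) (Finset.Ico 1 s : Set ℕ) := by
    intro a ha b hb hab
    rw [Finset.coe_Ico, Set.mem_Ico] at ha hb
    have hprim : IsPrimitiveRoot z s := hord ▸ IsPrimitiveRoot.orderOf z
    exact hprim.pow_inj ha.2 hb.2 hab
  have h1 : ((Finset.Ico 1 s).image (fun k => z ^ k)).card = s - 1 := by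
    rw [Finset.card_image_of_injOn hinj, Nat.card_Ico]
  have h2 := Finset.card_le_card hsub
  have h3 : M.charpoly.roots.toFinset.card ≤ M.charpoly.roots.card := Multiset.toFinset_card_le _
  have h4 : M.charpoly.roots.card ≤ M.charpoly.natDegree := card_roots' _
  have h5 : M.charpoly.natDegree = Fintype.card ι := M.charpoly_natDegree_eq_dim
  rw [h1] at h2
  exact h2.trans (h3.trans (h4.trans h5.le))

/-- **Dimension of a self-dual module for an element of prime order.** -/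
theorem le_card_of_orbit [Fintype F] {f : (ι → F) → (ι → F) → F} (hf : IsBilinearForm f)
    (hn : IsNondegenerateForm f) {x : GL ι F}
    (hx : ∀ u v, f ((x : Matrix ι ι F) *ᵥ u) ((x : Matrix ι ι F) *ᵥ v) = f u v) {s : ℕ} (hs : s.Prime)
    (hsF : (s : F) ≠ 0) (hx1 : x ≠ 1) (hxs : x ^ s = 1)
    (ho : ∀ k < s, 0 < k → ∃ j, Fintype.card F ^ j % s = k ∨ (s - 1) * Fintype.card F ^ j % s = k) :
    s - 1 ≤ Fintype.card ι :=
  le_card_aux (AlgebraicClosure F) hf hn hx hs hsF hx1 hxs ho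

end Cfsg.Agent.H840.EP
end

-- part: H840/EP/CoTwo
section
/-!
# S3499-V: the Conway group `Co₂` (helper840)

Dimension at least 20 in every characteristic; over the field of order 2 the element of order 23 of an orthogonal
group needs dimension 22.
-/

set_option autoImplicit false
set_option maxRecDepth 100000

namespace Cfsg.Agent.H840.EP.CoTwo

open Subgroup Cfsg Cfsg.Agent.H284 Cfsg.Agent.H419.EP Cfsg.Agent.H59.EP Cfsg.Agent.H840.EP
open Cfsg.Agent.H912.Bd Cfsg.Agent.H915.LD Cfsg.Agent.H921.Spor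

variable {Q : Type} [Group Q] [Finite Q] {A : Subgroup Q} {Γ : Subgroup (MulAut Q)} {ι : Type} [Fintype ι]
    [DecidableEq ι] {F : Type} [Field F] [Fintype F] {S P : Subgroup (GL ι F)}

/-- an element of prime order in `P` -/
theorem exists_order {s : ℕ} (hs : s.Prime) (hd : s ∣ Nat.card (socle P)) : ∃ x ∈ P, x ≠ 1 ∧ x ^ s = 1 := by
  have h1 : s ∣ Nat.card P := hd.trans (Subgroup.card_quotient_dvd_card _)
  have : Fact s.Prime := ⟨hs⟩
  have : Finite P := Subtype.finite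
  obtain ⟨x, hx⟩ := exists_prime_orderOf_dvd_card' s h1
  refine ⟨x, x.2, ?_, ?_⟩
  · intro h
    have h2 : x = 1 := Subtype.ext h
    rw [h2, orderOf_one] at hx
    exact hs.one_lt.ne hx
  · have h2 : x ^ s = 1 := by rw [← hx, pow_orderOf_eq_one]
    rw [← Subgroup.coe_pow, h2, Subgroup.coe_one]

omit [Fintype F] in
/-- the polar form is invariant -/
theorem polar_fix {Qf : (ι → F) → F} {x : GL ι F} (hx : x ∈ Cfsg.Geo.omegaGL Qf) (u v : ι → F) :
    QuadraticMap.polar Qf ((x : Matrix ι ι F).mulVec u) ((x : Matrix ι ι F).mulVec v) = QuadraticMap.polar Qf u v := by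
  obtain ⟨y, -, rfl⟩ := hx
  have h1 : ∀ w, Qf (((y : GL ι F) : Matrix ι ι F).mulVec w) = Qf w := fun w => y.2 w w
  change Qf _ - Qf _ - Qf _ = _
  rw [← Matrix.mulVec_add]
  change Qf (((y : GL ι F) : Matrix ι ι F).mulVec (u + v)) - Qf (((y : GL ι F) : Matrix ι ι F).mulVec u) -
    Qf (((y : GL ι F) : Matrix ι ι F).mulVec v) = _
  rw [h1, h1, h1]
  rfl

/-- orthogonal groups over the field of order 2: an element of order 23 needs dimension 22 -/
theorem le_orth {Qf : (ι → F) → F} (hQ : Cfsg.Geo.IsNondegenerateQuadraticForm Qf) (hS : P ≤ Cfsg.Geo.omegaGL Qf)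
    (hF : Fintype.card F = 2) (hd : 23 ∣ Nat.card (socle P)) : 22 ≤ Fintype.card ι := by
  obtain ⟨x, hxP, hx1, hx⟩ := exists_order (P := P) (by norm_num) hd
  have h2 : ((23 : ℕ) : F) ≠ 0 := by
    intro h
    have h3 : ((2 : ℕ) : F) = 0 := by
      rw [← hF]
      exact FiniteField.cast_card_eq_zero F
    have h4 : ((23 : ℕ) : F) = ((2 : ℕ) : F) * 11 + 1 := by push_cast; ring
    rw [h4, h3, zero_mul, zero_add] at h
    exact one_ne_zero h
  have h3 : ∀ k < 23, 0 < k → ∃ j < 11, 2 ^ j % 23 = k ∨ (23 - 1) * 2 ^ j % 23 = k := by decide +kernel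
  exact le_card_of_orbit hQ.polar_bilinear hQ.nondegenerate (fun u v => polar_fix (hS hxP) u v)
    (s := 23) (by norm_num) h2 hx1 hx (by
      intro k hk hk0
      obtain ⟨j, -, hj⟩ := h3 k hk hk0
      exact ⟨j, by rw [hF]; exact hj⟩)

/-- the factorisation of the order -/
def l : List (ℕ × ℕ) := [(2, 18), (3, 6), (5, 3), (7, 1), (11, 1), (23, 1)]

theorem row (hg : TwoGen.{0}) (b : Big A Γ S P) (h : Spor.IsoCo2 (socle P)) : False := by
  obtain ⟨e⟩ := h
  have hcT : Nat.card Cfsg.Spor.Co2 = 42305421312000 := Cfsg.Agent.H49.CoStab.card_co2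
  have : Finite Cfsg.Spor.Co2 := Nat.finite_of_card_ne_zero (by rw [hcT]; norm_num)
  have hc : Nat.card A = (l.map fun x => x.1 ^ x.2).prod := by
    rw [card_A b e Cfsg.Agent.S2070.result, hcT]
    decide +kernel
  have hi := index_le_ubt hg b l (by decide +kernel) (by decide +kernel) hc (by decide +kernel)
  have hn : 20 ≤ Fintype.card ι := by
    by_cases h3 : ((3 : ℕ) : F) = 0
    · have h5 : (5 : F) ≠ 0 := by
        intro h5
        have h6 : (1 : F) = ((3 : ℕ) : F) * 2 - 5 := by push_cast; ring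
        rw [h3, h5, zero_mul, sub_zero] at h6
        exact one_ne_zero h6
      exact le_card b e Cfsg.Agent.S2044.result (r := 5) (by norm_num) (McL.Co2_five h5)
    · exact le_card b e Cfsg.Agent.S2044.result (r := 3) (by norm_num) (McL.Co2_three.bd (F := F) (by norm_num) h3)
  rcases Nat.lt_or_ge (Fintype.card F) 3 with hF | hF
  · have hF2 : Fintype.card F = 2 := by have := b.two_le; omega
    rcases b.kind with ⟨-, ho, -, -, -⟩ | ⟨f, -, -, h3, -, -, -⟩ | ⟨q, hq, σ, f, -, -, -, ho, -, -⟩ |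
      ⟨Qf, hQ, hS, -, -⟩
    · have h1 : 2 ^ 398 ≤ Nat.card Q := by
        refine le_trans (le_trans (Nat.pow_le_pow_right (by norm_num) ?_) (Nat.pow_le_pow_left b.two_le _)) ho
        have := Nat.pow_le_pow_left hn 2
        omega
      rw [← A.card_mul_index, hc] at h1
      have h2 := h1.trans (Nat.mul_le_mul_left _ hi)
      exact absurd h2 (by decide +kernel)
    · omega
    · rw [hF2] at hq
      have : q < 2 := by
        by_contra hcon
        push Not at hcon
        have := Nat.pow_le_pow_left hcon 2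
        omega
      interval_cases q <;> omega
    · have h22 : 22 ≤ Fintype.card ι := by
        refine le_orth hQ (hS ▸ b.le_S) hF2 ?_
        rw [Nat.card_congr e.toEquiv, hcT]
        norm_num
      exact kill b hc hi b.two_le h22 (by norm_num) (by decide +kernel)
  · exact kill b hc hi hF hn (by norm_num) (by decide +kernel)

/-- the target in the form of `H419.EP.Big` -/
theorem target (hg : TwoGen.{0}) : BigOf (fun L _ => Spor.IsoCo2 L) := fun b h => row hg b h

end Cfsg.Agent.H840.EP.CoTwo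
end

-- part: H405/EPS/Lift
section
/-!
Lifts of an elementary abelian group of order 16 through a central extension by `±1`.
-/

set_option autoImplicit false

namespace Cfsg.Agent.H405.EPS.Lift

/-- equality up to sign -/
def Pm {G : Type*} [Neg G] (a b : G) : Prop := a = b ∨ a = -b

section

variable {G : Type*} [Group G] [HasDistribNeg G]

/-- conjugate of `w` under `H ^ k` -/
def cj (H w : G) (k : ℕ) : G := H ^ k * w * (H ^ k)⁻¹

theorem cj_zero (H w : G) : cj H w 0 = w := by simp [cj]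

theorem cj_succ (H w : G) (k : ℕ) : cj H w (k + 1) = H * cj H w k * H⁻¹ := by
  simp only [cj, pow_succ', mul_inv_rev, mul_assoc]

theorem neg_inv' (a : G) : (-a)⁻¹ = -a⁻¹ := by
  apply inv_eq_of_mul_eq_one_right
  simp

/-- In a group with `-1`, five elements of square `-1` anticommuting pairwise have product different from `±1`. -/
theorem no_five (h1 : (1 : G) ≠ -1) {A B C D E : G} (hA : A * A = -1) (hB : B * B = -1) (hC : C * C = -1)
    (hD : D * D = -1) (hE : E * E = -1) (hAB : B * A = -(A * B)) (hAC : C * A = -(A * C)) (hAD : D * A = -(A * D))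
    (hBC : C * B = -(B * C)) (hBD : D * B = -(B * D)) (hCD : D * C = -(C * D))
    (hp : A * B * C * D * E = 1 ∨ A * B * C * D * E = -1) : False := by
  have hA' : ∀ x, A * (A * x) = -x := fun x => by rw [← mul_assoc, hA]; simp
  have hB' : ∀ x, B * (B * x) = -x := fun x => by rw [← mul_assoc, hB]; simp
  have hC' : ∀ x, C * (C * x) = -x := fun x => by rw [← mul_assoc, hC]; simp
  have hAB' : ∀ x, B * (A * x) = -(A * (B * x)) := fun x => by rw [← mul_assoc, hAB]; simp [mul_assoc]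
  have hAC' : ∀ x, C * (A * x) = -(A * (C * x)) := fun x => by rw [← mul_assoc, hAC]; simp [mul_assoc]
  have hAD' : ∀ x, D * (A * x) = -(A * (D * x)) := fun x => by rw [← mul_assoc, hAD]; simp [mul_assoc]
  have hBC' : ∀ x, C * (B * x) = -(B * (C * x)) := fun x => by rw [← mul_assoc, hBC]; simp [mul_assoc]
  have hBD' : ∀ x, D * (B * x) = -(B * (D * x)) := fun x => by rw [← mul_assoc, hBD]; simp [mul_assoc]
  have hCD' : ∀ x, D * (C * x) = -(C * (D * x)) := fun x => by rw [← mul_assoc, hCD]; simp [mul_assoc]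
  have h2 : (A * B * C * D) * (A * B * C * D) = 1 := by
    simp only [mul_assoc, hA', hB', hC', hA, hB, hC, hAB', hAC', hAD', hBC', hBD', hCD', hD, mul_neg, neg_neg, mul_one]
  have h3 : (A * B * C * D) * (A * B * C * D) = -1 := by
    have h4 : A * B * C * D = E ∨ A * B * C * D = -E := by
      have h5 : A * B * C * D * E * E = -(A * B * C * D) := by
        rw [mul_assoc (A * B * C * D), hE, mul_neg, mul_one]
      rcases hp with hp | hp
      · right
        rw [hp, one_mul] at h5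
        rw [h5, neg_neg]
      · left
        rw [hp, neg_mul, one_mul] at h5
        exact (neg_injective h5).symm
    rcases h4 with h4 | h4
    · rw [h4, hE]
    · rw [h4, neg_mul_neg, hE]
  exact h1 (h2.symm.trans h3)

theorem cj_mul (H a b : G) (k : ℕ) : cj H (a * b) k = cj H a k * cj H b k := by simp only [cj, mul_assoc, _root_.inv_mul_cancel_left]

theorem cj_neg (H a : G) (k : ℕ) : cj H (-a) k = -cj H a k := by simp [cj]

theorem cj_one (H : G) (k : ℕ) : cj H 1 k = 1 := by simp [cj]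

theorem cj_cj (H a : G) (k l : ℕ) : cj H (cj H a k) l = cj H a (k + l) := by
  simp only [cj]
  rw [add_comm k l, pow_add]
  simp only [mul_assoc, mul_inv_rev]

theorem anti {A B : G} (hA : A * A = -1) (hB : B * B = -1) (hAB : (A * B) * (A * B) = -1) :
    B * A = -(A * B) := by
  have h1 : A * ((A * B) * (A * B)) * B = B * A := by
    calc A * ((A * B) * (A * B)) * B = (A * A) * (B * A) * (B * B) := by simp only [mul_assoc]
      _ = B * A := by rw [hA, hB]; simp
  rw [← h1, hAB]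
  simp

theorem comm_of {A B : G} (hA : A * A = 1) (hB : B * B = 1) (hAB : (A * B) * (A * B) = 1) :
    B * A = A * B := by
  have h1 : A * ((A * B) * (A * B)) * B = B * A := by
    calc A * ((A * B) * (A * B)) * B = (A * A) * (B * A) * (B * B) := by simp only [mul_assoc]
      _ = B * A := by rw [hA, hB]; simp
  rw [← h1, hAB]
  simp

theorem pm_sq {X w a : G} (h : Pm (X * w * X⁻¹) a) : a * a = X * (w * w) * X⁻¹ := by
  rcases h with h | h
  · rw [← h]; simp [mul_assoc]
  · have : a = -(X * w * X⁻¹) := by rw [h, neg_neg]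
    rw [this]; simp only [mul_assoc, _root_.mul_neg, _root_.neg_mul, _root_.inv_mul_cancel_left, _root_.neg_neg]

theorem five (H w : G) (h5 : cj H w 5 = w) : w * cj H w 1 * cj H w 2 * cj H w 3 * cj H w 4 = (w * H) ^ 5 * (H ^ 5)⁻¹ := by
  simp only [cj, pow_succ, pow_zero, one_mul]
  group

/-- The lift of the elementary abelian group. -/
theorem lift (h1 : (1 : G) ≠ -1) (w H X Y : G) (hw : w * w = 1 ∨ w * w = -1) (hH : H ^ 5 = 1 ∨ H ^ 5 = -1)
    (hX : Pm (X * w * X⁻¹) (w * cj H w 1)) (hY : Pm (Y * w * Y⁻¹) (w * cj H w 2))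
    (hp : (w * H) ^ 5 = 1 ∨ (w * H) ^ 5 = -1) :
    ∃ u : G, (u = w ∨ u = -w) ∧ cj H u 5 = u ∧ u * u = 1 ∧ cj H u 1 * u = u * cj H u 1 ∧ cj H u 2 * u = u * cj H u 2 ∧
      u * cj H u 1 * cj H u 2 * cj H u 3 = cj H u 4 ∧ Pm (X * u * X⁻¹) (u * cj H u 1) ∧
      Pm (Y * u * Y⁻¹) (u * cj H u 2) := by
  have h5 : cj H w 5 = w := by
    rw [cj]
    rcases hH with h | h <;> rw [h] <;> simp [neg_inv']
  have hprod : w * cj H w 1 * cj H w 2 * cj H w 3 * cj H w 4 = 1 ∨
      w * cj H w 1 * cj H w 2 * cj H w 3 * cj H w 4 = -1 := by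
    rw [five H w h5]
    rcases hH with h | h <;> rcases hp with h' | h' <;> rw [h, h'] <;> simp [neg_inv']
  have e1 := pm_sq hX
  have e2 := pm_sq hY
  rcases hw with hw | hw
  · rw [hw, mul_one, mul_inv_cancel] at e1 e2
    have sq : ∀ k, cj H w k * cj H w k = 1 := fun k => by rw [← cj_mul, hw, cj_one]
    have c1 := comm_of hw (sq 1) e1
    have c2 := comm_of hw (sq 2) e2
    have hprod' : w * cj H w 1 * cj H w 2 * cj H w 3 = cj H w 4 ∨
        w * cj H w 1 * cj H w 2 * cj H w 3 = -cj H w 4 := by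
      have h6 : w * cj H w 1 * cj H w 2 * cj H w 3 * cj H w 4 * cj H w 4 = w * cj H w 1 * cj H w 2 * cj H w 3 := by
        rw [mul_assoc (w * cj H w 1 * cj H w 2 * cj H w 3), sq, mul_one]
      rcases hprod with h | h <;> rw [h] at h6
      · left; rw [← h6, one_mul]
      · right; rw [← h6, neg_mul, one_mul]
    rcases hprod' with h | h
    · exact ⟨w, Or.inl rfl, h5, hw, c1, c2, h, hX, hY⟩
    · refine ⟨-w, Or.inr rfl, by rw [cj_neg, h5], by simpa only [_root_.mul_neg, _root_.neg_mul, _root_.neg_neg] using hw, ?_, ?_, ?_, ?_, ?_⟩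
      · rw [cj_neg, neg_mul_neg, neg_mul_neg, c1]
      · rw [cj_neg, neg_mul_neg, neg_mul_neg, c2]
      · simp only [cj_neg, neg_mul_neg, mul_neg, neg_mul, neg_neg]
        exact h
      · rw [cj_neg, neg_mul_neg]
        rcases hX with h | h
        · right; simp [h]
        · left; simp [h]
      · rw [cj_neg, neg_mul_neg]
        rcases hY with h | h
        · right; simp [h]
        · left; simp [h]
  · exfalso
    rw [hw] at e1 e2
    have e1' : w * cj H w 1 * (w * cj H w 1) = -1 := by rw [e1]; simp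
    have e2' : w * cj H w 2 * (w * cj H w 2) = -1 := by rw [e2]; simp
    have sq : ∀ k, cj H w k * cj H w k = -1 := fun k => by rw [← cj_mul, hw, cj_neg, cj_one]
    have c1 := anti hw (sq 1) e1'
    have c2 := anti hw (sq 2) e2'
    have C1 : ∀ k, cj H w (k + 1) * cj H w k = -(cj H w k * cj H w (k + 1)) := by
      intro k
      have := congrArg (fun g => cj H g k) c1
      simp only [cj_mul, cj_neg, cj_cj] at this
      rwa [add_comm 1 k] at this
    have C2 : ∀ k, cj H w (k + 2) * cj H w k = -(cj H w k * cj H w (k + 2)) := by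
      intro k
      have := congrArg (fun g => cj H g k) c2
      simp only [cj_mul, cj_neg, cj_cj] at this
      rwa [add_comm 2 k] at this
    have C3 : cj H w 3 * w = -(w * cj H w 3) := by
      have := C2 3
      rw [show 3 + 2 = 5 from rfl, h5] at this
      rw [this, neg_neg]
    exact no_five h1 hw (sq 1) (sq 2) (sq 3) (sq 4) c1 c2 C3 (C1 1) (C2 1) (C1 2) hprod

end

end Cfsg.Agent.H405.EPS.Lift
end

-- part: H405/EPS/Dims
section
/-!
Dimensions of the weight spaces of an elementary abelian group of order 16 with a symmetry of order 5.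
-/

set_option autoImplicit false

namespace Cfsg.Agent.H405.EPS.Dims

open Module Cfsg.Agent.H405.EPS.Lift

section

variable {F V : Type*} [Field F] [AddCommGroup V] [Module F V]

/-- signs -/
def sg (F : Type*) [Field F] (b : Bool) : F := if b then -1 else 1

@[simp] theorem sg_true : sg F true = -1 := rfl
@[simp] theorem sg_false : sg F false = 1 := rfl

/-- the eigenspace of `w` for the sign `b` -/
def E (w : (Module.End F V)ˣ) (b : Bool) : Submodule F V := Module.End.eigenspace (w : Module.End F V) (sg F b)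

theorem mem_E {w : (Module.End F V)ˣ} {b : Bool} {x : V} : x ∈ E w b ↔ (w : Module.End F V) x = sg F b • x := by
  rw [E, Module.End.mem_eigenspace_iff]

theorem two_split {w : (Module.End F V)ˣ} (h2 : (2 : F) ≠ 0) [FiniteDimensional F V] (hw : w * w = 1)
    (U : Submodule F V) (hU : ∀ x ∈ U, (w : Module.End F V) x ∈ U) :
    finrank F U = finrank F (U ⊓ E w false : Submodule F V) + finrank F (U ⊓ E w true : Submodule F V) := by
  have hww : ∀ x, (w : Module.End F V) ((w : Module.End F V) x) = x := by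
    intro x
    have : ((w * w : (Module.End F V)ˣ) : Module.End F V) x = x := by rw [hw]; rfl
    exact this
  rw [← Submodule.finrank_sup_add_finrank_inf_eq]
  have e1 : (U ⊓ E w false) ⊓ (U ⊓ E w true) = ⊥ := by
    rw [eq_bot_iff]
    intro x hx
    obtain ⟨⟨-, hx1⟩, -, hx2⟩ := hx
    rw [SetLike.mem_coe, mem_E] at hx1 hx2
    rw [hx1, sg_false, sg_true, one_smul, neg_smul, one_smul] at hx2
    have h3 : (2 : F) • x = 0 := by rw [two_smul]; nth_rewrite 1 [hx2]; simp
    rw [Submodule.mem_bot]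
    exact (smul_eq_zero.1 h3).resolve_left h2
  have e2 : (U ⊓ E w false) ⊔ (U ⊓ E w true) = U := by
    apply le_antisymm (sup_le inf_le_left inf_le_left)
    intro x hx
    have h3 : x = (2 : F)⁻¹ • (x + (w : Module.End F V) x) + (2 : F)⁻¹ • (x - (w : Module.End F V) x) := by
      rw [← smul_add, add_add_sub_cancel, ← two_smul F x, smul_smul, inv_mul_cancel₀ h2, one_smul]
    rw [h3]
    apply Submodule.add_mem_sup
    · refine ⟨U.smul_mem _ (U.add_mem hx (hU x hx)), ?_⟩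
      rw [SetLike.mem_coe, mem_E, map_smul, map_add, hww, sg_false, one_smul, add_comm]
    · refine ⟨U.smul_mem _ (U.sub_mem hx (hU x hx)), ?_⟩
      rw [SetLike.mem_coe, mem_E, map_smul, map_sub, hww, sg_true, neg_smul, one_smul, ← smul_neg, neg_sub]
  rw [e1, e2, finrank_bot, add_zero]

/-- stability -/
def St (w : (Module.End F V)ˣ) (U : Submodule F V) : Prop := ∀ x ∈ U, (w : Module.End F V) x ∈ U

theorem St.top (w : (Module.End F V)ˣ) : St w (⊤ : Submodule F V) := fun _ _ => trivial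

theorem St.inf {w : (Module.End F V)ˣ} {U U' : Submodule F V} (h : St w U) (h' : St w U') : St w (U ⊓ U') :=
  fun x hx => ⟨h x hx.1, h' x hx.2⟩

theorem St.E {w v : (Module.End F V)ˣ} (h : w * v = v * w) (b : Bool) : St w (E v b) := by
  intro x hx
  rw [mem_E] at hx ⊢
  have h1 : (v : Module.End F V) ((w : Module.End F V) x) = (w : Module.End F V) ((v : Module.End F V) x) := by
    have : ((v * w : (Module.End F V)ˣ) : Module.End F V) x = ((w * v : (Module.End F V)ˣ) : Module.End F V) x := by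
      rw [h]
    exact this
  rw [h1, hx, map_smul]

/-- the linear equivalence of a unit -/
def le (g : (Module.End F V)ˣ) : V ≃ₗ[F] V := LinearMap.GeneralLinearGroup.toLinearEquiv g

theorem le_symm_apply (g : (Module.End F V)ˣ) (x : V) :
    (le g).symm x = ((g⁻¹ : (Module.End F V)ˣ) : Module.End F V) x := rfl

theorem units_mul_apply (g w : (Module.End F V)ˣ) (x : V) :
    ((g * w : (Module.End F V)ˣ) : Module.End F V) x = (g : Module.End F V) ((w : Module.End F V) x) := rfl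

theorem inv_apply (g : (Module.End F V)ˣ) (x : V) :
    ((g⁻¹ : (Module.End F V)ˣ) : Module.End F V) ((g : Module.End F V) x) = x := by
  rw [← units_mul_apply, inv_mul_cancel]; rfl

theorem apply_inv (g : (Module.End F V)ˣ) (x : V) :
    (g : Module.End F V) (((g⁻¹ : (Module.End F V)ˣ) : Module.End F V) x) = x := by
  rw [← units_mul_apply, mul_inv_cancel]; rfl

theorem E_conj (g w : (Module.End F V)ˣ) (b : Bool) :
    (E w b).map (le g : V →ₗ[F] V) = E (g * w * g⁻¹) b := by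
  ext x
  rw [Submodule.mem_map_equiv, mem_E, mem_E, le_symm_apply, units_mul_apply, units_mul_apply]
  constructor
  · intro h
    rw [h, map_smul, apply_inv]
  · intro h
    have := congrArg (fun y => ((g⁻¹ : (Module.End F V)ˣ) : Module.End F V) y) h
    simp only [inv_apply, map_smul] at this
    exact this

theorem map_inf_le (g : (Module.End F V)ˣ) (U U' : Submodule F V) :
    (U ⊓ U').map (le g : V →ₗ[F] V) = U.map (le g : V →ₗ[F] V) ⊓ U'.map (le g : V →ₗ[F] V) := by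
  ext x
  simp only [Submodule.mem_inf, Submodule.mem_map_equiv]

theorem finrank_map_le (g : (Module.End F V)ˣ) (U : Submodule F V) :
    finrank F (U.map (le g : V →ₗ[F] V)) = finrank F U := LinearEquiv.finrank_map_eq (le g) U

theorem sg_mul_sg (b : Bool) : sg F b * sg F b = 1 := by cases b <;> simp

theorem neg_apply' (w : (Module.End F V)ˣ) (x : V) :
    ((-w : (Module.End F V)ˣ) : Module.End F V) x = -((w : Module.End F V) x) := rfl

theorem E_neg (w : (Module.End F V)ˣ) (b : Bool) : E (-w) b = E w (!b) := by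
  ext x
  rw [mem_E, mem_E, neg_apply']
  cases b
  · simp only [sg_false, Bool.not_false, sg_true, one_smul, neg_smul]
    exact neg_eq_iff_eq_neg
  · simp only [sg_false, Bool.not_true, sg_true, one_smul, neg_smul]
    exact ⟨fun h => neg_injective h, fun h => by rw [h]⟩

theorem sg_xor (a b : Bool) : sg F (xor a b) = sg F a * sg F b := by cases a <;> cases b <;> simp

/-- eigenspaces of a product, split by the first factor -/
theorem E_mul_inf {A B : (Module.End F V)ˣ} (hA : A * A = 1) (a b : Bool) :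
    E (A * B) b ⊓ E A a = E A a ⊓ E B (xor a b) := by
  ext x
  rw [Submodule.mem_inf, Submodule.mem_inf, mem_E, mem_E, mem_E, units_mul_apply, and_comm]
  constructor
  · rintro ⟨h1, h2⟩
    refine ⟨h1, ?_⟩
    have h3 : (A : Module.End F V) ((A : Module.End F V) ((B : Module.End F V) x)) = (B : Module.End F V) x := by
      rw [← units_mul_apply A A, hA]; rfl
    rw [← h3, h2, map_smul, h1, smul_smul, sg_xor, mul_comm]
  · rintro ⟨h1, h2⟩
    refine ⟨h1, ?_⟩
    rw [h2, map_smul, h1, smul_smul, sg_xor, mul_comm (sg F a), mul_assoc, sg_mul_sg, mul_one]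

/-- the joint eigenspaces for four commuting elements with product -/
theorem E_four (A B C D : (Module.End F V)ˣ) (a b c d : Bool) :
    E B a ⊓ E C b ⊓ E D c ⊓ E (A * B * C * D) d = E A (xor (xor (xor a b) c) d) ⊓ E B a ⊓ E C b ⊓ E D c := by
  ext x
  simp only [Submodule.mem_inf, mem_E, units_mul_apply]
  constructor
  · rintro ⟨⟨⟨h1, h2⟩, h3⟩, h4⟩
    refine ⟨⟨⟨?_, h1⟩, h2⟩, h3⟩
    rw [h3, map_smul, map_smul, map_smul, h2, map_smul, map_smul, h1, map_smul] at h4
    have h5 : (A : Module.End F V) x = (sg F c * sg F b * sg F a) • (sg F c • sg F b • sg F a • (A : Module.End F V) x) := by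
      rw [smul_smul, smul_smul, smul_smul]
      have : sg F c * sg F b * sg F a * sg F c * sg F b * sg F a = 1 := by
        calc sg F c * sg F b * sg F a * sg F c * sg F b * sg F a
            = (sg F a * sg F a) * (sg F b * sg F b) * (sg F c * sg F c) := by ring
          _ = 1 := by simp only [sg_mul_sg, mul_one]
      rw [this, one_smul]
    rw [h5, h4, smul_smul]
    congr 1
    simp only [sg_xor]
    ring
  · rintro ⟨⟨⟨h0, h1⟩, h2⟩, h3⟩
    refine ⟨⟨⟨h1, h2⟩, h3⟩, ?_⟩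
    rw [h3, map_smul, map_smul, map_smul, h2, map_smul, map_smul, h1, map_smul, h0]
    simp only [smul_smul, sg_xor]
    congr 1
    calc sg F c * (sg F b * (sg F a * (sg F a * sg F b * sg F c * sg F d)))
        = (sg F a * sg F a) * (sg F b * sg F b) * (sg F c * sg F c) * sg F d := by ring
      _ = sg F d := by simp only [sg_mul_sg, one_mul]

theorem finrank_pm {X w a : (Module.End F V)ˣ} [FiniteDimensional F V] (h2 : (2 : F) ≠ 0) (hw : w * w = 1)
    (h : Pm (X * w * X⁻¹) a) :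
    finrank F (E a true) = finrank F (E w true) ∨ finrank F (E a true) + finrank F (E w true) = finrank F V := by
  rcases h with h | h
  · left
    rw [← h, ← E_conj, finrank_map_le]
  · right
    have h1 : a = -(X * w * X⁻¹) := by rw [h, neg_neg]
    rw [h1, E_neg, ← E_conj, finrank_map_le, ← finrank_top F V, two_split h2 hw ⊤ (St.top w), top_inf_eq, top_inf_eq]
    rfl

theorem arith (n : ℕ) (d1 : Bool → ℕ) (d2 : Bool → Bool → ℕ) (d3 : Bool → Bool → Bool → ℕ)
    (d4 : Bool → Bool → Bool → Bool → ℕ) (dAC : Bool → Bool → ℕ) (x12 x13 : ℕ)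
    (t0 : n = d1 false + d1 true) (t1 : ∀ a, d1 a = d2 a false + d2 a true)
    (t2 : ∀ a b, d2 a b = d3 a b false + d3 a b true) (t3 : ∀ a b c, d3 a b c = d4 a b c false + d4 a b c true)
    (t4 : x12 = d2 false true + d2 true false) (t5 : x13 = dAC false true + dAC true false)
    (t6 : ∀ a c, dAC a c = d3 a false c + d3 a true c)
    (t7 : ∀ a b c d, d4 a b c d = d4 (xor (xor (xor a b) c) d) a b c)
    (t8 : x12 = d1 true ∨ x12 + d1 true = n) (t9 : x13 = d1 true ∨ x13 + d1 true = n)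
    (hn : n = 13 ∨ n = 14) : d1 true = 0 := by
  simp only [Bool.forall_bool] at t1 t2 t3 t6 t7
  simp only [Bool.xor_false, Bool.xor_true, Bool.not_false, Bool.not_true] at t7
  omega

/-- **Dimensions.** -/
theorem dims [FiniteDimensional F V] (h2 : (2 : F) ≠ 0) (u H X Y : (Module.End F V)ˣ) (h5 : cj H u 5 = u)
    (hu : u * u = 1) (c1 : cj H u 1 * u = u * cj H u 1) (c2 : cj H u 2 * u = u * cj H u 2)
    (hp : u * cj H u 1 * cj H u 2 * cj H u 3 = cj H u 4) (hX : Pm (X * u * X⁻¹) (u * cj H u 1))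
    (hY : Pm (Y * u * Y⁻¹) (u * cj H u 2)) (hn : finrank F V = 13 ∨ finrank F V = 14) : u = 1 := by
  have sq : ∀ k, cj H u k * cj H u k = 1 := fun k => by rw [← cj_mul, hu, cj_one]
  have C1 : ∀ k, cj H u (k + 1) * cj H u k = cj H u k * cj H u (k + 1) := by
    intro k
    have := congrArg (fun g => cj H g k) c1
    simp only [cj_mul, cj_cj] at this
    rwa [add_comm 1 k] at this
  have C2 : ∀ k, cj H u (k + 2) * cj H u k = cj H u k * cj H u (k + 2) := by
    intro k
    have := congrArg (fun g => cj H g k) c2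
    simp only [cj_mul, cj_cj] at this
    rwa [add_comm 2 k] at this
  have C3 : cj H u 3 * u = u * cj H u 3 := by
    have := C2 3
    rw [show 3 + 2 = 5 from rfl, h5] at this
    exact this.symm
  have e1 := C1 1
  have e2 := C2 1
  have e3 := C1 2
  have hH : ∀ k, H * cj H u k * H⁻¹ = cj H u (k + 1) := fun k => (cj_succ H u k).symm
  have g1 := hH 0
  have g2 := hH 1
  have g3 := hH 2
  have g4 := hH 3
  rw [cj_zero] at g1
  simp only [zero_add, Nat.reduceAdd] at g1 g2 g3 g4 e1 e2 e3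
  rw [← hp] at g4
  set A := u with hA
  set B := cj H u 1 with hB
  set C := cj H u 2 with hC
  set D := cj H u 3 with hD
  have sB : B * B = 1 := sq 1
  have sC : C * C = 1 := sq 2
  have sD : D * D = 1 := sq 3
  -- sixteen weight spaces
  have t0 : finrank F V = finrank F (E A false) + finrank F (E A true) := by
    rw [← finrank_top F V, two_split h2 hu ⊤ (St.top A), top_inf_eq, top_inf_eq]
  have t1 : ∀ a, finrank F (E A a) = finrank F (E A a ⊓ E B false : Submodule F V) +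
      finrank F (E A a ⊓ E B true : Submodule F V) := fun a => two_split h2 sB _ (St.E c1 a)
  have t2 : ∀ a b, finrank F (E A a ⊓ E B b : Submodule F V) = finrank F (E A a ⊓ E B b ⊓ E C false : Submodule F V) +
      finrank F (E A a ⊓ E B b ⊓ E C true : Submodule F V) := fun a b =>
    two_split h2 sC _ ((St.E c2 a).inf (St.E e1 b))
  have t3 : ∀ a b c, finrank F (E A a ⊓ E B b ⊓ E C c : Submodule F V) =
      finrank F (E A a ⊓ E B b ⊓ E C c ⊓ E D false : Submodule F V) +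
      finrank F (E A a ⊓ E B b ⊓ E C c ⊓ E D true : Submodule F V) := fun a b c =>
    two_split h2 sD _ (((St.E C3 a).inf (St.E e2 b)).inf (St.E e3 c))
  have t4 : finrank F (E (A * B) true) = finrank F (E A false ⊓ E B true : Submodule F V) +
      finrank F (E A true ⊓ E B false : Submodule F V) := by
    rw [two_split h2 hu (E (A * B) true) (St.E (by rw [mul_assoc, c1]) true), E_mul_inf hu, E_mul_inf hu]
    rfl
  have t5 : finrank F (E (A * C) true) = finrank F (E A false ⊓ E C true : Submodule F V) +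
      finrank F (E A true ⊓ E C false : Submodule F V) := by
    rw [two_split h2 hu (E (A * C) true) (St.E (by rw [mul_assoc, c2]) true), E_mul_inf hu, E_mul_inf hu]
    rfl
  have t6 : ∀ a c, finrank F (E A a ⊓ E C c : Submodule F V) = finrank F (E A a ⊓ E B false ⊓ E C c : Submodule F V) +
      finrank F (E A a ⊓ E B true ⊓ E C c : Submodule F V) := fun a c => by
    rw [two_split h2 sB (E A a ⊓ E C c) ((St.E c1 a).inf (St.E e1.symm c)), inf_right_comm, inf_right_comm (E A a) (E C c)]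
  have t7 : ∀ a b c d, finrank F (E A a ⊓ E B b ⊓ E C c ⊓ E D d : Submodule F V) =
      finrank F (E A (xor (xor (xor a b) c) d) ⊓ E B a ⊓ E C b ⊓ E D c : Submodule F V) := by
    intro a b c d
    rw [← finrank_map_le H, map_inf_le, map_inf_le, map_inf_le, E_conj, E_conj, E_conj, E_conj, g1, g2, g3, g4, E_four]
  have t8 := finrank_pm h2 hu hX
  have t9 := finrank_pm h2 hu hY
  have hz : finrank F (E A true) = 0 :=
    arith (finrank F V) (fun a => finrank F (E A a)) (fun a b => finrank F (E A a ⊓ E B b : Submodule F V))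
      (fun a b c => finrank F (E A a ⊓ E B b ⊓ E C c : Submodule F V))
      (fun a b c d => finrank F (E A a ⊓ E B b ⊓ E C c ⊓ E D d : Submodule F V))
      (fun a c => finrank F (E A a ⊓ E C c : Submodule F V)) _ _ t0 t1 t2 t3 t4 t5 t6 t7 t8 t9 hn
  have h7 : finrank F (E A false) = finrank F V := by omega
  have h8 : E A false = ⊤ := Submodule.eq_top_of_finrank_eq h7
  apply Units.ext
  ext x
  have h9 : x ∈ E A false := by rw [h8]; trivial
  rw [mem_E, sg_false, one_smul] at h9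
  exact h9

end

end Cfsg.Agent.H405.EPS.Dims
end

-- part: H405/EPS/Words
section
/-!
Explicit elements of the Suzuki sporadic group (as words in its seven generating involutions) together with the
relations used for its projective representations of small degree.

* `v`, `h`, `x`, `y`: the conjugates of the involution `v` under powers of `h` (order 5) commute and have product 1,
  so they generate an elementary abelian group of order 16; `x`, `y` conjugate `v` to `v (h v h⁻¹)`, `v (h² v h⁻²)`.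
* `z`, `t`: the conjugates of `z` (order 3) under powers of `t` (order 11) commute and have product 1.
-/

set_option autoImplicit false
set_option maxRecDepth 100000

namespace Cfsg.Agent.H405.EPS.Words

open Cfsg.Spor Cfsg.Agent.Lib.PermNet Cfsg.Agent.Lib.PermNetOrbit Cfsg.Agent.SporadicRecognition.SuzPhi
  Cfsg.Agent.SporadicRecognition.SuzBound Cfsg.Agent.SporadicRecognition.SuzOrder
  Cfsg.Agent.SuzThree.Nets Cfsg.Agent.SuzThree.Basic

/-- word of `v` -/ def vW : List Suz.Gen := [.f, .g, .b, .a, .b, .g, .f]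
/-- word of `h` -/ def hW : List Suz.Gen := [.a, .c, .b, .f]
/-- word of `x` -/ def xW : List Suz.Gen := [.a, .b, .c, .a, .b, .a]
/-- word of `y` -/ def yW : List Suz.Gen := [.c, .b, .f, .a, .b, .c]
/-- word of `t` -/ def tW : List Suz.Gen := [.c, .b, .d, .e, .f, .g]
/-- word of `z` -/ def zW : List Suz.Gen :=
  [.a, .b, .f, .c, .d, .a, .b, .a, .b, .c, .d, .e, .c, .b, .a, .b, .a, .d, .c, .f, .b, .a]

theorem rel (w : List Suz.Gen) (hc : t5 (wd w) = true) : el w = 1 := eq_one_of_t5 (Rep.el w) hc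

theorem el_pow (w : List Suz.Gen) (k : ℕ) : el (List.replicate k w).flatten = el w ^ k := by
  induction k with
  | zero => simp [el]
  | succ k ih => rw [List.replicate_succ, List.flatten_cons, el_append, ih, pow_succ']

/-- words of the powers -/
def pw (w : List Suz.Gen) (k : ℕ) : List Suz.Gen := (List.replicate k w).flatten

theorem el_pw (w : List Suz.Gen) (k : ℕ) : el (pw w k) = el w ^ k := el_pow w k

/-- word of the conjugate `u ^ k * w * (u ^ k)⁻¹` -/
def cj (u w : List Suz.Gen) (k : ℕ) : List Suz.Gen := pw u k ++ w ++ (pw u k).reverse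

theorem el_cj (u w : List Suz.Gen) (k : ℕ) : el (cj u w k) = el u ^ k * el w * (el u ^ k)⁻¹ := by
  rw [cj, el_append, el_append, el_reverse, el_pw]

theorem eq_of_rel (w w' : List Suz.Gen) (hc : t5 (wd (w ++ w'.reverse)) = true) : el w = el w' := by
  have h1 := rel _ hc
  rw [el_append, el_reverse] at h1
  exact mul_inv_eq_one.mp h1

theorem ne_one_of_mv {w : List Suz.Gen} {p : ℕ} (hc : mv (wd w) p p = false) : el w ≠ 1 := by
  intro h
  have hφ : wperm (wd w) = 1 := by rw [← φ_el, h, map_one]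
  have h1 : appWord (wd w) (2 ^ p) = 2 ^ p := by
    apply Nat.eq_of_testBit_eq
    intro i
    rw [testBit_appWord (wd_ok w), hφ]
    rfl
  rw [mv] at hc
  have h2 : Nat.beq (appWord (wd w) (Nat.pow 2 p)) (Nat.pow 2 p) = true := by
    rw [show Nat.pow 2 p = 2 ^ p from rfl, h1]
    exact Nat.beq_refl _
  rw [h2] at hc
  exact Bool.noConfusion hc

theorem v_ne : el vW ≠ 1 := ne_one_of_mv (p := 0) (by decide +kernel)

theorem z_ne : el zW ≠ 1 := ne_one_of_mv (p := 1575) (by decide +kernel)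

theorem v_sq : el vW * el vW = 1 := by
  rw [← el_append]; exact rel _ (by decide +kernel)

theorem h_pow : el hW ^ 5 = 1 := by
  rw [← el_pw]; exact rel _ (by decide +kernel)

theorem vh_pow : (el vW * el hW) ^ 5 = 1 := by
  rw [← el_append, ← el_pw]; exact rel _ (by decide +kernel)

theorem x_conj : el xW * el vW * (el xW)⁻¹ = el vW * (el hW * el vW * (el hW)⁻¹) := by
  have := eq_of_rel (cj xW vW 1) (vW ++ cj hW vW 1) (by decide +kernel)
  simpa only [el_append, el_cj, _root_.pow_one] using this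

theorem y_conj : el yW * el vW * (el yW)⁻¹ = el vW * (el hW ^ 2 * el vW * (el hW ^ 2)⁻¹) := by
  have := eq_of_rel (cj yW vW 1) (vW ++ cj hW vW 2) (by decide +kernel)
  simpa only [el_append, el_cj, _root_.pow_one] using this

theorem z_pow : el zW ^ 3 = 1 := by
  rw [← el_pw]; exact rel _ (by decide +kernel)

theorem t_pow : el tW ^ 11 = 1 := by
  rw [← el_pw]; exact rel _ (by decide +kernel)

theorem zt_pow : (el zW * el tW) ^ 11 = 1 := by
  rw [← el_append, ← el_pw]; exact rel _ (by decide +kernel)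

theorem zcomm (k : ℕ) (hk : k ≤ 5) : el zW * (el tW ^ k * el zW * (el tW ^ k)⁻¹) =
    (el tW ^ k * el zW * (el tW ^ k)⁻¹) * el zW := by
  have h1 : t5 (wd ((zW ++ cj tW zW k) ++ (cj tW zW k ++ zW).reverse)) = true := by
    interval_cases k
    · decide +kernel
    · decide +kernel
    · decide +kernel
    · decide +kernel
    · decide +kernel
    · decide +kernel
  have := eq_of_rel (zW ++ cj tW zW k) (cj tW zW k ++ zW) h1
  simpa only [el_append, el_cj] using this

end Cfsg.Agent.H405.EPS.Words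
end

-- part: H405/EPS/Odd
section
/-!
The Suzuki group and its double cover have no faithful representation of dimension 13 or 14 in odd characteristic (with
scalars `±1` only).
-/

set_option autoImplicit false

namespace Cfsg.Agent.H405.EPS.Odd

open Module Cfsg.Agent.H405.EPS.Lift Cfsg.Agent.H405.EPS.Dims Cfsg.Agent.H405.EPS.Words Cfsg.Spor
  Cfsg.Agent.SporadicRecognition.SuzPhi Cfsg.Agent.SporadicRecognition.SuzBound
  Cfsg.Agent.SporadicRecognition.SuzOrder

theorem no_13_14 {F V : Type*} [Field F] [AddCommGroup V] [Module F V] [FiniteDimensional F V]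
    (h2 : (2 : F) ≠ 0) (hn : finrank F V = 13 ∨ finrank F V = 14) {P : Type*} [Group P] (π : P →* Suz)
    (hπ : Function.Surjective π) (ρ : P →* (Module.End F V)ˣ)
    (hker : ∀ g, π g = 1 → ρ g = 1 ∨ ρ g = -1) (hker' : ∀ g, ρ g = 1 ∨ ρ g = -1 → π g = 1) : False := by
  haveI : Nontrivial V := by
    apply Module.nontrivial_of_finrank_pos (R := F)
    omega
  have h1 : (1 : (Module.End F V)ˣ) ≠ -1 := by
    intro h
    obtain ⟨x, hx⟩ := exists_ne (0 : V)
    have h3 := congrArg (fun g : (Module.End F V)ˣ => (g : Module.End F V) x) h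
    have h4 : x = -x := h3
    have h5 : (2 : F) • x = 0 := by rw [two_smul]; nth_rewrite 1 [h4]; simp
    exact hx ((smul_eq_zero.1 h5).resolve_left h2)
  have pm : ∀ a b : P, π a = π b → Pm (ρ a) (ρ b) := by
    intro a b hab
    have h3 : π (a * b⁻¹) = 1 := by rw [map_mul, map_inv, hab, mul_inv_cancel]
    rcases hker _ h3 with h4 | h4
    · left
      rw [map_mul, map_inv] at h4
      exact mul_inv_eq_one.mp h4
    · right
      rw [map_mul, map_inv] at h4
      have h5 : ρ a = -1 * ρ b := by rw [← h4, inv_mul_cancel_right]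
      rw [h5, neg_mul, one_mul]
  obtain ⟨w, hw⟩ := hπ (el vW)
  obtain ⟨H, hH⟩ := hπ (el hW)
  obtain ⟨X, hX⟩ := hπ (el xW)
  obtain ⟨Y, hY⟩ := hπ (el yW)
  have r1 : ρ w * ρ w = 1 ∨ ρ w * ρ w = -1 := by
    have := pm (w * w) 1 (by rw [map_mul, hw, v_sq, map_one])
    rw [map_mul, map_one] at this
    exact this
  have r2 : ρ H ^ 5 = 1 ∨ ρ H ^ 5 = -1 := by
    have := pm (H ^ 5) 1 (by rw [map_pow, hH, h_pow, map_one])
    rw [map_pow, map_one] at this
    exact this
  have r3 : (ρ w * ρ H) ^ 5 = 1 ∨ (ρ w * ρ H) ^ 5 = -1 := by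
    have := pm ((w * H) ^ 5) 1 (by rw [map_pow, map_mul, hw, hH, vh_pow, map_one])
    rw [map_pow, map_mul, map_one] at this
    exact this
  have r4 : Pm (ρ X * ρ w * (ρ X)⁻¹) (ρ w * Lift.cj (ρ H) (ρ w) 1) := by
    have := pm (X * w * X⁻¹) (w * (H * w * H⁻¹)) (by
      simp only [map_mul, map_inv, hX, hw, hH]; exact x_conj)
    simp only [map_mul, map_inv] at this
    simpa only [Lift.cj, _root_.pow_one] using this
  have r5 : Pm (ρ Y * ρ w * (ρ Y)⁻¹) (ρ w * Lift.cj (ρ H) (ρ w) 2) := by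
    have := pm (Y * w * Y⁻¹) (w * (H ^ 2 * w * (H ^ 2)⁻¹)) (by
      simp only [map_mul, map_inv, map_pow, hY, hw, hH]; exact y_conj)
    simp only [map_mul, map_inv, map_pow] at this
    exact this
  obtain ⟨u, hu, h5, huu, c1, c2, hp, hX', hY'⟩ := lift h1 (ρ w) (ρ H) (ρ X) (ρ Y) r1 r2 r4 r5 r3
  have hu1 := dims h2 u (ρ H) (ρ X) (ρ Y) h5 huu c1 c2 hp hX' hY' hn
  have h6 : ρ w = 1 ∨ ρ w = -1 := by
    rcases hu with hu | hu
    · left; rw [← hu, hu1]
    · right
      rw [hu1] at hu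
      rw [hu, neg_neg]
  have h7 := hker' w h6
  rw [hw] at h7
  exact v_ne h7

end Cfsg.Agent.H405.EPS.Odd
end

-- part: H405/EPS/Eleven
section
/-!
Weights of an elementary abelian 3-group normalized by a group of order 11: a linear group over an algebraically closed
field of characteristic different from 3, stable under a semilinear map inverting the cube roots of unity, has degree at
least 22.
-/

set_option autoImplicit false

namespace Cfsg.Agent.H405.EPS.Eleven

open Module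

/-- powers of an element of order 11 indexed by `ZMod 11` -/
def T {G : Type*} [Group G] (t : G) (x : ZMod 11) : G := t ^ x.val

/-- conjugates -/
def g {G : Type*} [Group G] (t z : G) (x : ZMod 11) : G := T t x * z * (T t x)⁻¹

section

variable {G : Type*} [Group G] {t z : G}

theorem T_add (ht : t ^ 11 = 1) (x y : ZMod 11) : T t (x + y) = T t x * T t y := by
  rw [T, T, T, ZMod.val_add, ← pow_add]
  exact (pow_eq_pow_mod _ ht).symm

theorem T_nat (ht : t ^ 11 = 1) (n : ℕ) : T t (n : ZMod 11) = t ^ n := by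
  rw [T, ZMod.val_natCast]
  exact (pow_eq_pow_mod _ ht).symm

theorem T_zero : T t 0 = 1 := by rw [T, ZMod.val_zero, pow_zero]

theorem g_zero : g t z 0 = z := by rw [g, T_zero]; simp

theorem g_conj (ht : t ^ 11 = 1) (x y : ZMod 11) : T t y * g t z x * (T t y)⁻¹ = g t z (x + y) := by
  rw [g, g, add_comm x y, T_add ht]
  simp only [mul_assoc, mul_inv_rev]

theorem g_mul_T (ht : t ^ 11 = 1) (x y : ZMod 11) : g t z x * T t y = T t y * g t z (x - y) := by
  have := g_conj (z := z) ht (x - y) y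
  rw [sub_add_cancel] at this
  rw [← this, inv_mul_cancel_right]

theorem g_comm_zero (ht : t ^ 11 = 1) (hc : ∀ k ≤ 5, z * (t ^ k * z * (t ^ k)⁻¹) = (t ^ k * z * (t ^ k)⁻¹) * z)
    (x : ZMod 11) : Commute z (g t z x) := by
  have h1 : ∀ x : ZMod 11, x.val ≤ 5 → Commute z (g t z x) := fun x hx => hc _ hx
  rcases le_or_gt x.val 5 with h | h
  · exact h1 x h
  · have h2 : (-x).val ≤ 5 := by
      haveI : NeZero x := ⟨by rintro rfl; simp at h⟩
      rw [ZMod.val_neg_of_ne_zero]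
      omega
    have h3 := h1 (-x) h2
    have h4 : Commute (T t x * z * (T t x)⁻¹) (T t x * g t z (-x) * (T t x)⁻¹) := by
      have := h3.map (MulAut.conj (T t x)).toMonoidHom
      simpa only [MulAut.conj_apply, _root_.Commute.conj_iff, _root_.MulEquiv.toMonoidHom_eq_coe, _root_.MonoidHom.coe_coe] using this
    rw [g_conj ht, neg_add_cancel, g_zero] at h4
    exact h4.symm

theorem g_comm (ht : t ^ 11 = 1) (hc : ∀ k ≤ 5, z * (t ^ k * z * (t ^ k)⁻¹) = (t ^ k * z * (t ^ k)⁻¹) * z)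
    (x y : ZMod 11) : Commute (g t z x) (g t z y) := by
  have h3 := g_comm_zero ht hc (y - x)
  have h4 : Commute (T t x * z * (T t x)⁻¹) (T t x * g t z (y - x) * (T t x)⁻¹) := by
    have := h3.map (MulAut.conj (T t x)).toMonoidHom
    simpa only [MulAut.conj_apply, _root_.Commute.conj_iff, _root_.MulEquiv.toMonoidHom_eq_coe, _root_.MonoidHom.coe_coe] using this
  rw [g_conj ht, sub_add_cancel] at h4
  exact h4

end

section

variable {K V : Type*} [Field K] [AddCommGroup V] [Module K V]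

/-- joint eigenvector -/
def JE (t z : (Module.End K V)ˣ) (c : ZMod 11 → K) (v : V) : Prop :=
  ∀ x, ((g t z x : (Module.End K V)ˣ) : Module.End K V) v = c x • v

theorem mul_apply' (a b : (Module.End K V)ˣ) (x : V) :
    ((a * b : (Module.End K V)ˣ) : Module.End K V) x = (a : Module.End K V) ((b : Module.End K V) x) := rfl

variable {t z : (Module.End K V)ˣ}

theorem JE.shift (ht : t ^ 11 = 1) {c : ZMod 11 → K} {v : V} (h : JE t z c v) (y : ZMod 11) :
    JE t z (fun x => c (x - y)) (((T t y : (Module.End K V)ˣ) : Module.End K V) v) := by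
  intro x
  rw [← mul_apply', g_mul_T ht, mul_apply', h, map_smul]

theorem g_pow_three (hz : z ^ 3 = 1) (x : ZMod 11) : g t z x ^ 3 = 1 := by
  have : g t z x ^ 3 = T t x * z ^ 3 * (T t x)⁻¹ := by
    rw [g, conj_pow]
  rw [this, hz, mul_one, mul_inv_cancel]

theorem pow_apply_of {w : (Module.End K V)ˣ} {c : K} {v : V} (h : (w : Module.End K V) v = c • v) (n : ℕ) :
    ((w ^ n : (Module.End K V)ˣ) : Module.End K V) v = c ^ n • v := by
  induction n with
  | zero => rw [pow_zero, pow_zero, one_smul]; rfl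
  | succ n ih => rw [pow_succ, mul_apply', h, map_smul, ih, smul_smul, ← pow_succ']

theorem JE.cube (hz : z ^ 3 = 1) {c : ZMod 11 → K} {v : V} (h : JE t z c v) (hv : v ≠ 0) (x : ZMod 11) :
    c x ^ 3 = 1 := by
  have h1 := pow_apply_of (h x) 3
  rw [g_pow_three hz] at h1
  have h2 : (c x ^ 3 - 1) • v = 0 := by
    rw [sub_smul, ← h1, one_smul]
    exact sub_self v
  exact sub_eq_zero.mp ((smul_eq_zero.1 h2).resolve_right hv)

theorem JE.prod (ht : t ^ 11 = 1) {c : ZMod 11 → K} {v : V} (h : JE t z c v) (n : ℕ) :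
    (((z * t) ^ n * (t ^ n)⁻¹ : (Module.End K V)ˣ) : Module.End K V) v = (∏ k ∈ Finset.range n, c k) • v := by
  induction n with
  | zero => simp
  | succ n ih =>
    have e : (z * t) ^ (n + 1) * (t ^ (n + 1))⁻¹ = ((z * t) ^ n * (t ^ n)⁻¹) * g t z (n : ZMod 11) := by
      rw [g, T_nat ht, pow_succ, pow_succ]
      simp only [mul_assoc, _root_.mul_inv_rev, _root_.mul_inv_cancel_left, _root_.inv_mul_cancel_left]
    rw [e, mul_apply', h, map_smul, ih, smul_smul, Finset.prod_range_succ, mul_comm]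

theorem JE.const (ht : t ^ 11 = 1) (hz : z ^ 3 = 1) (hzt : (z * t) ^ 11 = 1) {c : ZMod 11 → K} {v : V}
    (h : JE t z c v) (hv : v ≠ 0) (hc : ∀ x, c x = c 0) : c = 1 := by
  have h1 := h.prod ht 11
  rw [hzt, ht, inv_one, mul_one] at h1
  have h2 : ∏ k ∈ Finset.range 11, c (k : ZMod 11) = c 0 ^ 11 := by
    have : ∏ k ∈ Finset.range 11, c (k : ZMod 11) = ∏ k ∈ Finset.range 11, c 0 :=
      Finset.prod_congr rfl (fun k _ => hc _)
    rw [this, Finset.prod_const, Finset.card_range]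
  rw [h2] at h1
  have h3 : (c 0 ^ 11 - 1) • v = 0 := by
    rw [sub_smul, ← h1, one_smul]
    exact sub_self v
  have h4 : c 0 ^ 11 = 1 := sub_eq_zero.mp ((smul_eq_zero.1 h3).resolve_right hv)
  have h5 := h.cube hz hv 0
  have h6 : c 0 = 1 := by
    have e1 : c 0 ^ 11 = (c 0 ^ 3) ^ 3 * c 0 ^ 2 := by ring
    rw [h4, h5, one_pow, one_mul] at e1
    have e2 : c 0 ^ 3 = c 0 ^ 2 * c 0 := by ring
    rw [h5, ← e1, one_mul] at e2
    exact e2.symm
  funext x
  rw [hc x, h6]
  rfl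

/-- A function on `ZMod 11` with a nonzero period is constant. -/
theorem const_of_period {α : Type*} {c : ZMod 11 → α} {d : ZMod 11} (hd : d ≠ 0) (h : ∀ x, c (x + d) = c x) (x : ZMod 11) :
    c x = c 0 := by
  haveI : Fact (Nat.Prime 11) := ⟨by norm_num⟩
  have h1 : ∀ n : ℕ, c (n • d) = c 0 := by
    intro n
    induction n with
    | zero => simp
    | succ n ih => rw [succ_nsmul, h, ih]
  have h2 := h1 (x * d⁻¹).val
  rw [nsmul_eq_mul, ZMod.natCast_zmod_val, mul_assoc, inv_mul_cancel₀ hd, mul_one] at h2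
  exact h2

theorem const_of_shift {α : Type*} {c : ZMod 11 → α} {a b : ZMod 11} (hab : a ≠ b) (h : ∀ x, c (x - a) = c (x - b))
    (x : ZMod 11) : c x = c 0 := by
  apply const_of_period (d := a - b) (sub_ne_zero.mpr hab)
  intro y
  have := h (y + a)
  rw [add_sub_cancel_right] at this
  rw [this]
  congr 1
  ring

theorem pow_q {F : Type*} [Field F] {x : F} (hx : x ^ 3 = 1) {q : ℕ} (hq : q % 3 = 2) : x ^ q = x ^ 2 := by
  rw [pow_eq_pow_mod q hx, hq]

/-- the joint generalized eigenspace -/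
theorem JE_of_mem (h3 : (3 : K) ≠ 0) (hz : z ^ 3 = 1) {c : ZMod 11 → K} {v : V}
    (hv : v ∈ ⨅ x, Module.End.maxGenEigenspace ((g t z x : (Module.End K V)ˣ) : Module.End K V) (c x)) :
    JE t z c v := by
  intro x
  have hss : ((g t z x : (Module.End K V)ˣ) : Module.End K V).IsSemisimple := by
    apply Module.End.isSemisimple_of_squarefree_aeval_eq_zero (p := (Polynomial.X ^ 3 - 1 : Polynomial K))
    · exact (Polynomial.X_pow_sub_one_separable_iff.mpr (by exact_mod_cast h3)).squarefree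
    · have := congrArg (fun u : (Module.End K V)ˣ => (u : Module.End K V)) (g_pow_three (t := t) hz x)
      simp only [Units.val_pow_eq_pow_val, Units.val_one] at this
      simp [this]
  have h1 := (Submodule.mem_iInf _).mp hv x
  rw [hss.isFinitelySemisimple.maxGenEigenspace_eq_eigenspace, Module.End.mem_eigenspace_iff] at h1
  exact h1

theorem JE.mem {c : ZMod 11 → K} {v : V} (h : JE t z c v) :
    v ∈ ⨅ x, Module.End.maxGenEigenspace ((g t z x : (Module.End K V)ˣ) : Module.End K V) (c x) := by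
  rw [Submodule.mem_iInf]
  intro x
  exact Module.End.eigenspace_le_maxGenEigenspace (Module.End.mem_eigenspace_iff.mpr (h x))

theorem exists_JE [FiniteDimensional K V] [IsAlgClosed K] (h3 : (3 : K) ≠ 0) (hz : z ^ 3 = 1) (hz1 : z ≠ 1)
    (ht : t ^ 11 = 1) (hc : ∀ k ≤ 5, z * (t ^ k * z * (t ^ k)⁻¹) = (t ^ k * z * (t ^ k)⁻¹) * z) :
    ∃ (c : ZMod 11 → K) (v : V), v ≠ 0 ∧ c ≠ 1 ∧ JE t z c v := by
  by_contra hcon
  push Not at hcon
  have hmaps : ∀ (i j : ZMod 11) (φ : K), Set.MapsTo (((g t z i : (Module.End K V)ˣ) : Module.End K V))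
      (Module.End.maxGenEigenspace ((g t z j : (Module.End K V)ˣ) : Module.End K V) φ)
      (Module.End.maxGenEigenspace ((g t z j : (Module.End K V)ˣ) : Module.End K V) φ) := by
    intro i j φ
    apply Module.End.mapsTo_maxGenEigenspace_of_comm
    have := g_comm ht hc j i
    exact Units.ext_iff.mp this
  have htop := Module.End.iSup_iInf_maxGenEigenspace_eq_top_of_forall_mapsTo
    (fun x : ZMod 11 => ((g t z x : (Module.End K V)ˣ) : Module.End K V)) hmaps
    (fun x => Module.End.iSup_maxGenEigenspace_eq_top _)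
  have hle : (⨆ χ : ZMod 11 → K, ⨅ i, Module.End.maxGenEigenspace ((g t z i : (Module.End K V)ˣ) : Module.End K V) (χ i))
      ≤ ⨅ i, Module.End.maxGenEigenspace ((g t z i : (Module.End K V)ˣ) : Module.End K V) ((1 : ZMod 11 → K) i) := by
    apply iSup_le
    intro χ
    by_cases hχ : χ = 1
    · rw [hχ]
    · intro v hv
      have h1 := JE_of_mem h3 hz hv
      by_cases hv0 : v = 0
      · rw [hv0]; exact Submodule.zero_mem _
      · exact absurd h1 (hcon χ v hv0 hχ)
  apply hz1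
  apply Units.ext
  ext v
  have h1 : v ∈ ⨅ i, Module.End.maxGenEigenspace ((g t z i : (Module.End K V)ˣ) : Module.End K V)
      ((1 : ZMod 11 → K) i) := hle (by rw [htop]; trivial)
  have h2 := JE_of_mem h3 hz h1 0
  rw [g_zero] at h2
  rw [h2]
  simp

/-- **The bound 22.** -/
theorem twenty_two [FiniteDimensional K V] [IsAlgClosed K] (h3 : (3 : K) ≠ 0) (hz : z ^ 3 = 1) (hz1 : z ≠ 1)
    (ht : t ^ 11 = 1) (hzt : (z * t) ^ 11 = 1)
    (hc : ∀ k ≤ 5, z * (t ^ k * z * (t ^ k)⁻¹) = (t ^ k * z * (t ^ k)⁻¹) * z)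
    {q : ℕ} (hq : q % 3 = 2) (φ : V → V) (φ0 : ∀ v, v ≠ 0 → φ v ≠ 0) (φs : ∀ (c : K) v, φ (c • v) = c ^ q • φ v)
    (φz : ∀ v, φ ((z : Module.End K V) v) = (z : Module.End K V) (φ v))
    (φt : ∀ v, φ ((t : Module.End K V) v) = (t : Module.End K V) (φ v)) : 22 ≤ finrank K V := by
  obtain ⟨c, v, hv, hc1, h⟩ := exists_JE h3 hz hz1 ht hc
  have φT : ∀ (n : ℕ) (x : V), φ (((t ^ n : (Module.End K V)ˣ) : Module.End K V) x) =
      ((t ^ n : (Module.End K V)ˣ) : Module.End K V) (φ x) := by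
    intro n
    induction n with
    | zero => intro x; simp
    | succ n ih => intro x; rw [pow_succ, mul_apply', ih, φt, ← mul_apply']
  have φTi : ∀ (n : ℕ) (x : V), φ ((((t ^ n)⁻¹ : (Module.End K V)ˣ) : Module.End K V) x) =
      (((t ^ n)⁻¹ : (Module.End K V)ˣ) : Module.End K V) (φ x) := by
    intro n x
    have h1 := φT n ((((t ^ n)⁻¹ : (Module.End K V)ˣ) : Module.End K V) x)
    rw [← mul_apply', mul_inv_cancel, Units.val_one, Module.End.one_apply] at h1
    rw [h1, ← mul_apply', inv_mul_cancel, Units.val_one, Module.End.one_apply]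
  have φg : ∀ (x : ZMod 11) (y : V), φ (((g t z x : (Module.End K V)ˣ) : Module.End K V) y) =
      ((g t z x : (Module.End K V)ˣ) : Module.End K V) (φ y) := by
    intro x y
    rw [g, T, mul_apply', mul_apply', φT, φz, φTi, ← mul_apply', ← mul_apply']
  have hφ : ∀ {c' : ZMod 11 → K} {v' : V}, JE t z c' v' → JE t z (fun x => c' x ^ q) (φ v') := by
    intro c' v' h' x
    rw [← φg, h', φs]
  -- the 22 weights
  let wt : ZMod 11 × Bool → (ZMod 11 → K) := fun p => if p.2 then fun x => c (x - p.1) ^ q else fun x => c (x - p.1)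
  let vec : ZMod 11 × Bool → V := fun p =>
    if p.2 then φ (((T t p.1 : (Module.End K V)ˣ) : Module.End K V) v)
    else ((T t p.1 : (Module.End K V)ˣ) : Module.End K V) v
  have hJ : ∀ p, JE t z (wt p) (vec p) := by
    rintro ⟨y, b⟩
    cases b
    · exact h.shift ht y
    · exact hφ (h.shift ht y)
  have hT0 : ∀ y, ((T t y : (Module.End K V)ˣ) : Module.End K V) v ≠ 0 := by
    intro y h0
    have := congrArg (fun x => (((T t y)⁻¹ : (Module.End K V)ˣ) : Module.End K V) x) h0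
    simp only [map_zero] at this
    rw [← mul_apply', inv_mul_cancel, Units.val_one, Module.End.one_apply] at this
    exact hv this
  have hvec : ∀ p, vec p ≠ 0 := by
    rintro ⟨y, b⟩
    cases b
    · exact hT0 y
    · exact φ0 _ (hT0 y)
  have hcube : ∀ x, c x ^ 3 = 1 := h.cube hz hv
  have hpq : ∀ x, c x ^ q = c x ^ 2 := fun x => pow_q (hcube x) hq
  have hnc : ¬ ∀ x, c x = c 0 := fun hh => hc1 (h.const ht hz hzt hv hh)
  have h11 : (2 : ZMod 11) ≠ 0 := by decide
  haveI : Fact (Nat.Prime 11) := ⟨by norm_num⟩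
  -- mixed case
  have hmix : ∀ a b : ZMod 11, (∀ x, c (x - a) = c (x - b) ^ q) → False := by
    intro a b hab
    by_cases e : a = b
    · subst e
      have h4 : ∀ x, c x = 1 := by
        intro x
        have h5 := hab (x + a)
        rw [add_sub_cancel_right, hpq] at h5
        have h6 : c x * c x ^ 2 = 1 := by rw [← hcube x]; ring
        rw [← h5] at h6
        have h7 := hcube x
        rw [pow_succ, pow_two, h6, one_mul] at h7
        exact h7
      exact hnc fun x => by rw [h4, h4]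
    · have h4 : ∀ x, c (x - 2 * a) = c (x - 2 * b) := by
        intro x
        have e1 : c (x - 2 * a) = c (x - a - b) ^ q := by
          have := hab (x - a)
          rw [← this]; congr 1; ring
        have e2 : c (x - a - b) = c (x - 2 * b) ^ q := by
          have := hab (x - b)
          rw [show x - a - b = x - b - a by ring, this]
          congr 2; ring
        rw [e1, e2, hpq, ← pow_mul, mul_comm 2 q, pow_mul, hpq]
        have h7 := hcube (x - 2 * b)
        calc (c (x - 2 * b) ^ 2) ^ 2 = c (x - 2 * b) ^ 3 * c (x - 2 * b) := by ring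
          _ = c (x - 2 * b) := by rw [h7, one_mul]
      apply hnc
      apply const_of_shift (a := 2 * a) (b := 2 * b) _ h4
      intro h5
      exact e (mul_left_cancel₀ h11 h5)
  have hinj : Function.Injective wt := by
    rintro ⟨a, b⟩ ⟨a', b'⟩ hab
    cases b <;> cases b'
    · have h4 : ∀ x, c (x - a) = c (x - a') := fun x => congrFun hab x
      by_cases e : a = a'
      · rw [e]
      · exact absurd (const_of_shift e h4) hnc
    · exact (hmix a a' fun x => congrFun hab x).elim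
    · exact (hmix a' a fun x => (congrFun hab x).symm).elim
    · have h4 : ∀ x, c (x - a) ^ q = c (x - a') ^ q := fun x => congrFun hab x
      by_cases e : a = a'
      · rw [e]
      · apply absurd (const_of_shift e _) hnc
        intro x
        have h5 := h4 x
        rw [hpq, hpq] at h5
        have h6 := hcube (x - a)
        have h7 := hcube (x - a')
        have h8 : (c (x - a) ^ 2) ^ 2 = (c (x - a') ^ 2) ^ 2 := by rw [h5]
        calc c (x - a) = c (x - a) ^ 3 * c (x - a) := by rw [h6, one_mul]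
          _ = (c (x - a) ^ 2) ^ 2 := by ring
          _ = (c (x - a') ^ 2) ^ 2 := h8
          _ = c (x - a') ^ 3 * c (x - a') := by ring
          _ = c (x - a') := by rw [h7, one_mul]
  have hmaps : ∀ (i j : ZMod 11) (φ : K), Set.MapsTo (((g t z i : (Module.End K V)ˣ) : Module.End K V))
      (Module.End.maxGenEigenspace ((g t z j : (Module.End K V)ˣ) : Module.End K V) φ)
      (Module.End.maxGenEigenspace ((g t z j : (Module.End K V)ˣ) : Module.End K V) φ) := by
    intro i j φ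
    apply Module.End.mapsTo_maxGenEigenspace_of_comm
    have := g_comm ht hc j i
    exact Units.ext_iff.mp this
  have hind := Module.End.independent_iInf_maxGenEigenspace_of_forall_mapsTo
    (fun x : ZMod 11 => ((g t z x : (Module.End K V)ˣ) : Module.End K V)) hmaps
  have hind2 := hind.comp hinj
  have hli : LinearIndependent K vec := iSupIndep.linearIndependent _ hind2 (fun p => (hJ p).mem) hvec
  have hcard := hli.fintype_card_le_finrank
  simpa [ZMod.card] using hcard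

end

end Cfsg.Agent.H405.EPS.Eleven
end

-- part: H405/EPS/ElevenMat
section
/-!
The bound 22 for matrix groups over a finite field of order 2 modulo 3.
-/

set_option autoImplicit false

namespace Cfsg.Agent.H405.EPS.Eleven

open Module
open scoped MatrixGroups

section

variable {ι : Type*} [Fintype ι] [DecidableEq ι] {F K : Type*} [Field F] [Field K] [Algebra F K]

/-- base change of the natural representation -/
def R (F K : Type*) [Field F] [Field K] [Algebra F K] (ι : Type*) [Fintype ι] [DecidableEq ι] :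
    GL ι F →* (Module.End K (ι → K))ˣ :=
  (Matrix.GeneralLinearGroup.toLin (n := ι) (R := K)).toMonoidHom.comp
    (Matrix.GeneralLinearGroup.map (algebraMap F K))

theorem R_apply (a : GL ι F) (x : ι → K) :
    ((R F K ι a : (Module.End K (ι → K))ˣ) : Module.End K (ι → K)) x =
      ((a : Matrix ι ι F).map (algebraMap F K)).mulVec x := rfl

theorem R_injective : Function.Injective (R F K ι) := by
  intro a b hab
  apply Units.ext
  ext i j
  have h1 := congrArg (fun u : (Module.End K (ι → K))ˣ => (u : Module.End K (ι → K)) (Pi.single j 1) i) hab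
  simp only [R_apply, Matrix.mulVec_single_one, Matrix.col_apply, Matrix.map_apply] at h1
  exact (algebraMap F K).injective h1

theorem three_ne [Fintype F] (hq : Fintype.card F % 3 = 2) : (3 : F) ≠ 0 := by
  intro h
  have h1 : ((Fintype.card F : ℕ) : F) = 0 := FiniteField.cast_card_eq_zero F
  have h2 : Fintype.card F = 3 * (Fintype.card F / 3) + 2 := by omega
  rw [h2] at h1
  push_cast at h1
  rw [h, zero_mul, zero_add] at h1
  have h3 : (1 : F) = 3 - 2 := by norm_num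
  rw [h, h1, sub_zero] at h3
  exact one_ne_zero h3

theorem twenty_two_mat [Fintype F] (hq : Fintype.card F % 3 = 2) {z t : GL ι F} (hz : z ^ 3 = 1) (hz1 : z ≠ 1)
    (ht : t ^ 11 = 1) (hzt : (z * t) ^ 11 = 1)
    (hc : ∀ k ≤ 5, z * (t ^ k * z * (t ^ k)⁻¹) = (t ^ k * z * (t ^ k)⁻¹) * z) : 22 ≤ Fintype.card ι := by
  have h3 : (3 : AlgebraicClosure F) ≠ 0 := by
    intro h
    apply three_ne hq
    apply (algebraMap F (AlgebraicClosure F)).injective
    rw [map_zero, map_ofNat, h]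
  let φ : (ι → AlgebraicClosure F) → (ι → AlgebraicClosure F) := fun x i => x i ^ Fintype.card F
  have hφ : ∀ (a : GL ι F) (x : ι → AlgebraicClosure F),
      φ (((R F (AlgebraicClosure F) ι a : (Module.End (AlgebraicClosure F) (ι → AlgebraicClosure F))ˣ) :
        Module.End (AlgebraicClosure F) (ι → AlgebraicClosure F)) x) =
      ((R F (AlgebraicClosure F) ι a : (Module.End (AlgebraicClosure F) (ι → AlgebraicClosure F))ˣ) :
        Module.End (AlgebraicClosure F) (ι → AlgebraicClosure F)) (φ x) := by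
    intro a x
    funext i
    rw [R_apply, R_apply]
    have h1 := RingHom.map_mulVec
      (FiniteField.frobeniusAlgHom F (AlgebraicClosure F) : AlgebraicClosure F →+* AlgebraicClosure F)
      ((a : Matrix ι ι F).map (algebraMap F (AlgebraicClosure F))) x i
    rw [Matrix.map_map] at h1
    have h2 : ((FiniteField.frobeniusAlgHom F (AlgebraicClosure F) : AlgebraicClosure F →+* AlgebraicClosure F) :
        AlgebraicClosure F → AlgebraicClosure F) ∘ (algebraMap F (AlgebraicClosure F)) =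
        (algebraMap F (AlgebraicClosure F)) := by
      funext y
      exact (FiniteField.frobeniusAlgHom F (AlgebraicClosure F)).commutes y
    rw [h2] at h1
    exact h1
  have hfin := twenty_two (K := AlgebraicClosure F) (V := ι → AlgebraicClosure F)
    (z := R F (AlgebraicClosure F) ι z) (t := R F (AlgebraicClosure F) ι t) h3
    (by rw [← map_pow, hz, map_one]) (fun h => hz1 (R_injective (by rw [h, map_one])))
    (by rw [← map_pow, ht, map_one]) (by rw [← map_mul, ← map_pow, hzt, map_one])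
    (by
      intro k hk
      have := congrArg (R F (AlgebraicClosure F) ι) (hc k hk)
      simpa only [map_mul, map_inv, map_pow] using this)
    hq φ
    (by
      intro v hv h0
      apply hv
      funext i
      have := congrFun h0 i
      exact pow_eq_zero_iff (Fintype.card_ne_zero) |>.mp this)
    (by
      intro c v
      funext i
      exact mul_pow c (v i) _)
    (hφ z) (hφ t)
  rwa [Module.finrank_fintype_fun_eq_card] at hfin

end

end Cfsg.Agent.H405.EPS.Eleven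
end

-- part: H405/EPS/SuzRep
section
/-!
# S3499-V: socle `Suz` (helper405), task 6086: representation part

A group `P ≤ GL(n, F)` with `P / scalars ≅ Suz`, `n ≥ 13`: not possible for `|F| = 2`, `n ≤ 21`, nor for `|F| = 3`,
`n ≤ 14`. Hence no `Big A Γ S P` with `8 |Q| < 2 ^ 156`.
-/

set_option autoImplicit false

namespace Cfsg.Agent.H405.EPS

open Module Cfsg Cfsg.Geo Cfsg.Agent.H284 Cfsg.Agent.H419.EP Cfsg.Spor Cfsg.Agent.SporadicRecognition.SuzPhi
  Cfsg.Agent.SporadicRecognition.SuzBound Cfsg.Agent.SporadicRecognition.SuzOrder Cfsg.Agent.H405.EPS.Words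
open scoped MatrixGroups

section

variable {ι : Type} [Fintype ι] [DecidableEq ι] {F : Type} [Field F] {P : Subgroup (GL ι F)}

/-- the projection onto the simple group -/
def proj (e : socle P ≃* Suz) : P →* Suz := e.toMonoidHom.comp (QuotientGroup.mk' _)

theorem proj_surjective (e : socle P ≃* Suz) : Function.Surjective (proj e) :=
  e.surjective.comp (QuotientGroup.mk'_surjective _)

theorem proj_eq_one (e : socle P ≃* Suz) (g : P) : proj e g = 1 ↔ (g : GL ι F) ∈ scalars ι F := by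
  have h1 : proj e g = e (QuotientGroup.mk' ((Cfsg.Geo.scalars ι F).subgroupOf P) g) := rfl
  rw [h1, map_eq_one_iff e e.injective, QuotientGroup.mk'_apply, QuotientGroup.eq_one_iff, Subgroup.mem_subgroupOf]

/-- the natural representation -/
def nat (P : Subgroup (GL ι F)) : P →* (Module.End F (ι → F))ˣ :=
  (Matrix.GeneralLinearGroup.toLin (n := ι) (R := F)).toMonoidHom.comp P.subtype

theorem nat_apply (g : P) (x : ι → F) :
    ((nat P g : (Module.End F (ι → F))ˣ) : Module.End F (ι → F)) x = ((g : GL ι F) : Matrix ι ι F).mulVec x := rfl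

theorem no_three (e : socle P ≃* Suz) [Fintype F] (h3 : Fintype.card F = 3)
    (hn : Fintype.card ι = 13 ∨ Fintype.card ι = 14) : False := by
  have hcube : ∀ c : F, c ≠ 0 → c = 1 ∨ c = -1 := by
    intro c hc
    have h1 := FiniteField.pow_card_sub_one_eq_one c hc
    rw [h3] at h1
    have h2 : (c - 1) * (c + 1) = 0 := by
      have : c ^ 2 = 1 := h1
      linear_combination this
    rcases mul_eq_zero.mp h2 with h | h
    · left; exact sub_eq_zero.mp h
    · right; exact eq_neg_of_add_eq_zero_left h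
  have h2 : (2 : F) ≠ 0 := by
    intro h
    have h4 : ((Fintype.card F : ℕ) : F) = 0 := FiniteField.cast_card_eq_zero F
    rw [h3] at h4
    have h5 : (1 : F) = 3 - 2 := by norm_num
    rw [h] at h5
    push_cast at h4
    rw [h4, sub_zero] at h5
    exact one_ne_zero h5
  refine Odd.no_13_14 (F := F) (V := ι → F) h2 (by rw [Module.finrank_fintype_fun_eq_card]; exact hn) (proj e)
    (proj_surjective e) (nat P) ?_ ?_
  · intro g hg
    rw [proj_eq_one, mem_scalars_iff] at hg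
    obtain ⟨c, hc⟩ := hg
    rcases hcube c c.ne_zero with h | h
    · left
      apply Units.ext
      apply LinearMap.ext
      intro x
      rw [nat_apply, hc, h, one_smul, Matrix.one_mulVec]
      rfl
    · right
      apply Units.ext
      apply LinearMap.ext
      intro x
      rw [nat_apply, hc, h, neg_smul, one_smul, Matrix.neg_mulVec, Matrix.one_mulVec]
      rfl
  · intro g hg
    rw [proj_eq_one, mem_scalars_iff]
    have key : ∀ c : F, (∀ x, ((g : GL ι F) : Matrix ι ι F).mulVec x = c • x) →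
        ((g : GL ι F) : Matrix ι ι F) = c • (1 : Matrix ι ι F) := by
      intro c hx
      apply Matrix.toLin'.injective
      apply LinearMap.ext
      intro x
      rw [Matrix.toLin'_apply, Matrix.toLin'_apply, hx, Matrix.smul_mulVec, Matrix.one_mulVec]
    rcases hg with h | h
    · refine ⟨1, key _ fun x => ?_⟩
      rw [← nat_apply, h]
      simp
    · refine ⟨-1, key _ fun x => ?_⟩
      rw [← nat_apply, h]
      simp only [_root_.Units.val_neg, _root_.Units.val_one, _root_.LinearMap.neg_apply, _root_.Module.End.one_apply, _root_.neg_smul, _root_.one_smul]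

theorem no_two (e : socle P ≃* Suz) [Fintype F] (h2 : Fintype.card F = 2) : 22 ≤ Fintype.card ι := by
  have hsc : ∀ g : P, proj e g = 1 → g = 1 := by
    intro g hg
    rw [proj_eq_one, mem_scalars_iff] at hg
    obtain ⟨c, hc⟩ := hg
    have h1 : (c : F) = 1 := by
      have := FiniteField.pow_card_sub_one_eq_one (c : F) c.ne_zero
      rw [h2] at this
      simpa using this
    rw [h1, one_smul] at hc
    apply Subtype.ext
    apply Units.ext
    rw [hc]
    rfl
  have hinj : Function.Injective (proj e) := (injective_iff_map_eq_one _).mpr hsc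
  obtain ⟨z, hz⟩ := proj_surjective e (el zW)
  obtain ⟨t, ht⟩ := proj_surjective e (el tW)
  have up : ∀ a b : P, proj e a = proj e b → (a : GL ι F) = b := fun a b h => by rw [hinj h]
  refine Eleven.twenty_two_mat (F := F) (z := (z : GL ι F)) (t := (t : GL ι F)) (by rw [h2]) ?_ ?_ ?_ ?_ ?_
  · have := up (z ^ 3) 1 (by rw [map_pow, hz, z_pow, map_one])
    simpa only [_root_.SubmonoidClass.coe_pow, _root_.OneMemClass.coe_one] using this
  · intro h
    have h1 : z = 1 := Subtype.ext h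
    rw [h1, map_one] at hz
    exact z_ne hz.symm
  · have := up (t ^ 11) 1 (by rw [map_pow, ht, t_pow, map_one])
    simpa only [_root_.SubmonoidClass.coe_pow, _root_.OneMemClass.coe_one] using this
  · have := up ((z * t) ^ 11) 1 (by rw [map_pow, map_mul, hz, ht, zt_pow, map_one])
    simpa only [_root_.SubmonoidClass.coe_pow, _root_.Subgroup.coe_mul, _root_.OneMemClass.coe_one] using this
  · intro k hk
    have := up (z * (t ^ k * z * (t ^ k)⁻¹)) ((t ^ k * z * (t ^ k)⁻¹) * z) (by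
      simp only [map_mul, map_inv, map_pow, hz, ht]; exact zcomm k hk)
    simpa only [_root_.Subgroup.coe_mul, _root_.SubmonoidClass.coe_pow, _root_.InvMemClass.coe_inv] using this

end

variable {Q : Type} [Group Q] [Finite Q] {A : Subgroup Q} {Γ : Subgroup (MulAut Q)} {ι : Type} [Fintype ι]
    [DecidableEq ι] {F : Type} [Field F] [Fintype F] {S P : Subgroup (GL ι F)}

/-- **Socle `Suz`** under the order bound `|Q| < 2 ^ 153`. -/
theorem suz_of_card (b : Big A Γ S P) (h : IsoSuz (socle P)) (hB : Nat.card Q < 2 ^ 153) : False := by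
  obtain ⟨e⟩ := h
  have hn := b.thirteen
  have hF := b.two_le
  have hord := b.ord
  have hmul : ∀ k, k ≤ Fintype.card ι → Fintype.card F ^ (k * (k - 1) / 2) ≤ 8 * Nat.card Q := by
    intro k hk
    refine le_trans (Nat.pow_le_pow_right (by omega) (Nat.div_le_div_right ?_)) hord
    exact Nat.mul_le_mul hk (Nat.sub_le_sub_right hk 1)
  rcases Nat.lt_or_ge (Fintype.card F) 4 with h4 | h4
  · interval_cases hc : Fintype.card F
    · -- two elements
      have h22 := no_two e hc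
      have h1 := hmul 22 h22
      have h2 : (2 : ℕ) ^ (22 * (22 - 1) / 2) = 2 ^ 231 := by norm_num
      rw [h2] at h1
      have h3 : (2 : ℕ) ^ 231 = 8 * 2 ^ 228 := by norm_num
      have h5 : (2 : ℕ) ^ 153 ≤ 2 ^ 228 := Nat.pow_le_pow_right (by norm_num) (by norm_num)
      omega
    · -- three elements
      by_cases h14 : Fintype.card ι ≤ 14
      · exact no_three e hc (by omega)
      · have h1 := hmul 15 (by omega)
        have h2 : (3 : ℕ) ^ (15 * (15 - 1) / 2) = 3 ^ 105 := by norm_num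
        rw [h2] at h1
        have h3 : 8 * 2 ^ 153 ≤ (3 : ℕ) ^ 105 := by norm_num
        omega
  · have h1 := hmul 13 hn
    have h2 : 4 ^ (13 * (13 - 1) / 2) ≤ Fintype.card F ^ (13 * (13 - 1) / 2) := Nat.pow_le_pow_left h4 _
    have h3 : (4 : ℕ) ^ (13 * (13 - 1) / 2) = 8 * 2 ^ 153 := by norm_num
    rw [h3] at h2
    omega

end Cfsg.Agent.H405.EPS
end

-- part: H405/EPS/Suz
section
/-!
# S3499-V: socle `Suz` (helper405), task 6086
-/

set_option autoImplicit false

namespace Cfsg.Agent.H405.EPS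

open Cfsg Cfsg.Geo Cfsg.Agent.H284 Cfsg.Agent.H419.EP Cfsg.Spor Cfsg.Agent.H775.EPS Cfsg.Agent.H59.EP

/-- **The Suzuki group is not the socle of a residual subgroup in dimension at least 13** (hypotheses as in
`H775.EPS.index_le_core`). -/
theorem suz (hI : InvGen.{0} 448345497600 250000) (hg : TwoGen.{0})
    (hev : ∀ (X : Type) [Group X] [Finite X], IsSimpleGroup X → ¬ Group.IsSolvable X → 2 ∣ Nat.card X) :
    BigOf (fun L _ => IsoSuz L) := by
  intro Q _ _ A Γ ι _ _ F _ _ S P b h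
  have hidx := index_le_core b.simple b.ept h b.hasSoc hI hg hev
  have hfin : Finite (socle P) := finite_suz_iso h
  have hAL : Nat.card A ≤ 896690995200 :=
    b.hasSoc.card_le.trans (Nat.le_of_dvd (by norm_num) (aut_suz h))
  refine suz_of_card b h ?_
  rw [← A.card_mul_index]
  calc Nat.card A * A.index ≤ 896690995200 * 2 ^ 82 := Nat.mul_le_mul hAL hidx
    _ < 2 ^ 153 := by norm_num

end Cfsg.Agent.H405.EPS
end

private theorem dce_e81f7d7626ed : _root_.True := by
  try have : _root_.True := by simp only [_root_.Cfsg.Agent.H405.EPS.Lift.cj.eq_1]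
  try have : _root_.True := by simp only [_root_.Cfsg.Agent.H405.EPS.Words.cj.eq_1]
  try have : _root_.True := by simp only [_root_.Cfsg.Agent.H405.EPS.Eleven.T.eq_1]
  try have : _root_.True := by simp only [_root_.Cfsg.Agent.SuzThree.Basic.mv.eq_1]
  try have : _root_.True := by simp only [_root_.Cfsg.Agent.H405.EPS.Eleven.g.eq_1]
  try have : _root_.True := by simp only [_root_.Cfsg.Agent.H405.EPS.Dims.E.eq_1]
  exact _root_.True.intro
end

section
prune_inst 0xf9bdfbfbf81ddfdf7f7e7faedcdffc38901fffa4dff94bffe061ff0b9f030209e56b8d8de010fe0ed6e29410a87843fbfffeffea6ffc7ffffdfff45ffbee4ff5f7bd0851d68c340fbc0fff03f07f8e7f000000000000000000000000000000000200000000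

-- part: H688/EP/SporAsm
section
prune_inst 0x60004000382202080000050010001c228200042000080000c0800a040e81840000000020b61000000000808540390000000000100000000000000000011800a0800012001010ac00160009000000000000000000000000000000000000000004000000000
set_option linter.all false
open scoped Cfsg.Agent.FastGrp

-- part: H16/EP/Small
section
/-!
# S3499-V: small sporadic socles (helper16), task 6078

* `even_of_two` : a nondegenerate quadratic form over a field with `2 = 0` lives in even dimension;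
* `ord_ge : 2 ^ 88 ≤ |Q|` for every `Big A Γ S P`;
* `false_of_le` : contradiction from a bound `r` for the number of the `M0` with `|A| (1 + r (2 (|A|/6))) < 2 ^ 88`;
* `small` : `|A| ≤ 2 ^ 22`, no `p ^ 2` with `p ≥ 5` divides `|A|`, `galSum |A| ≤ 2 ^ 24`;
* `m11 m12 m22 j1`.
-/

set_option autoImplicit false

namespace Cfsg.Agent.H16.EP

open Subgroup Cfsg Cfsg.Geo Cfsg.Agent.H284 Cfsg.Agent.H419.EP Cfsg.Agent.H59.EP
open scoped MatrixGroups

/-- a nondegenerate quadratic form over a field with `2 = 0` lives in even dimension -/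
theorem even_of_two {ι : Type} [Fintype ι] [DecidableEq ι] {F : Type*} [Field F] {Qf : (ι → F) → F}
    (hQ : IsNondegenerateQuadraticForm Qf) (h2 : (2 : F) = 0) : Even (Fintype.card ι) := by
  have hp := hQ.polar_bilinear
  have halt : ∀ v, QuadraticMap.polar Qf v v = 0 := by
    intro v
    have h0 : Qf (v + v) = 4 * Qf v := by
      have h1 := hQ.smul 2 v
      rw [two_smul] at h1
      rw [h1]; ring
    show Qf (v + v) - Qf v - Qf v = 0
    rw [h0]
    linear_combination Qf v * h2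
  have hs : IsSymplecticForm (QuadraticMap.polar Qf) := ⟨hp, fun v w => by
    have h1 : QuadraticMap.polar Qf v w = QuadraticMap.polar Qf w v := QuadraticMap.polar_comm _ _ _
    rw [h1]
    linear_combination QuadraticMap.polar Qf w v * h2, halt, hQ.nondegenerate⟩
  have h3 := Cfsg.Agent.H953.even_finrank_of_alt (Cfsg.Agent.H953.toBil hs) halt (by
    intro u hu
    by_contra hne
    obtain ⟨-, x, hx⟩ := hQ.nondegenerate u hne
    exact hx (hu x))
  rwa [Module.finrank_fintype_fun_eq_card] at h3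

section Big

variable {Q : Type} [Group Q] [Finite Q] {A : Subgroup Q} {Γ : Subgroup (MulAut Q)} {ι : Type} [Fintype ι]
    [DecidableEq ι] {F : Type} [Field F] [Fintype F] {S P : Subgroup (GL ι F)}

/-- the order of `Q` in dimension at least 13 -/
theorem ord_ge (b : Big A Γ S P) : 2 ^ 88 ≤ Nat.card Q := by
  have hF : 2 ≤ Fintype.card F := b.two_le
  rcases Nat.lt_or_ge 13 (Fintype.card ι) with hn | hn
  · have h1 := b.ord_two (N := 14) hn
    have h2 : 14 * (14 - 1) / 2 = 91 := by norm_num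
    rw [h2] at h1
    have h3 : 2 ^ 91 = 8 * 2 ^ 88 := by norm_num
    rw [h3] at h1
    exact Nat.le_of_mul_le_mul_left h1 (by norm_num)
  · have hn' : Fintype.card ι = 13 := le_antisymm hn b.thirteen
    have hb := b.ord
    rcases b.kind with ⟨-, ho, -, -, -⟩ | ⟨f, -, -, h3, ho, -, -⟩ | ⟨q, hq, σ, f, -, -, -, ho, -, -⟩ |
      ⟨Qf, hQ, -, ho, -⟩
    · rw [hn'] at ho
      exact le_trans (le_trans (Nat.pow_le_pow_right (by norm_num) (by norm_num)) (Nat.pow_le_pow_left hF _)) ho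
    · rw [hn'] at hb
      have h1 : 3 ^ 78 ≤ 8 * Nat.card Q := le_trans (Nat.pow_le_pow_left h3 78) hb
      have h2 : 8 * 2 ^ 88 ≤ 3 ^ 78 := by norm_num
      omega
    · have hq2 : 2 ≤ q := by
        by_contra hlt
        have : q ^ 2 ≤ 1 := by
          have : q ≤ 1 := by omega
          calc q ^ 2 ≤ 1 ^ 2 := Nat.pow_le_pow_left this 2
            _ = 1 := one_pow 2
        omega
      rw [hn'] at ho
      exact le_trans (le_trans (Nat.pow_le_pow_right (by norm_num) (by norm_num)) (Nat.pow_le_pow_left hq2 _)) ho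
    · have h3 : 3 ≤ Fintype.card F := by
        by_contra hlt
        have hc : Fintype.card F = 2 := by omega
        have h2 : (2 : F) = 0 := by
          have := Nat.cast_card_eq_zero F
          rw [hc] at this
          exact_mod_cast this
        have := even_of_two hQ h2
        rw [hn'] at this
        exact absurd this (by decide)
      rw [hn'] at hb
      have h1 : 3 ^ 78 ≤ 8 * Nat.card Q := le_trans (Nat.pow_le_pow_left h3 78) hb
      have h2 : 8 * 2 ^ 88 ≤ 3 ^ 78 := by norm_num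
      omega

/-- no abelian normal subgroups -/
theorem noAb (b : Big A Γ S P) : ∀ K : Subgroup Q, K ≤ A → (∀ a ∈ A, ∀ k ∈ K, a * k * a⁻¹ ∈ K) →
    (∀ a ∈ K, ∀ b ∈ K, a * b = b * a) → K = ⊥ := by
  intro K h1 h2 h3
  refine b.hasSoc.no_abelian b.core.simple ?_ h1 h2 h3
  intro hc
  exact b.core.nonabelian ⟨⟨hc⟩⟩

/-- the line bound with the number `r` of the `M0` -/
theorem false_of_le (b : Big A Γ S P) {r N : ℕ} (hr : {M : Subgroup Q | ∃ x, x ∉ A ∧ M = A ⊓ cj x A}.ncard ≤ r)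
    (hA : Nat.card A ≤ N) (hN : N * (1 + r * (2 * (N / 6))) < 2 ^ 88) : False := by
  have h1 := Cfsg.Agent.H173.EP.ub1 b.simple b.ept (μ := 6) (by norm_num)
    fun _ hx => EPT.six_le b.ept (noAb b) hx
  have h2 : A.index ≤ 1 + r * (2 * (N / 6)) := by
    refine h1.trans (Nat.add_le_add_left ?_ 1)
    exact Nat.mul_le_mul hr (Nat.mul_le_mul_left 2 (Nat.div_le_div_right hA))
  have h3 := A.card_mul_index
  have h4 := ord_ge b
  have h5 : Nat.card Q ≤ N * (1 + r * (2 * (N / 6))) := by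
    rw [← h3]
    exact Nat.mul_le_mul hA h2
  omega

/-- **The general lemma.** -/
theorem small (b : Big A Γ S P) (hg : TwoGen.{0}) (h5 : ∀ p, p.Prime → 5 ≤ p → ¬ p ^ 2 ∣ Nat.card A)
    (hA : Nat.card A ≤ 2 ^ 22) (hgal : galSum (Nat.card A) ≤ 2 ^ 24) : False := by
  have h1 := EPT.ncard_le b.ept hg (noAb b) h5
  refine false_of_le b (h1.trans (Nat.add_le_add (Nat.mul_le_mul hgal (Nat.div_le_div_right hA))
    (Nat.div_le_div_right (Nat.pow_le_pow_left hA 2)))) hA ?_
  norm_num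

/-- the general lemma with the factorisation of the order of `A` -/
theorem small_list (b : Big A Γ S P) (hg : TwoGen.{0}) (l : List (ℕ × ℕ)) (h1 : ∀ x ∈ l, x.1.Prime ∧ 0 < x.2)
    (h2 : (l.map Prod.fst).Nodup) (h5 : ∀ x ∈ l, 5 ≤ x.1 → x.2 = 1) (hc : Nat.card A = (l.map fun x => x.1 ^ x.2).prod)
    (hA : (l.map fun x => x.1 ^ x.2).prod ≤ 2 ^ 22) (hgal : (l.map fun x => gal x.1 x.2).sum ≤ 2 ^ 24) : False := by
  refine small b hg (by rw [hc]; exact not_sq_dvd_list l h1 h2 h5) (by rw [hc]; exact hA) ?_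
  rw [hc, (galSum_list l h1 h2).1]
  exact hgal

/-- the order of the automorphism group -/
theorem card_mulAut_le (L : Type*) [Group L] [Finite L] : Nat.card (MulAut L) ≤ Nat.card (Out L) * Nat.card L := by
  have h2 : Nat.card (Out L) * Nat.card (Inn L) = Nat.card (MulAut L) :=
    (Subgroup.card_eq_card_quotient_mul_card_subgroup _).symm
  rw [← h2]
  refine Nat.mul_le_mul_left _ ?_
  exact Nat.card_le_card_of_surjective (MulAut.conj : L →* MulAut L).rangeRestrict
    (MonoidHom.rangeRestrict_surjective _)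

/-- the order of `A` when `|Out L| = k` -/
theorem card_A (b : Big A Γ S P) {L : Type} [Group L] (e : socle P ≃* L) {c k : ℕ} (hc : Nat.card L = c) (hc0 : c ≠ 0)
    (hk : Nat.card (Out L) = k) : ∃ i, 1 ≤ i ∧ i ≤ k ∧ Nat.card A = i * c := by
  have : Finite L := Nat.finite_of_card_ne_zero (by rw [hc]; exact hc0)
  have h := b.hasSoc' e
  obtain ⟨i, hi⟩ := h.card_dvd
  have h1 := h.card_le
  have h2 := card_mulAut_le L
  rw [hk, hc] at h2
  rw [hc] at hi
  have h3 : c * i ≤ k * c := by rw [← hi]; exact h1.trans h2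
  rw [mul_comm] at h3
  refine ⟨i, ?_, Nat.le_of_mul_le_mul_right h3 (Nat.pos_of_ne_zero hc0), by rw [hi, mul_comm]⟩
  rcases Nat.eq_zero_or_pos i with h0 | h0
  · rw [h0, mul_zero] at hi
    exact absurd hi Nat.card_pos.ne'
  · exact h0

/-- one numeric call for `|Out L| = 1` -/
theorem row_one (b : Big A Γ S P) (hg : TwoGen.{0}) {L : Type} [Group L] (e : socle P ≃* L) {c : ℕ}
    (hc : Nat.card L = c) (hc0 : c ≠ 0) (hk : Nat.card (Out L) = 1)
    (l : List (ℕ × ℕ)) (h1 : ∀ x ∈ l, x.1.Prime ∧ 0 < x.2)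
    (h2 : (l.map Prod.fst).Nodup) (h5 : ∀ x ∈ l, 5 ≤ x.1 → x.2 = 1) (h : c = (l.map fun x => x.1 ^ x.2).prod)
    (hA : (l.map fun x => x.1 ^ x.2).prod ≤ 2 ^ 22) (hgal : (l.map fun x => gal x.1 x.2).sum ≤ 2 ^ 24) : False := by
  obtain ⟨i, hi1, hi2, hi⟩ := card_A b e hc hc0 hk
  have : i = 1 := le_antisymm hi2 hi1
  rw [this, one_mul] at hi
  exact small_list b hg l h1 h2 h5 (hi.trans h) hA hgal

/-- one numeric call for `|Out L| = 2` -/
theorem row_two (b : Big A Γ S P) (hg : TwoGen.{0}) {L : Type} [Group L] (e : socle P ≃* L) {c : ℕ}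
    (hc : Nat.card L = c) (hc0 : c ≠ 0) (hk : Nat.card (Out L) = 2)
    (l l' : List (ℕ × ℕ)) (h1 : ∀ x ∈ l, x.1.Prime ∧ 0 < x.2)
    (h2 : (l.map Prod.fst).Nodup) (h5 : ∀ x ∈ l, 5 ≤ x.1 → x.2 = 1) (h : c = (l.map fun x => x.1 ^ x.2).prod)
    (hA : (l.map fun x => x.1 ^ x.2).prod ≤ 2 ^ 22) (hgal : (l.map fun x => gal x.1 x.2).sum ≤ 2 ^ 24)
    (h1' : ∀ x ∈ l', x.1.Prime ∧ 0 < x.2)
    (h2' : (l'.map Prod.fst).Nodup) (h5' : ∀ x ∈ l', 5 ≤ x.1 → x.2 = 1) (h' : 2 * c = (l'.map fun x => x.1 ^ x.2).prod)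
    (hA' : (l'.map fun x => x.1 ^ x.2).prod ≤ 2 ^ 22) (hgal' : (l'.map fun x => gal x.1 x.2).sum ≤ 2 ^ 24) : False := by
  obtain ⟨i, hi1, hi2, hi⟩ := card_A b e hc hc0 hk
  rcases (show i = 1 ∨ i = 2 by omega) with h0 | h0
  · rw [h0, one_mul] at hi
    exact small_list b hg l h1 h2 h5 (hi.trans h) hA hgal
  · rw [h0] at hi
    exact small_list b hg l' h1' h2' h5' (hi.trans h') hA' hgal'

/-! ### the rows -/

theorem m11 (hg : TwoGen.{0}) (b : Big A Γ S P) (h : Spor.IsoM11 (socle P)) : False := by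
  obtain ⟨e⟩ := h
  exact row_one b hg e Cfsg.Agent.H807.El.card_M11 (by norm_num) S2060.result
    [(2, 4), (3, 2), (5, 1), (11, 1)] (by decide +kernel) (by decide +kernel) (by decide +kernel) (by decide +kernel)
    (by decide +kernel) (by decide +kernel)

theorem m12 (hg : TwoGen.{0}) (b : Big A Γ S P) (h : Spor.IsoM12 (socle P)) : False := by
  obtain ⟨e⟩ := h
  exact row_two b hg e Cfsg.Agent.H807.El.card_M12 (by norm_num) S2061.result
    [(2, 6), (3, 3), (5, 1), (11, 1)] [(2, 7), (3, 3), (5, 1), (11, 1)]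
    (by decide +kernel) (by decide +kernel) (by decide +kernel) (by decide +kernel)
    (by decide +kernel) (by decide +kernel)
    (by decide +kernel) (by decide +kernel) (by decide +kernel) (by decide +kernel)
    (by decide +kernel) (by decide +kernel)

theorem m22 (hg : TwoGen.{0}) (b : Big A Γ S P) (h : Spor.IsoM22 (socle P)) : False := by
  obtain ⟨e⟩ := h
  exact row_two b hg e Cfsg.Agent.H807.El.card_M22 (by norm_num) S2062.result
    [(2, 7), (3, 2), (5, 1), (7, 1), (11, 1)] [(2, 8), (3, 2), (5, 1), (7, 1), (11, 1)]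
    (by decide +kernel) (by decide +kernel) (by decide +kernel) (by decide +kernel)
    (by decide +kernel) (by decide +kernel)
    (by decide +kernel) (by decide +kernel) (by decide +kernel) (by decide +kernel)
    (by decide +kernel) (by decide +kernel)

theorem j1 (hg : TwoGen.{0}) (b : Big A Γ S P) (h : Spor.IsoJ1 (socle P)) : False := by
  obtain ⟨e⟩ := h
  exact row_one b hg (by exact e) Cfsg.Agent.SignalizersComponents.BalEndJ1.card_J1 (by norm_num) S2065.result
    [(2, 3), (3, 1), (5, 1), (7, 1), (11, 1), (19, 1)] (by decide +kernel) (by decide +kernel) (by decide +kernel)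
    (by decide +kernel) (by decide +kernel) (by decide +kernel)

end Big

end Cfsg.Agent.H16.EP
end

-- part: H16/EP/JTwo
section
/-!
# S3499-V: socle `J₂` (helper16), task 6078
-/

set_option autoImplicit false

namespace Cfsg.Agent.H16.EP

open Subgroup Cfsg Cfsg.Geo Cfsg.Agent.H284 Cfsg.Agent.H419.EP Cfsg.Agent.H805.EPT
open scoped MatrixGroups

variable {Q : Type} [Group Q] [Finite Q] {A : Subgroup Q} {Γ : Subgroup (MulAut Q)} {ι : Type} [Fintype ι]
    [DecidableEq ι] {F : Type} [Field F] [Fintype F] {S P : Subgroup (GL ι F)}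

end Cfsg.Agent.H16.EP
end

-- part: H581/EP/Extra
section
/-!
# S3499-V: extraspecial groups `p ^ {1 + 2a}` in `GL_n(q)` (helper581)

`Heis p a x y z` : the relations of `p ^ {1 + 2a}`.
* `Heis.le_card` : `Heis p a x y z` in `GL(ι, F)`, `p ∤ q = |F|` : `p ^ a * ord_p(q) ≤ |ι|`;
* `Heis.le_card_socle` : the same for `Heis p a x y z` in `P / scalars`, `x i ^ p = 1`, `p ∤ q (q - 1)`;
* `Heis.mul_le` : the same, `p ^ a * e ≤ |ι|` if `q ^ j ≢ 1` modulo `p` for `0 < j < e`.
-/

set_option autoImplicit false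

namespace Cfsg.Agent.H581.EP

open Matrix
open scoped MatrixGroups

/-- the relations of an extraspecial group `p ^ {1 + 2a}` with the centre `⟨z⟩` -/
structure Heis {M : Type*} [Group M] (p a : ℕ) (x y : Fin a → M) (z : M) : Prop where
  xx : ∀ i j, x i * x j = x j * x i
  xz : ∀ i, x i * z = z * x i
  yz : ∀ i, y i * z = z * y i
  xy : ∀ i, x i * y i = z * (y i * x i)
  xy' : ∀ i j, i ≠ j → x i * y j = y j * x i
  zp : z ^ p = 1
  z1 : z ≠ 1

/-- `a = 1` -/
theorem Heis.one {M : Type*} [Group M] {p : ℕ} {x y z : M} (hxz : x * z = z * x) (hyz : y * z = z * y)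
    (hxy : x * y = z * (y * x)) (hz : z ^ p = 1) (hz1 : z ≠ 1) : Heis p 1 (fun _ => x) (fun _ => y) z :=
  ⟨fun _ _ => rfl, fun _ => hxz, fun _ => hyz, fun _ => hxy, fun i j hij => absurd (Subsingleton.elim i j) hij, hz, hz1⟩

section mat

variable {ι : Type} {F : Type} [Fintype ι] [DecidableEq ι] [Field F] [Fintype F]

theorem Heis.le_card {p a : ℕ} (hp : p.Prime) (hq : ¬ p ∣ Fintype.card F) {x y : Fin a → GL ι F} {z : GL ι F}
    (h : Heis p a x y z) : p ^ a * orderOf ((Fintype.card F : ℕ) : ZMod p) ≤ Fintype.card ι := by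
  classical
  have hpf := Fact.mk hp
  let L := AlgebraicClosure F
  let φ : F →+* L := algebraMap F L
  -- the operators
  let f : GL ι F → (ι → L) →ₗ[L] (ι → L) := fun g => (φ.mapMatrix (g : Matrix ι ι F)).mulVecLin
  have hfa : ∀ g v i, f g v i = ∑ j, φ ((g : Matrix ι ι F) i j) * v j := fun g v i => rfl
  have hfm : ∀ g g', f (g * g') = f g * f g' := by
    intro g g'
    show (φ.mapMatrix ((g * g' : GL ι F) : Matrix ι ι F)).mulVecLin = _
    rw [Units.val_mul, map_mul, Matrix.mulVecLin_mul]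
    rfl
  have hf1 : f 1 = 1 := by
    show (φ.mapMatrix ((1 : GL ι F) : Matrix ι ι F)).mulVecLin = _
    rw [Units.val_one, map_one, Matrix.mulVecLin_one]
    rfl
  have hfi : Function.Injective f := by
    intro g g' hgg
    apply Units.ext
    ext i j
    have h1 : f g (Pi.single j 1) i = f g' (Pi.single j 1) i := by rw [hgg]
    rw [hfa, hfa, Finset.sum_eq_single j (fun k _ hk => by rw [Pi.single_eq_of_ne hk, mul_zero])
      (fun hj => absurd (Finset.mem_univ j) hj), Finset.sum_eq_single j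
      (fun k _ hk => by rw [Pi.single_eq_of_ne hk, mul_zero]) (fun hj => absurd (Finset.mem_univ j) hj),
      Pi.single_eq_same, mul_one, mul_one] at h1
    exact φ.injective h1
  have hf0 : ∀ g v, v ≠ 0 → f g v ≠ 0 := by
    intro g v hv hgv
    apply hv
    have h1 : f (g⁻¹ * g) v = 0 := by rw [hfm, Module.End.mul_apply, hgv, map_zero]
    rwa [inv_mul_cancel, hf1, Module.End.one_apply] at h1
  have hfp : ∀ g (n : ℕ), f (g ^ n) = f g ^ n := by
    intro g n
    induction n with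
    | zero => rw [pow_zero, pow_zero, hf1]
    | succ n ih => rw [pow_succ, pow_succ, hfm, ih]
  -- the characteristic
  obtain ⟨ℓ, hℓ⟩ := CharP.exists F
  obtain ⟨m, hℓp, hcard⟩ := FiniteField.card F ℓ
  have := Fact.mk hℓp
  have hℓL : CharP L ℓ := charP_of_injective_algebraMap φ.injective ℓ
  have hpℓ : ¬ ℓ ∣ p := by
    intro hd
    have h1 := (Nat.prime_dvd_prime_iff_eq hℓp hp).1 hd
    apply hq
    rw [hcard, ← h1]
    exact dvd_pow_self ℓ m.ne_zero
  have hpL : (p : L) ≠ 0 := by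
    intro h0
    exact hpℓ ((CharP.cast_eq_zero_iff L ℓ p).1 h0)
  -- the initial vector
  obtain ⟨v, χ, hv, hχ, hχ1⟩ := H203.LS.exists_weight (J := Option (Fin a))
    (fun j => f (j.elim z x)) (by
      intro i j
      rw [← hfm, ← hfm]
      congr 1
      cases i <;> cases j
      · rfl
      · exact (h.xz _).symm
      · exact h.xz _
      · exact h.xx _ _) (j0 := none) (N := p) hpL (by
      show f z ^ p = 1
      rw [← hfp, h.zp, hf1]) (by
      show f z ≠ 1
      rw [← hf1]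
      exact fun e => h.z1 (hfi e))
  set ζ := χ none with hζ
  have hvz : f z v = ζ • v := hχ none
  have hvx : ∀ i, f (x i) v = χ (some i) • v := fun i => hχ (some i)
  have hζp : ζ ^ p = 1 := by
    have h1 : ∀ n : ℕ, (f z ^ n) v = ζ ^ n • v := by
      intro n
      induction n with
      | zero => simp
      | succ n ih => rw [pow_succ', Module.End.mul_apply, ih, map_smul, hvz, smul_smul, pow_succ]
    have h2 := h1 p
    rw [← hfp, h.zp, hf1, Module.End.one_apply] at h2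
    have h3 : (ζ ^ p - 1) • v = 0 := by rw [sub_smul, one_smul, ← h2, sub_self]
    exact sub_eq_zero.1 ((smul_eq_zero.1 h3).resolve_right hv)
  have hζo : orderOf ζ = p := orderOf_eq_prime hζp hχ1
  have hζ0 : ζ ≠ 0 := by
    intro h0
    rw [h0, zero_pow hp.ne_zero] at hζp
    exact zero_ne_one hζp
  have hζm : ∀ m n : ℕ, ζ ^ m = ζ ^ n → m ≡ n [MOD p] := by
    intro m n hmn
    let u : Lˣ := Units.mk0 ζ hζ0
    have h1 : orderOf u = p := by rw [← hζo, ← orderOf_units]; rfl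
    have h2 : u ^ m = u ^ n := by
      apply Units.ext
      rw [Units.val_pow_eq_pow_val, Units.val_pow_eq_pow_val]
      exact hmn
    have h3 := pow_eq_pow_iff_modEq.1 h2
    rwa [h1] at h3
  have hχ0 : ∀ i, χ (some i) ≠ 0 := by
    intro i h0
    have h1 := hvx i
    rw [h0, zero_smul] at h1
    exact hf0 _ _ hv h1
  -- the vectors
  have hw : ∀ (s : ℕ) (k : Fin a → ℕ), ∑ i, k i = s → ∃ w : ι → L, w ≠ 0 ∧ f z w = ζ • w ∧
      ∀ i, f (x i) w = (ζ ^ (k i) * χ (some i)) • w := by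
    intro s
    induction s with
    | zero =>
      intro k hk
      refine ⟨v, hv, hvz, fun i => ?_⟩
      have h1 : k i = 0 := by
        have := Finset.sum_eq_zero_iff.1 hk i (Finset.mem_univ i)
        exact this
      rw [h1, pow_zero, one_mul]
      exact hvx i
    | succ s ih =>
      intro k hk
      obtain ⟨j, -, hj⟩ : ∃ j ∈ Finset.univ, k j ≠ 0 := by
        by_contra hcon
        push Not at hcon
        rw [Finset.sum_eq_zero hcon] at hk
        omega
      obtain ⟨w, hw0, hwz, hwx⟩ := ih (Function.update k j (k j - 1)) (by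
        have h1 : ∑ i, k i = k j + ∑ i ∈ Finset.univ.erase j, k i := (Finset.add_sum_erase _ _ (Finset.mem_univ j)).symm
        have h2 : ∑ i, Function.update k j (k j - 1) i = (k j - 1) + ∑ i ∈ Finset.univ.erase j, k i := by
          rw [← Finset.add_sum_erase _ _ (Finset.mem_univ j), Function.update_self]
          congr 1
          apply Finset.sum_congr rfl
          intro i hi
          rw [Function.update_of_ne (Finset.ne_of_mem_erase hi)]
        omega)
      refine ⟨f (y j) w, hf0 _ _ hw0, ?_, fun i => ?_⟩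
      · rw [← Module.End.mul_apply, ← hfm, ← h.yz, hfm, Module.End.mul_apply, hwz, map_smul]
      · by_cases hij : i = j
        · subst hij
          rw [← Module.End.mul_apply, ← hfm, h.xy, hfm, hfm, Module.End.mul_apply, Module.End.mul_apply, hwx, map_smul,
            map_smul, ← Module.End.mul_apply, ← hfm, ← h.yz, hfm, Module.End.mul_apply, hwz, map_smul, smul_smul,
            Function.update_self]
          congr 1
          obtain ⟨t, ht⟩ : ∃ t, k i = t + 1 := ⟨k i - 1, by omega⟩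
          rw [ht, Nat.add_sub_cancel, pow_succ]
          ring
        · rw [← Module.End.mul_apply, ← hfm, h.xy' i j hij, hfm, Module.End.mul_apply, hwx, map_smul,
            Function.update_of_ne hij]
  -- the Frobenius
  have hΦ : ∀ (j : ℕ) (w : ι → L), w ≠ 0 → ∃ w' : ι → L, w' ≠ 0 ∧ ∀ (g : GL ι F) (c : L), f g w = c • w →
      f g w' = c ^ (Fintype.card F ^ j) • w' := by
    intro j w hw0
    let σ : L →+* L := iterateFrobenius L ℓ (m * j)
    have hσ : ∀ c : L, σ c = c ^ (Fintype.card F ^ j) := by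
      intro c
      show iterateFrobenius L ℓ (m * j) c = _
      rw [iterateFrobenius_def, hcard, pow_mul]
    have hσφ : ∀ c : F, σ (φ c) = φ c := by
      intro c
      rw [hσ, ← map_pow, FiniteField.pow_card_pow]
    refine ⟨fun i => σ (w i), ?_, ?_⟩
    · intro h0
      apply hw0
      funext i
      have h1 : σ (w i) = 0 := congrFun h0 i
      exact (map_eq_zero σ).1 h1
    · intro g c hgc
      funext i
      have h1 := congrArg σ (congrFun hgc i)
      rw [hfa, map_sum] at h1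
      rw [hfa]
      rw [Pi.smul_apply, smul_eq_mul, map_mul, hσ c] at h1
      rw [Pi.smul_apply, smul_eq_mul, ← h1]
      apply Finset.sum_congr rfl
      intro k _
      rw [map_mul, hσφ]
  choose! W hW0 hWz hWx using fun k : Fin a → Fin p => hw _ (fun i => (k i : ℕ)) rfl
  choose! V hV0 hV using hΦ
  set e := orderOf ((Fintype.card F : ℕ) : ZMod p) with he
  have key := H203.LS.card_le_of_weights (k := L) (V := ι → L) (ι := (Fin a → Fin p) × Fin e) (J := Option (Fin a))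
    (fun j => f (j.elim z x)) (fun t => V (t.2 : ℕ) (W t.1))
    (fun t j => j.elim (ζ ^ (Fintype.card F ^ (t.2 : ℕ))) fun i => (ζ ^ (t.1 i : ℕ) * χ (some i)) ^ (Fintype.card F ^ (t.2 : ℕ)))
    (fun t => hV0 _ _ (hW0 _)) (by
      intro t j
      cases j with
      | none => exact hV _ _ (hW0 _) _ _ (hWz _)
      | some i => exact hV _ _ (hW0 _) _ _ (hWx _ i)) (by
      rintro ⟨k, j⟩ ⟨k', j'⟩ hkj
      have h1 : ζ ^ (Fintype.card F ^ (j : ℕ)) = ζ ^ (Fintype.card F ^ (j' : ℕ)) := congrFun hkj none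
      have h2 : ∀ i, (ζ ^ (k i : ℕ) * χ (some i)) ^ (Fintype.card F ^ (j : ℕ)) =
          (ζ ^ (k' i : ℕ) * χ (some i)) ^ (Fintype.card F ^ (j' : ℕ)) := fun i => congrFun hkj (some i)
      have h3 : j = j' := by
        have h4 : Fintype.card F ^ (j : ℕ) ≡ Fintype.card F ^ (j' : ℕ) [MOD p] := hζm _ _ h1
        have h5 := (ZMod.natCast_eq_natCast_iff _ _ _).2 h4
        rw [Nat.cast_pow, Nat.cast_pow] at h5
        have h6 : ((Fintype.card F : ℕ) : ZMod p) ≠ 0 := by
          intro h0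
          exact hq ((ZMod.natCast_eq_zero_iff _ _).1 h0)
        let u : (ZMod p)ˣ := Units.mk0 _ h6
        have h7 : u ^ (j : ℕ) = u ^ (j' : ℕ) := by
          apply Units.ext
          rw [Units.val_pow_eq_pow_val, Units.val_pow_eq_pow_val]
          exact h5
        have h8 : orderOf u = e := by rw [he, ← orderOf_units]; rfl
        have h9 := pow_inj_mod.1 h7
        rw [h8, Nat.mod_eq_of_lt j.2, Nat.mod_eq_of_lt j'.2] at h9
        exact Fin.ext h9
      subst h3
      congr 1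
      funext i
      have h4 := h2 i
      have h5 : ζ ^ (k i : ℕ) * χ (some i) = ζ ^ (k' i : ℕ) * χ (some i) := by
        have hinj : Function.Injective (iterateFrobenius L ℓ (m * j)) := RingHom.injective _
        apply hinj
        rw [iterateFrobenius_def, iterateFrobenius_def, pow_mul, ← hcard]
        exact h4
      have h6 := mul_right_cancel₀ (hχ0 i) h5
      have h7 : (k i : ℕ) ≡ (k' i : ℕ) [MOD p] := hζm _ _ h6
      have h8 := Nat.ModEq.eq_of_lt_of_lt h7 (k i).2 (k' i).2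
      exact Fin.ext h8)
  rw [Nat.card_prod, Nat.card_eq_fintype_card, Nat.card_eq_fintype_card, Fintype.card_fun, Fintype.card_fin,
    Fintype.card_fin, Fintype.card_fin, Module.finrank_pi] at key
  exact key

end mat

/-! ### lifting from `P / scalars` -/

section lift

theorem Heis.map {M N : Type*} [Group M] [Group N] {p a : ℕ} {x y : Fin a → M} {z : M} (h : Heis p a x y z)
    (f : M →* N) (hf : Function.Injective f) : Heis p a (fun i => f (x i)) (fun i => f (y i)) (f z) :=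
  ⟨fun i j => by rw [← map_mul, h.xx, map_mul], fun i => by rw [← map_mul, h.xz, map_mul],
    fun i => by rw [← map_mul, h.yz, map_mul], fun i => by rw [← map_mul, h.xy, map_mul, map_mul],
    fun i j hij => by rw [← map_mul, h.xy' i j hij, map_mul], by rw [← map_pow, h.zp, map_one],
    fun e => h.z1 (hf (by rw [e, map_one]))⟩

theorem pow_of_comm {G : Type*} [Group G] {p : ℕ} {a b c : G} (ha : a ^ p = 1) (hca : c * a = a * c)
    (h : a * b = c * (b * a)) : c ^ p = 1 := by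
  have h1 : b * a * b⁻¹ = c⁻¹ * a := by
    rw [mul_inv_eq_iff_eq_mul, mul_assoc, h, inv_mul_cancel_left]
  have h2 : (b * a * b⁻¹) ^ p = 1 := by rw [conj_pow, ha, mul_one, mul_inv_cancel]
  have h3 : Commute c⁻¹ a := Commute.inv_left hca
  rw [h1, h3.mul_pow, ha, mul_one, inv_pow, inv_eq_one] at h2
  exact h2

theorem eq_one_of_pow {G : Type*} [Group G] {p m : ℕ} (hpm : Nat.Coprime p m) {s : G} (hs : s ^ m = 1)
    (h : s ^ p = 1) : s = 1 := by
  have h1 : orderOf s ∣ p := orderOf_dvd_of_pow_eq_one h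
  have h2 : orderOf s ∣ m := orderOf_dvd_of_pow_eq_one hs
  exact orderOf_eq_one_iff.1 (Nat.dvd_one.1 (hpm ▸ Nat.dvd_gcd h1 h2))

/-- an element of order `p` lifts to an element of order `p` -/
theorem exists_lift_pow {G : Type*} [Group G] {Z : Subgroup G} [Z.Normal] {p m : ℕ} (hpm : Nat.Coprime p m)
    (hm : ∀ s ∈ Z, s ^ m = 1) {g : G ⧸ Z} (hg : g ^ p = 1) : ∃ g' : G, (g' : G ⧸ Z) = g ∧ g' ^ p = 1 := by
  obtain ⟨g0, rfl⟩ := QuotientGroup.mk_surjective g
  obtain ⟨k, hk1, hk2⟩ := Nat.chineseRemainder hpm 1 0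
  refine ⟨g0 ^ k, ?_, ?_⟩
  · rw [QuotientGroup.mk_pow]
    have h1 : (g0 : G ⧸ Z) ^ k = (g0 : G ⧸ Z) ^ 1 := by
      rw [pow_eq_pow_iff_modEq]
      exact hk1.of_dvd (orderOf_dvd_of_pow_eq_one hg)
    rw [h1, pow_one]
  · obtain ⟨t, rfl⟩ := (Nat.modEq_zero_iff_dvd).1 hk2
    have h1 : g0 ^ p ∈ Z := by
      rw [← QuotientGroup.eq_one_iff, QuotientGroup.mk_pow]
      exact hg
    have h2 := hm _ h1
    calc (g0 ^ (m * t)) ^ p = ((g0 ^ p) ^ m) ^ t := by
          rw [← pow_mul, ← pow_mul, ← pow_mul]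
          congr 1
          ring
      _ = 1 := by rw [h2, one_pow]

theorem Heis.lift {G : Type*} [Group G] {Z : Subgroup G} [Z.Normal] (hZ : ∀ s ∈ Z, ∀ g : G, s * g = g * s) {p m a : ℕ}
    (hpm : Nat.Coprime p m) (hm : ∀ s ∈ Z, s ^ m = 1) {x y : Fin a → G ⧸ Z} {z : G ⧸ Z} (h : Heis p a x y z)
    (hx : ∀ i, x i ^ p = 1) : ∃ (x' y' : Fin a → G) (z' : G), Heis p a x' y' z' := by
  have hx' : ∀ i, ∃ g' : G, (g' : G ⧸ Z) = x i ∧ g' ^ p = 1 := fun i => exists_lift_pow hpm hm (hx i)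
  choose x' hx1 hx2 using hx'
  obtain ⟨z', hz1, hz2⟩ := exists_lift_pow hpm hm h.zp
  have hy' : ∀ i, ∃ g' : G, (g' : G ⧸ Z) = y i := fun i => QuotientGroup.mk_surjective (y i)
  choose y' hy1 using hy'
  -- the tool
  have tool : ∀ u v : G, u ^ p = 1 → (u : G ⧸ Z) * v = v * u → u * v = v * u := by
    intro u v hu huv
    have hc : (u * v) * (v * u)⁻¹ ∈ Z := by
      rw [← QuotientGroup.eq_one_iff, QuotientGroup.mk_mul, QuotientGroup.mk_inv, QuotientGroup.mk_mul,
        QuotientGroup.mk_mul, huv, mul_inv_cancel]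
    have h1 : ((u * v) * (v * u)⁻¹) ^ p = 1 := pow_of_comm (a := u) (b := v) hu (hZ _ hc u) (by group)
    have h2 := eq_one_of_pow hpm (hm _ hc) h1
    rw [mul_inv_eq_one] at h2
    exact h2
  have hxz : ∀ i, x' i * z' = z' * x' i := fun i => tool _ _ (hx2 i) (by rw [hx1, hz1, h.xz])
  refine ⟨x', y', z', ⟨fun i j => tool _ _ (hx2 i) (by rw [hx1, hx1, h.xx]), hxz,
    fun i => (tool _ _ hz2 (by rw [hy1, hz1, h.yz])).symm, fun i => ?_,
    fun i j hij => tool _ _ (hx2 i) (by rw [hx1, hy1, h.xy' i j hij]), hz2, ?_⟩⟩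
  · set! c := (x' i * y' i) * (y' i * x' i)⁻¹ with hc
    have h1 : z'⁻¹ * c ∈ Z := by
      rw [← QuotientGroup.eq_one_iff, hc, QuotientGroup.mk_mul, QuotientGroup.mk_mul, QuotientGroup.mk_inv,
        QuotientGroup.mk_inv, QuotientGroup.mk_mul, QuotientGroup.mk_mul, hx1, hy1, hz1, h.xy]
      group
    have h2 : x' i * y' i = c * (y' i * x' i) := by rw [hc, inv_mul_cancel_right]
    have h3 : c * x' i = x' i * c := by
      have h4 : c = z' * (z'⁻¹ * c) := by group
      rw [h4, mul_assoc, hZ _ h1, ← mul_assoc, ← hxz, mul_assoc]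
    have h4 := pow_of_comm (hx2 i) h3 h2
    have h5 : (z'⁻¹ * c) ^ p = 1 := by
      have h6 : Commute (z'⁻¹ * c) z' := hZ _ h1 z'
      have h7 : Commute z'⁻¹ c := by
        have h8 : Commute z' c := by
          have h9 : c = z' * (z'⁻¹ * c) := by group
          rw [h9]
          exact (Commute.refl z').mul_right h6.symm
        exact h8.inv_left
      rw [h7.mul_pow, h4, inv_pow, hz2, inv_one, mul_one]
    have h6 := eq_one_of_pow hpm (hm _ h1) h5
    rw [inv_mul_eq_one] at h6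
    rw [h2, ← h6]
  · intro e
    apply h.z1
    rw [← hz1, e, QuotientGroup.mk_one]

end lift

variable {ι : Type} {F : Type} [Fintype ι] [DecidableEq ι] [Field F] [Fintype F]

omit [Fintype F] in
theorem scalars_comm' {s : GL ι F} (hs : s ∈ Cfsg.Geo.scalars ι F) (g : GL ι F) : s * g = g * s := by
  obtain ⟨c, hc⟩ := (Cfsg.Geo.mem_scalars_iff s).1 hs
  apply Units.ext
  rw [Units.val_mul, Units.val_mul, hc, smul_mul_assoc, one_mul, mul_smul_comm, mul_one]

theorem scalars_pow {s : GL ι F} (hs : s ∈ Cfsg.Geo.scalars ι F) : s ^ (Fintype.card F - 1) = 1 := by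
  obtain ⟨c, hc⟩ := (Cfsg.Geo.mem_scalars_iff s).1 hs
  apply Units.ext
  rw [Units.val_pow_eq_pow_val, hc, smul_pow, one_pow, FiniteField.pow_card_sub_one_eq_one _ c.ne_zero, one_smul,
    Units.val_one]

/-- **`p ^ {1 + 2a}` in `P / scalars`**: `p ^ a * ord_p(q) ≤ n`. -/
theorem Heis.le_card_socle {p a : ℕ} (hp : p.Prime) (hq : ¬ p ∣ Fintype.card F) (hq1 : ¬ p ∣ Fintype.card F - 1)
    {P : Subgroup (GL ι F)} {x y : Fin a → H419.EP.socle P} {z : H419.EP.socle P} (h : Heis p a x y z)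
    (hx : ∀ i, x i ^ p = 1) : p ^ a * orderOf ((Fintype.card F : ℕ) : ZMod p) ≤ Fintype.card ι := by
  obtain ⟨x', y', z', h'⟩ := Heis.lift (m := Fintype.card F - 1) (Z := (Cfsg.Geo.scalars ι F).subgroupOf P) (by
    rintro ⟨s, hs'⟩ hs ⟨g, hg⟩
    exact Subtype.ext (scalars_comm' hs g)) ((Nat.Prime.coprime_iff_not_dvd hp).2 hq1) (by
    rintro ⟨s, hs'⟩ hs
    exact Subtype.ext (scalars_pow hs)) h hx
  exact (h'.map P.subtype P.subtype_injective).le_card hp hq

/-- lower bound for `ord_p(q)` -/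
theorem le_orderOf {p q e : ℕ} (hp : p.Prime) (hq : ¬ p ∣ q) (h : ∀ j, 0 < j → j < e → q ^ j % p ≠ 1) :
    e ≤ orderOf ((q : ℕ) : ZMod p) := by
  have := Fact.mk hp
  have h6 : ((q : ℕ) : ZMod p) ≠ 0 := by
    intro h0
    exact hq ((ZMod.natCast_eq_zero_iff _ _).1 h0)
  have h8 : orderOf (Units.mk0 _ h6) = orderOf ((q : ℕ) : ZMod p) := by rw [← orderOf_units]; rfl
  have h9 : 0 < orderOf ((q : ℕ) : ZMod p) := by
    rw [← h8]
    exact orderOf_pos _
  by_contra hlt
  push Not at hlt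
  apply h _ h9 hlt
  have h10 := pow_orderOf_eq_one ((q : ℕ) : ZMod p)
  have h11 : ((q ^ orderOf ((q : ℕ) : ZMod p) : ℕ) : ZMod p) = ((1 : ℕ) : ZMod p) := by
    rw [Nat.cast_pow, Nat.cast_one]
    exact h10
  have h12 := (ZMod.natCast_eq_natCast_iff _ _ _).1 h11
  rw [Nat.ModEq, Nat.mod_eq_of_lt hp.one_lt] at h12
  exact h12

/-- the form to be used: `q ^ j ≢ 1` mod `p` for `0 < j < e` -/
theorem Heis.mul_le {p a e : ℕ} (hp : p.Prime) (hq : ¬ p ∣ Fintype.card F) (he : 2 ≤ e)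
    (hj : ∀ j, 0 < j → j < e → Fintype.card F ^ j % p ≠ 1)
    {P : Subgroup (GL ι F)} {x y : Fin a → H419.EP.socle P} {z : H419.EP.socle P} (h : Heis p a x y z)
    (hx : ∀ i, x i ^ p = 1) : p ^ a * e ≤ Fintype.card ι := by
  refine le_trans (Nat.mul_le_mul_left _ (le_orderOf hp hq hj)) (h.le_card_socle hp hq ?_ hx)
  intro hd
  apply hj 1 one_pos he
  rw [pow_one]
  obtain ⟨t, ht⟩ := hd
  have h1 : 0 < Fintype.card F := Fintype.card_pos
  have h2 : Fintype.card F = 1 + p * t := by omega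
  rw [h2, Nat.add_mul_mod_self_left, Nat.mod_eq_of_lt hp.one_lt]

end Cfsg.Agent.H581.EP
end

-- part: H581/EP/HS
section
/-!
# S3499-V, row `soc(A) = HS` (helper581)

UB1 + UB2 : `|Q| < 2 ^ 110`, hence `|F| = 2`, `n ≤ 15`; but `5 ^ {1 + 2} < HS` needs `n ≥ 20` over `F_2`.
-/

set_option autoImplicit false

namespace Cfsg.Agent.H581.EP

open Subgroup Cfsg Cfsg.Agent.H284 Cfsg.Agent.H419.EP Cfsg.Agent.H59.EP
open scoped MatrixGroups

/-- `5 ^ {1 + 2}` in `HS` -/
theorem heis_hs {L : Type*} [Group L] (h : Spor.IsoHS L) : ∃ x z : L, ∃ y : L, x ^ 5 = 1 ∧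
    Heis 5 1 (fun _ => x) (fun _ => y) z := by
  obtain ⟨D, ψ, Rp⟩ := H904.HSCent.exists_rep h
  obtain ⟨u, v, c, w, hu, hv, hc5, huc, hvc, huv, -⟩ := H602.Der.HSFive.exists_five' Rp
  refine ⟨u, c, v, by rw [← hu, pow_orderOf_eq_one], Heis.one huc hvc huv (by rw [← hc5, pow_orderOf_eq_one]) ?_⟩
  rintro rfl
  rw [orderOf_one] at hc5
  norm_num at hc5

/-- **Row `soc(A) = HS`** -/
theorem hs (hg : TwoGen.{0}) : BigOf (fun L _ => Spor.IsoHS L) := by
  intro Q _ _ A Γ ι _ _ F _ _ S P b h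
  have hc := NotCT.Orders.hs h
  have hfin : Finite (socle P) := Nat.finite_of_card_ne_zero (by rw [hc]; norm_num)
  have hsp : IsSporadicGroup (socle P) := by
    unfold IsSporadicGroup
    itauto
  have hA : Nat.card A ∣ 88704000 := by
    rcases H805.EPT.cardA b.hasSoc b.core.simple (by rw [hc]; norm_num) (H498.SporOut.index_le_two hsp) with h1 | h1
    · rw [h1, hc]; norm_num
    · rw [h1, hc]
  have hQ := H812.EP.card_le hg b [(2, 10), (3, 2), (5, 3), (7, 1), (11, 1)] (by decide +kernel) (by decide +kernel)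
    (N := 88704000) (by decide +kernel) hA (by norm_num)
  have hQ2 : Nat.card Q < 2 ^ 110 := lt_of_le_of_lt hQ (by decide +kernel)
  have hord := b.ord
  have hn := b.thirteen
  have h2 := b.two_le
  -- `|F| = 2`
  have hF : Fintype.card F = 2 := by
    by_contra hne
    have h3 : 3 ^ 78 ≤ Fintype.card F ^ (Fintype.card ι * (Fintype.card ι - 1) / 2) :=
      (Nat.pow_le_pow_left (by omega) _).trans (Nat.pow_le_pow_right (by omega)
        ((by norm_num : 78 ≤ 13 * (13 - 1) / 2).trans (Nat.div_le_div_right (Nat.mul_le_mul hn (by omega)))))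
    have h4 : 8 * (2 : ℕ) ^ 110 < 3 ^ 78 := by norm_num
    omega
  obtain ⟨x, z, y, hx, hz⟩ := heis_hs h
  have h20 : 5 ^ 1 * 4 ≤ Fintype.card ι := hz.mul_le (by norm_num) (by rw [hF]; norm_num) (by norm_num) (by
    intro j h1 h2
    rw [hF]
    interval_cases j <;> norm_num) (fun _ => hx)
  have h5 := b.ord_two (N := 20) h20
  have h6 : 8 * (2 : ℕ) ^ 110 < 2 ^ (20 * (20 - 1) / 2) := by norm_num
  omega

end Cfsg.Agent.H581.EP
end

-- part: H331/EPV/McL
section
/-!
# S3499-V, the sporadic row `soc(A) = McL` (helper331)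

The numerical bound (`UB1` and the three-generator form of `UB2`) gives `|Q| < 2 ^ 141`, so `|F| ≤ 3` and `n ≤ 19` by the order
bound of `Big`; but then the Sylow 5-subgroups of all sections of `GL_n(F)` are abelian (`n < 5 · 4`), those of `McL` are not.
-/

set_option autoImplicit false

namespace Cfsg.Agent.H331.EPV

open Subgroup Cfsg Cfsg.Agent.H284 Cfsg.Agent.H419.EP Cfsg.Agent.H59.EP
open scoped MatrixGroups

theorem card_mcl : Nat.card Spor.McL = 898128000 := Cfsg.Agent.TypeM.FactsMcL.exists_mt_mcl.2.2.1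

theorem card_mulAut_mcl : Nat.card (MulAut Spor.McL) ≤ 2 * 898128000 := by
  have hfin : Finite Spor.McL := Cfsg.Agent.TypeM.FactsMcL.exists_mt_mcl.1
  have hidx : (MulAut.conj : ↥Cfsg.Spor.McL →* MulAut ↥Cfsg.Spor.McL).range.index = 2 := S2073.result
  rw [← (MulAut.conj : ↥Cfsg.Spor.McL →* MulAut ↥Cfsg.Spor.McL).range.card_mul_index, hidx, mul_comm]
  apply Nat.mul_le_mul_left
  rw [← card_mcl]
  exact Nat.card_le_card_of_surjective _ (MulAut.conj : ↥Cfsg.Spor.McL →* MulAut ↥Cfsg.Spor.McL).rangeRestrict_surjective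

variable {Q : Type} [Group Q] [Finite Q] {A : Subgroup Q} {Γ : Subgroup (MulAut Q)}

theorem mcl_cardA (hsoc : HasSoc A Spor.McL) : Nat.card A = 898128000 ∨ Nat.card A = 1796256000 := by
  have hfin : Finite Spor.McL := Cfsg.Agent.TypeM.FactsMcL.exists_mt_mcl.1
  have h1 := hsoc.card_le.trans card_mulAut_mcl
  obtain ⟨k, hk⟩ := hsoc.card_dvd
  rw [card_mcl] at hk
  have h0 : 0 < Nat.card A := Nat.card_pos
  rcases k with _ | _ | _ | k
  · omega
  · left; omega
  · right; omega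
  · exfalso
    have : 898128000 * 3 ≤ 898128000 * (k + 1 + 1 + 1) := Nat.mul_le_mul_left _ (by omega)
    omega

/-- the form of `UB1`, `UB2` used here -/
def Bd (A : Subgroup Q) (l : List (ℕ × ℕ)) : Prop :=
  A.index ≤ 1 + ((l.map fun x => gal x.1 x.2).sum * (Nat.card A / 6) + Nat.card A ^ 2 / 60 + Nat.card A ^ 3 / 3600) *
    (2 * (Nat.card A / 6))

theorem card_lt (l : List (ℕ × ℕ)) (hl : (l.map fun x => gal x.1 x.2).sum < 2 ^ 20) (hA : Nat.card A ≤ 1796256000)
    (h : Bd A l) : Nat.card Q < 2 ^ 141 := by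
  have h1 : Nat.card A / 6 ≤ 299376000 := (Nat.div_le_div_right hA).trans (by norm_num)
  have h2 : Nat.card A ^ 2 / 60 ≤ 1796256000 ^ 2 / 60 := Nat.div_le_div_right (Nat.pow_le_pow_left hA 2)
  have h3 : Nat.card A ^ 3 / 3600 ≤ 1796256000 ^ 3 / 3600 := Nat.div_le_div_right (Nat.pow_le_pow_left hA 3)
  have h4 : A.index ≤ 1 + (2 ^ 20 * 299376000 + 1796256000 ^ 2 / 60 + 1796256000 ^ 3 / 3600) * (2 * 299376000) := by
    refine le_trans h (Nat.add_le_add_left (Nat.mul_le_mul ?_ (Nat.mul_le_mul_left _ h1)) 1)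
    exact Nat.add_le_add (Nat.add_le_add (Nat.mul_le_mul hl.le h1) h2) h3
  rw [← A.card_mul_index]
  calc Nat.card A * A.index ≤ 1796256000 *
      (1 + (2 ^ 20 * 299376000 + 1796256000 ^ 2 / 60 + 1796256000 ^ 3 / 3600) * (2 * 299376000)) := Nat.mul_le_mul hA h4
    _ < 2 ^ 141 := by norm_num

variable {ι : Type} [Fintype ι] [DecidableEq ι] {F : Type} [Field F] [Fintype F] {S P : Subgroup (GL ι F)}

/-- small `n` and `q` from the order of `Q` -/
theorem small (b : Big A Γ S P) (h : Nat.card Q < 2 ^ 141) : Fintype.card F ≤ 3 ∧ Fintype.card ι < 20 := by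
  have h8 : 8 * Nat.card Q < 2 ^ 144 := by
    calc 8 * Nat.card Q < 8 * 2 ^ 141 := Nat.mul_lt_mul_of_pos_left h (by norm_num)
      _ = 2 ^ 144 := by norm_num
  have hb := b.ord
  have hn := b.thirteen
  have h2 := b.two_le
  have hmono : ∀ N : ℕ, N ≤ Fintype.card ι → N * (N - 1) / 2 ≤ Fintype.card ι * (Fintype.card ι - 1) / 2 := by
    intro N hN
    apply Nat.div_le_div_right
    exact Nat.mul_le_mul hN (by omega)
  constructor
  · by_contra hcon
    push Not at hcon
    have h3 : 4 ^ 78 ≤ Fintype.card F ^ (Fintype.card ι * (Fintype.card ι - 1) / 2) :=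
      (Nat.pow_le_pow_left hcon 78).trans (Nat.pow_le_pow_right (by omega) (hmono 13 hn))
    have h4 : 4 ^ 78 < 2 ^ 144 := lt_of_le_of_lt (h3.trans hb) h8
    norm_num at h4
  · by_contra hcon
    push Not at hcon
    have h3 : 2 ^ 190 ≤ Fintype.card F ^ (Fintype.card ι * (Fintype.card ι - 1) / 2) :=
      (Nat.pow_le_pow_left h2 190).trans (Nat.pow_le_pow_right (by omega) (hmono 20 hcon))
    have h4 : 2 ^ 190 < 2 ^ 144 := lt_of_le_of_lt (h3.trans hb) h8
    norm_num at h4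

theorem ord_five {q : ℕ} (h2 : 2 ≤ q) (h3 : q ≤ 3) : orderOf (q : ZMod 5) = 4 := by
  have hf : Fact (Nat.Prime 2) := ⟨Nat.prime_two⟩
  have h4 : 4 = 2 ^ (1 + 1) := by norm_num
  rw [h4]
  rcases (show q = 2 ∨ q = 3 by omega) with rfl | rfl
  · apply orderOf_eq_prime_pow <;> decide
  · apply orderOf_eq_prime_pow <;> decide

/-- **The row `McL`**, from the numerical bounds. -/
theorem mcl_of_bd (b : Big A Γ S P) (h : Spor.IsoMcL (socle P))
    (hbd : ∀ l : List (ℕ × ℕ), (∀ x ∈ l, x.1.Prime ∧ 0 < x.2) → (l.map Prod.fst).Nodup →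
      Nat.card A = (l.map fun x => x.1 ^ x.2).prod → Bd A l) : False := by
  obtain ⟨e⟩ := id h
  have hsoc := b.hasSoc' e
  have hQ : Nat.card Q < 2 ^ 141 := by
    rcases mcl_cardA hsoc with h1 | h1
    · refine card_lt [(2, 7), (3, 6), (5, 3), (7, 1), (11, 1)] (by decide +kernel) (by rw [h1]; norm_num)
        (hbd _ (by decide +kernel) (by decide +kernel) (by rw [h1]; decide +kernel))
    · refine card_lt [(2, 8), (3, 6), (5, 3), (7, 1), (11, 1)] (by decide +kernel) (by rw [h1])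
        (hbd _ (by decide +kernel) (by decide +kernel) (by rw [h1]; decide +kernel))
  obtain ⟨h3, h20⟩ := small b hQ
  have h2 := b.two_le
  have h5 : Fact (Nat.Prime 5) := ⟨Nat.prime_five⟩
  have hfin : Finite (socle P) := by
    haveI : Finite (GL ι F) := inferInstance
    haveI : Finite P := inferInstance
    exact Quotient.finite _
  obtain ⟨R⟩ : Nonempty (Sylow 5 (socle P)) := inferInstance
  have hc := Cfsg.Agent.H545.LT.SylGL.comm_of_hom_quot (F := F) (ι := ι) (p := 5)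
    (fun hd => by have := Nat.le_of_dvd (by omega) hd; omega)
    (by rw [ord_five h2 h3]; omega) P.subtype P.subtype_injective ((Cfsg.Geo.scalars ι F).subgroupOf P) R
  obtain ⟨x, hx, y, hy, hxy⟩ := Cfsg.Agent.H135.RK.mcl5 h R
  exact hxy (congrArg Subtype.val (hc.is_comm.comm ⟨x, hx⟩ ⟨y, hy⟩))

end Cfsg.Agent.H331.EPV
end

-- part: H331/EPV/McLFin
section
/-!
# S3499-V, the sporadic row `soc(A) = McL`, final form (helper331)
-/

set_option autoImplicit false

namespace Cfsg.Agent.H331.EPV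

open Subgroup Cfsg Cfsg.Agent.H284 Cfsg.Agent.H419.EP Cfsg.Agent.H59.EP
open scoped MatrixGroups

/-- the bounds `UB1`, `UB2` in the form `Bd`, for every socle -/
theorem bd_of_big (hg : TwoGen.{0}) {Q : Type} [Group Q] [Finite Q] {A : Subgroup Q} {Γ : Subgroup (MulAut Q)} {ι : Type}
    [Fintype ι] [DecidableEq ι] {F : Type} [Field F] [Fintype F] {S P : Subgroup (GL ι F)} (b : Big A Γ S P)
    (hB : Nat.card A < 60 ^ 61) (l : List (ℕ × ℕ)) (h1 : ∀ x ∈ l, x.1.Prime ∧ 0 < x.2) (h2 : (l.map Prod.fst).Nodup)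
    (hc : Nat.card A = (l.map fun x => x.1 ^ x.2).prod) : Bd A l := by
  have hab : ∀ K : Subgroup Q, K ≤ A → (∀ a ∈ A, ∀ k ∈ K, a * k * a⁻¹ ∈ K) →
      (∀ a ∈ K, ∀ b ∈ K, a * b = b * a) → K = ⊥ := fun K hK hn hab =>
    b.hasSoc.no_abelian b.core.simple (fun h => b.core.nonabelian ⟨⟨h⟩⟩) hK hn hab
  have h3 := EPT.ncard_le_gen_dvd b.ept hg hab l h1 h2 hc.dvd (hc ▸ hB)
  have h4 := index_le_of h3 (Cfsg.Agent.H173.EP.ub1 b.simple b.ept (by norm_num) fun _ hx => EPT.six_le b.ept hab hx)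
    le_rfl
  rw [← hc] at h4
  refine h4.trans (Nat.add_le_add_left (Nat.mul_le_mul_right _ (Nat.add_le_add_left ?_ _)) 1)
  exact Nat.div_le_div_left (by norm_num) (by norm_num)

/-- **Row `McL`** -/
theorem mcl (hg : TwoGen.{0}) : BigOf (fun L _ => Spor.IsoMcL L) := by
  intro Q _ _ A Γ ι _ _ F _ _ S P b h
  obtain ⟨e⟩ := id h
  have hA : Nat.card A < 60 ^ 61 := by
    rcases mcl_cardA (b.hasSoc' e) with h1 | h1 <;> rw [h1] <;> norm_num
  exact mcl_of_bd b h (bd_of_big hg b hA)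

end Cfsg.Agent.H331.EPV
end

-- part: H805/EPT/HeUB
section
/-!
# S3499-V, socle `He`: upper bound and Lagrange (helper805)
-/

set_option autoImplicit false

namespace Cfsg.Agent.H805.EPT

open Subgroup Cfsg Cfsg.Agent.H284 Cfsg.Agent.H419.EP Cfsg.Agent.H59.EP
open scoped MatrixGroups

variable {Q : Type} [Group Q] [Finite Q] {A : Subgroup Q} {Γ : Subgroup (MulAut Q)} {ι : Type} [Fintype ι]
    [DecidableEq ι] {F : Type} [Field F] [Fintype F] {S P : Subgroup (GL ι F)}

instance finite_socle : Finite (socle P) := by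
  haveI : Finite (GL ι F) := inferInstance
  haveI : Finite P := inferInstance
  exact Quotient.finite _

/-- the order of `L` divides the order of `Q` -/
theorem dvd_card (b : Big A Γ S P) : Nat.card (socle P) ∣ Nat.card Q :=
  b.hasSoc.card_dvd.trans (Subgroup.card_subgroup_dvd_card A)

theorem he_dvd (b : Big A Γ S P) (h : Spor.IsoHe (socle P)) : 4030387200 ∣ Nat.card Q := by
  rw [← NotCT.Orders.he h]
  exact dvd_card b

end Cfsg.Agent.H805.EPT
end

-- part: H805/EPT/He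
section
/-!
# S3499-V, row `soc(A) = He` (helper805)

`|Q| < 2 ^ 152` leaves `Ω13(3)`, `Ω14±(2)`, `Ω14±(3)`, `Ω16±(2)`; none of the orders is divisible by `7 ^ 3`.
-/

set_option autoImplicit false

namespace Cfsg.Agent.H805.EPT

open Subgroup Cfsg Cfsg.Agent.H284 Cfsg.Agent.H419.EP Cfsg.Agent.H59.EP Cfsg.Agent.OrdDiv Cfsg.Agent.H436
open scoped MatrixGroups

variable {Q : Type} [Group Q] [Finite Q] {A : Subgroup Q} {Γ : Subgroup (MulAut Q)} {ι : Type} [Fintype ι]
    [DecidableEq ι] {F : Type} [Field F] [Fintype F] {S P : Subgroup (GL ι F)}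

/-- `|Q| < 2 ^ 152`: a short list -/
theorem list_of_lt (b : Big A Γ S P) (hQ : Nat.card Q < 2 ^ 152) :
    IsNamed (.oodd 6 3) Q ∨ IsNamed (.oplus 7 2) Q ∨ IsNamed (.ominus 7 2) Q ∨ IsNamed (.oplus 7 3) Q ∨
      IsNamed (.ominus 7 3) Q ∨ IsNamed (.oplus 8 2) Q ∨ IsNamed (.ominus 8 2) Q := by
  have hn := b.thirteen
  have hF : 2 ≤ Fintype.card F := b.two_le
  rcases b.kind with ⟨-, ho, -, -, -⟩ | ⟨f, hf, -, h3, ho, -, -⟩ | ⟨q, hq, σ, f, -, -, -, ho, -, -⟩ |
    ⟨Qf, hQf, hS, -, -⟩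
  · exfalso
    have h1 : 2 ^ 167 ≤ Fintype.card F ^ (Fintype.card ι ^ 2 - 2) :=
      (Nat.pow_le_pow_left hF _).trans (Nat.pow_le_pow_right (by omega) (by
        have : 13 ^ 2 ≤ Fintype.card ι ^ 2 := Nat.pow_le_pow_left hn 2
        omega))
    have h2 : (2 : ℕ) ^ 152 < 2 ^ 167 := by norm_num
    omega
  · exfalso
    have he := H914.even_card_of_symplectic hf
    have h14 : 14 ≤ Fintype.card ι := by
      rcases he with ⟨m, hm⟩
      omega
    have h1 : 3 ^ 105 ≤ Fintype.card F ^ (Fintype.card ι * (Fintype.card ι + 1) / 2) :=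
      (Nat.pow_le_pow_left h3 _).trans (Nat.pow_le_pow_right (by omega) (by
        have : 14 * 15 ≤ Fintype.card ι * (Fintype.card ι + 1) := Nat.mul_le_mul h14 (by omega)
        omega))
    have h2 : 4 * (2 : ℕ) ^ 152 < 3 ^ 105 := by norm_num
    omega
  · exfalso
    have hq2 : 2 ≤ q := by
      by_contra hc
      have : q ^ 2 ≤ 1 ^ 2 := Nat.pow_le_pow_left (by omega) 2
      omega
    have h1 : 2 ^ 166 ≤ q ^ (Fintype.card ι ^ 2 - 3) :=
      (Nat.pow_le_pow_left hq2 _).trans (Nat.pow_le_pow_right (by omega) (by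
        have : 13 ^ 2 ≤ Fintype.card ι ^ 2 := Nat.pow_le_pow_left hn 2
        omega))
    have h2 : (2 : ℕ) ^ 152 < 2 ^ 166 := by norm_num
    omega
  · have hm := b.m
    rw [hS] at hm
    rcases H568.EP.om_named hQf (by omega) hm with ⟨k, hk, h⟩ | ⟨k, hk, h⟩
    · -- odd dimension
      have hb := H568.EP.oodd_ge h
      obtain ⟨-, hodd, -⟩ := h.cond
      have hq3 : 3 ≤ Fintype.card F := by
        rcases hodd with ⟨m, hm⟩
        omega
      have h6 : k < 7 := by
        by_contra hc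
        have h1 : 3 ^ 105 ≤ Fintype.card F ^ (k * (2 * k + 1)) :=
          (Nat.pow_le_pow_left hq3 _).trans (Nat.pow_le_pow_right (by omega) (by
            have : 7 * 15 ≤ k * (2 * k + 1) := Nat.mul_le_mul (by omega) (by omega)
            omega))
        have h2 : 3 * (2 : ℕ) ^ 152 < 3 ^ 105 := by norm_num
        omega
      obtain rfl : k = 6 := by omega
      have h5 : Fintype.card F < 5 := by
        by_contra hc
        have h1 : 5 ^ 78 ≤ Fintype.card F ^ (6 * (2 * 6 + 1)) := Nat.pow_le_pow_left (by omega) _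
        have h2 : 3 * (2 : ℕ) ^ 152 < 5 ^ 78 := by norm_num
        omega
      have h4 : Fintype.card F = 3 := by
        rcases hodd with ⟨m, hm⟩
        omega
      rw [h4] at h
      exact Or.inl h
    · -- even dimension
      have hb : Fintype.card F ^ (k * (2 * k - 1)) ≤ 8 * Nat.card Q := by
        rcases h with h | h
        · exact H568.EP.oplus_ge h
        · exact H568.EP.ominus_ge h
      have hb2 : 2 ∣ Fintype.card F → Fintype.card F ^ (k * (2 * k - 1)) ≤ 2 * Nat.card Q := by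
        intro h2
        rcases h with h | h
        · exact H568.EP.oplus_ge_even h h2
        · exact H568.EP.ominus_ge_even h h2
      have h10 : k < 10 := by
        by_contra hc
        have h1 : 2 ^ 190 ≤ Fintype.card F ^ (k * (2 * k - 1)) :=
          (Nat.pow_le_pow_left hF _).trans (Nat.pow_le_pow_right (by omega) (by
            have : 10 * 19 ≤ k * (2 * k - 1) := Nat.mul_le_mul (by omega) (by omega)
            omega))
        have h2 : 8 * (2 : ℕ) ^ 152 < 2 ^ 190 := by norm_num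
        omega
      have h7 : 7 ≤ k := by omega
      interval_cases k
      · have h5 : Fintype.card F < 4 := by
          by_contra hc
          have h1 : 4 ^ 91 ≤ Fintype.card F ^ (7 * (2 * 7 - 1)) := Nat.pow_le_pow_left (by omega) _
          have h2 : 8 * (2 : ℕ) ^ 152 < 4 ^ 91 := by norm_num
          omega
        rcases (by omega : Fintype.card F = 2 ∨ Fintype.card F = 3) with h4 | h4 <;> rw [h4] at h <;> (clear * - h; itauto)
      · have h5 : Fintype.card F < 3 := by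
          by_contra hc
          have h1 : 3 ^ 120 ≤ Fintype.card F ^ (8 * (2 * 8 - 1)) := Nat.pow_le_pow_left (by omega) _
          have h2 : 8 * (2 : ℕ) ^ 152 < 3 ^ 120 := by norm_num
          omega
        have h4 : Fintype.card F = 2 := by omega
        rw [h4] at h
        (clear * - h; itauto)
      · exfalso
        have h5 : Fintype.card F < 3 := by
          by_contra hc
          have h1 : 3 ^ 153 ≤ Fintype.card F ^ (9 * (2 * 9 - 1)) := Nat.pow_le_pow_left (by omega) _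
          have h2 : 8 * (2 : ℕ) ^ 152 < 3 ^ 153 := by norm_num
          omega
        have h4 : Fintype.card F = 2 := by omega
        have h6 := hb2 (by rw [h4])
        rw [h4] at h6
        have h2 : 2 * (2 : ℕ) ^ 152 ≤ 2 ^ (9 * (2 * 9 - 1)) := by norm_num
        omega

/-- **Row `soc(A) = He`**, with the proved bound of helper59 -/
theorem he (hg : TwoGen.{0}) : BigOf (fun L _ => Spor.IsoHe L) := by
  intro Q _ _ A Γ ι _ _ F _ _ S P b h
  have hc := NotCT.Orders.he h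
  have hsp : IsSporadicGroup (socle P) := by
    unfold IsSporadicGroup
    itauto
  have hA : Nat.card A ∣ 8060774400 := by
    rcases cardA b.hasSoc b.core.simple (by rw [hc]; norm_num) (H498.SporOut.index_le_two hsp) with h1 | h1
    · rw [h1, hc]; norm_num
    · rw [h1, hc]
  have hQ := H812.EP.card_le hg b [(2, 11), (3, 3), (5, 2), (7, 3), (17, 1)] (by decide +kernel) (by decide +kernel)
    (N := 8060774400) (by decide +kernel) hA (by norm_num)
  have hQ2 : Nat.card Q < 2 ^ 152 := lt_of_le_of_lt hQ (by decide +kernel)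
  have hd : 343 ∣ Nat.card Q := (by norm_num : 343 ∣ 4030387200).trans (he_dvd b h)
  rcases list_of_lt b hQ2 with h | h | h | h | h | h | h <;>
  · rw [h.ord] at hd
    revert hd
    decide +kernel

end Cfsg.Agent.H805.EPT
end

-- part: H502/EP/HNRow
section
/-!
# S3499, layer V, the row `soc(A) = HN` (helper502)

`|Q| ≤ bnd` by UB1 and UB2; `dim ≥ 20` in characteristic `≠ 5`, `≥ 16` in characteristic 5; `|F| = 2` and dimension 20
is impossible.
-/

set_option autoImplicit false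

namespace Cfsg.Agent.H502.EP.HN

open Cfsg Cfsg.Agent.H284 Cfsg.Agent.H419.EP Cfsg.Agent.H59.EP Cfsg.Agent.H203.LS
open Cfsg.Agent.HN.Pres Cfsg.Agent.HN.P1408 Cfsg.Agent.HN.H0Basic
open scoped MatrixGroups Matrix

section

variable {Q : Type} [Group Q] [Finite Q] {A : Subgroup Q} {Γ : Subgroup (MulAut Q)} {ι : Type} [Fintype ι]
    [DecidableEq ι] {F : Type} [Field F] [Fintype F] {S P : Subgroup (GL ι F)}

/-- lower bounds for projective degrees apply to the core -/
theorem le_of_ls (b : Big A Γ S P) {L : Type} [Group L] (e : socle P ≃* L) {r d : ℕ} (h : LS.{0, 0, 0} r d L)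
    (hr : (r : F) ≠ 0) : d ≤ Fintype.card ι := by
  classical
  have hfin : Finite P := inferInstance
  let π : P →* L := e.toMonoidHom.comp (QuotientGroup.mk' ((Cfsg.Geo.scalars ι F).subgroupOf P))
  have hker : π.ker = (Cfsg.Geo.scalars ι F).subgroupOf P := by
    ext x
    rw [MonoidHom.mem_ker]
    show e (QuotientGroup.mk' _ x) = 1 ↔ _
    rw [map_eq_one_iff e e.injective]
    exact QuotientGroup.eq_one_iff x
  let ρ : P →* GL (Fin (Fintype.card ι)) F :=
    (Units.mapEquiv (Matrix.reindexAlgEquiv F F (Fintype.equivFin ι) :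
      Matrix ι ι F ≃ₐ[F] _).toMulEquiv).toMonoidHom.comp P.subtype
  refine h P π (e.surjective.comp (QuotientGroup.mk'_surjective _)) ?_ ?_ F hr (Fintype.card ι) ρ ?_
  · rw [hker]
    intro x hx
    rw [Subgroup.mem_center_iff]
    intro y
    apply Subtype.ext
    obtain ⟨c, hc⟩ := (Cfsg.Geo.mem_scalars_iff _).1 (Subgroup.mem_subgroupOf.1 hx)
    apply Units.ext
    show ((y : GL ι F) : Matrix ι ι F) * ((x : GL ι F) : Matrix ι ι F) =
      ((x : GL ι F) : Matrix ι ι F) * ((y : GL ι F) : Matrix ι ι F)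
    rw [hc, Matrix.mul_smul, Matrix.smul_mul, mul_one, one_mul]
  · have h1 := b.core.perfect
    apply Subgroup.map_injective P.subtype_injective
    rw [commutator_def, Subgroup.map_commutator, ← MonoidHom.range_eq_map, Subgroup.range_subtype]
    exact h1
  · intro h1
    apply b.core.nonabelian
    have h2 : ∀ x : P, x = 1 := by
      intro x
      have h3 := DFunLike.congr_fun h1 x
      apply P.subtype_injective
      apply (Units.mapEquiv (Matrix.reindexAlgEquiv F F (Fintype.equivFin ι) :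
        Matrix ι ι F ≃ₐ[F] _).toMulEquiv).injective
      rw [map_one, map_one]
      exact h3
    constructor
    constructor
    intro x y
    obtain ⟨x, rfl⟩ := QuotientGroup.mk_surjective x
    obtain ⟨y, rfl⟩ := QuotientGroup.mk_surjective y
    rw [h2 x, h2 y]

/-- the bound -/
def bnd (l : List (ℕ × ℕ)) (N : ℕ) : ℕ :=
  N * (1 + ((l.map fun x => gal x.1 x.2).sum * (N / 6) + N ^ 2 / 60 + N ^ 3 / 12744000) * (2 * (N / 6)))

/-- **UB1 + UB2** for the order of `Q` -/
theorem card_le (hg : TwoGen.{0}) (b : Big A Γ S P) (l : List (ℕ × ℕ)) (h1 : ∀ x ∈ l, x.1.Prime ∧ 0 < x.2)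
    (h2 : (l.map Prod.fst).Nodup) {N : ℕ} (hN : (l.map fun x => x.1 ^ x.2).prod = N) (hc : Nat.card A ∣ N)
    (hB : N < 60 ^ 61) : Nat.card Q ≤ bnd l N := by
  have hN0 : 0 < N := by
    rw [← hN]
    apply Nat.pos_of_ne_zero
    apply List.prod_ne_zero
    intro h0
    obtain ⟨x, hx, e⟩ := List.mem_map.1 h0
    exact (pow_ne_zero _ (h1 x hx).1.ne_zero) e
  have hab : ∀ K : Subgroup Q, K ≤ A → (∀ a ∈ A, ∀ k ∈ K, a * k * a⁻¹ ∈ K) →
      (∀ a ∈ K, ∀ b ∈ K, a * b = b * a) → K = ⊥ := fun K hK hn hab =>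
    b.hasSoc.no_abelian b.core.simple (fun h => b.core.nonabelian ⟨⟨h⟩⟩) hK hn hab
  have h3 := EPT.ncard_le_gen_dvd b.ept hg hab l h1 h2 (hN ▸ hc) (hN ▸ hB)
  have h4 := index_le_of h3 (Cfsg.Agent.H173.EP.ub1 b.simple b.ept (by norm_num) fun _ hx => EPT.six_le b.ept hab hx)
    le_rfl
  rw [hN] at h4
  have h5 : Nat.card A ≤ N := Nat.le_of_dvd hN0 hc
  rw [← Subgroup.card_mul_index A, bnd]
  refine Nat.mul_le_mul h5 (h4.trans (Nat.add_le_add_left (Nat.mul_le_mul_left _ (Nat.mul_le_mul_left _ ?_)) 1))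
  exact Nat.div_le_div_right h5

/-- the factorisation of `2 |HN|` -/
def lHN : List (ℕ × ℕ) := [(2, 15), (3, 6), (5, 6), (7, 1), (11, 1), (19, 1)]

theorem card_aut : Nat.card (MulAut Spor.HN) ∣ 546061824000000 := by
  have hfin := KFacts.HN.finite_HN
  have h1 : (Inn Spor.HN).index = 2 := S2082.result
  have h2 : Nat.card (MulAut.conj : Spor.HN →* MulAut Spor.HN).range ∣ Nat.card Spor.HN :=
    Subgroup.card_range_dvd _
  rw [S2056.card_HN] at h2
  have h3 := Subgroup.card_mul_index (MulAut.conj : Spor.HN →* MulAut Spor.HN).range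
  rw [← h3, show (MulAut.conj : Spor.HN →* MulAut Spor.HN).range.index = 2 from h1]
  have h4 : 546061824000000 = 273030912000000 * 2 := by norm_num
  rw [h4]
  exact Nat.mul_dvd_mul_right h2 2

theorem num_A : 8 * bnd lHN 546061824000000 < 2 ^ (22 * (22 - 1) / 2) := by decide +kernel
theorem num_B : 8 * bnd lHN 546061824000000 < 3 ^ (20 * (20 - 1) / 2) := by decide +kernel
theorem num_C : 8 * bnd lHN 546061824000000 < 5 ^ (16 * (16 - 1) / 2) := by decide +kernel
theorem num_D : bnd lHN 546061824000000 < 2 ^ (20 ^ 2 - 2) := by decide +kernel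

/-- over the field with two elements the dimension is not 20 -/
theorem no_twenty (b : Big A Γ S P) (e : socle P ≃* Spor.HN) (hF : Fintype.card F = 2) (hn : Fintype.card ι = 20) :
    False := by
  classical
  have hsc : ∀ g : GL ι F, g ∈ Cfsg.Geo.scalars ι F → g = 1 := by
    intro g hg
    obtain ⟨c, hc⟩ := (Cfsg.Geo.mem_scalars_iff _).1 hg
    have h1 : c = 1 := by
      have h2 : Fintype.card Fˣ = 1 := by rw [Fintype.card_units, hF]
      exact (Fintype.card_le_one_iff.1 h2.le) c 1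
    apply Units.ext
    rw [hc, h1, Units.val_one, one_smul]
    rfl
  let π : P →* Spor.HN := e.toMonoidHom.comp (QuotientGroup.mk' ((Cfsg.Geo.scalars ι F).subgroupOf P))
  have hπi : Function.Injective π := by
    rw [injective_iff_map_eq_one]
    intro x hx
    have h1 : QuotientGroup.mk' ((Cfsg.Geo.scalars ι F).subgroupOf P) x = 1 := by
      apply e.injective
      rw [map_one]
      exact hx
    have h2 : x ∈ (Cfsg.Geo.scalars ι F).subgroupOf P := (QuotientGroup.eq_one_iff x).1 h1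
    exact Subtype.ext (hsc _ (Subgroup.mem_subgroupOf.1 h2))
  have hπs : Function.Surjective π := e.surjective.comp (QuotientGroup.mk'_surjective _)
  let E : P ≃* Spor.HN := MulEquiv.ofBijective π ⟨hπi, hπs⟩
  let K := AlgebraicClosure F
  let f : H0 →* GL ι F := P.subtype.comp (E.symm.toMonoidHom.comp Cfsg.Agent.HN.NormalH.ψ)
  have hf : Function.Injective f :=
    P.subtype_injective.comp (E.symm.injective.comp ψ_inj)
  let M : Matrix ι ι F →* Matrix ι ι K := ((algebraMap F K).mapMatrix : Matrix ι ι F →+* Matrix ι ι K).toMonoidHom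
  have hM : Function.Injective M := Matrix.map_injective (algebraMap F K).injective
  let L : Matrix ι ι K →* ((ι → K) →ₗ[K] (ι → K)) := (Matrix.toLinAlgEquiv' : Matrix ι ι K ≃ₐ[K] _).toMulEquiv.toMonoidHom
  have hL : Function.Injective L := (Matrix.toLinAlgEquiv' : Matrix ι ι K ≃ₐ[K] _).injective
  let ρ : H0 →* ((ι → K) →ₗ[K] (ι → K)) := L.comp (M.comp ((Units.coeHom _).comp f))
  have hρ : Function.Injective ρ := hL.comp (hM.comp (Units.val_injective.comp hf))
  have h2F : (2 : F) = 0 := by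
    have h1 : ((Fintype.card F : ℕ) : F) = 0 := FiniteField.cast_card_eq_zero F
    rw [hF] at h1
    exact_mod_cast h1
  have h2K : (2 : K) = 0 := by
    have h1 := congrArg (algebraMap F K) h2F
    rwa [map_ofNat, map_zero] at h1
  refine not_twenty (K := K) (V := ι → K) ρ h2K ?_ ?_ ?_
  · rw [Module.finrank_fintype_fun_eq_card, hn]
  · intro h
    exact τ_ne_one (hρ (h.trans (map_one ρ).symm))
  · intro h
    exact c_ne (hρ (h.trans (map_one ρ).symm))

end

/-- **The row `HN`** -/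
theorem hn (hg : TwoGen.{0}) : BigOf (fun L _ => Spor.IsoHN L) := by
  rintro Q _ _ A Γ ι _ _ F _ _ S P b ⟨e⟩
  obtain ⟨f, hf⟩ := (b.hasSoc' e).exists_hom
  have hA : Nat.card A ∣ 546061824000000 := (Subgroup.card_dvd_of_injective f hf).trans card_aut
  have hQ : Nat.card Q ≤ bnd lHN 546061824000000 := card_le hg b lHN
    (by
      intro x hx
      simp only [lHN, List.mem_cons, List.not_mem_nil, or_false] at hx
      rcases hx with rfl | rfl | rfl | rfl | rfl | rfl <;> norm_num) (by decide)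
    (N := 546061824000000) (by norm_num [lHN]) hA (by norm_num)
  have hord := b.ord
  have h8 : 8 * Nat.card Q ≤ 8 * bnd lHN 546061824000000 := Nat.mul_le_mul_left 8 hQ
  have hF := b.two_le
  by_cases h5 : ((5 : ℕ) : F) = 0
  · -- characteristic 5
    have hcp : CharP F 5 := by
      obtain ⟨p, hp⟩ := CharP.exists F
      have h3 : p ∣ 5 := (CharP.cast_eq_zero_iff F p 5).1 h5
      rcases (Nat.dvd_prime (by norm_num : Nat.Prime 5)).1 h3 with rfl | rfl
      · exact absurd ((CharP.cast_eq_zero_iff F 1 1).2 dvd_rfl) (by rw [Nat.cast_one]; exact one_ne_zero)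
      · exact hp
    have h2F : ((2 : ℕ) : F) ≠ 0 := by
      intro h3
      have := (CharP.cast_eq_zero_iff F 5 2).1 h3
      omega
    have hn := le_of_ls b e ls_two h2F
    have h5F : 5 ≤ Fintype.card F := by
      have := Fact.mk (by norm_num : Nat.Prime 5)
      obtain ⟨k, -, hk⟩ := FiniteField.card F 5
      rw [hk]
      exact Nat.le_self_pow k.2.ne' 5
    have h3 : 5 ^ (16 * (16 - 1) / 2) ≤ 8 * Nat.card Q := by
      refine le_trans ?_ hord
      refine le_trans (Nat.pow_le_pow_left h5F _) (Nat.pow_le_pow_right (by omega) ?_)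
      apply Nat.div_le_div_right
      exact Nat.mul_le_mul hn (by omega)
    exact absurd (h3.trans h8) (not_le.2 num_C)
  · have hn := le_of_ls b e ls_five h5
    rcases Nat.lt_or_ge (Fintype.card F) 3 with h3 | h3
    · have hF2 : Fintype.card F = 2 := by omega
      rcases b.kind with ⟨-, ho, -, -, -⟩ | ⟨f, -, -, h3', -, -, -⟩ | ⟨q, hq, σ, f, -, -, -, -, -, -⟩ |
        ⟨Qf, hQf, -, -, -⟩
      · rw [hF2] at ho
        have h4 : 2 ^ (20 ^ 2 - 2) ≤ Nat.card Q := by
          refine le_trans (Nat.pow_le_pow_right (by omega) ?_) ho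
          exact Nat.sub_le_sub_right (Nat.pow_le_pow_left hn 2) 2
        exact absurd (h4.trans hQ) (not_le.2 num_D)
      · omega
      · rw [hF2] at hq
        have : q < 2 := by
          by_contra hc
          have := Nat.pow_le_pow_left (not_lt.1 hc) 2
          omega
        interval_cases q <;> omega
      · -- the dimension is even
        have h2F : (2 : F) = 0 := by
          have h1 : ((Fintype.card F : ℕ) : F) = 0 := FiniteField.cast_card_eq_zero F
          rw [hF2] at h1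
          exact_mod_cast h1
        have hneg : ∀ x : F, -x = x := by
          intro x
          have h4 : x + x = 0 := by rw [← two_mul, h2F, zero_mul]
          exact neg_eq_of_add_eq_zero_left h4
        have hsp : Cfsg.Geo.IsSymplecticForm (QuadraticMap.polar Qf) :=
          { bilinear := hQf.polar_bilinear
            skew := fun v w => by rw [hneg, QuadraticMap.polar_comm]
            alternating := fun v => by
              have h4 : v + v = (2 : F) • v := (two_smul F v).symm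
              rw [QuadraticMap.polar, h4, hQf.smul, h2F]
              have h6 : (0 : F) ^ 2 * Qf v - Qf v - Qf v = - ((2 : F) * Qf v) := by ring
              rw [h6, h2F, zero_mul, neg_zero]
            nondegenerate := hQf.nondegenerate }
        have heven := Cfsg.Agent.H914.even_card_of_symplectic hsp
        rcases Nat.lt_or_ge (Fintype.card ι) 22 with h4 | h4
        · have h20 : Fintype.card ι = 20 := by
            rcases heven with ⟨m, hm⟩
            omega
          exact no_twenty b e hF2 h20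
        · exact absurd ((b.ord_two h4).trans h8) (not_le.2 num_A)
    · have h4 : 3 ^ (20 * (20 - 1) / 2) ≤ 8 * Nat.card Q := by
        refine le_trans ?_ hord
        refine le_trans (Nat.pow_le_pow_left h3 _) (Nat.pow_le_pow_right (by omega) ?_)
        apply Nat.div_le_div_right
        exact Nat.mul_le_mul hn (by omega)
      exact absurd (h4.trans h8) (not_le.2 num_B)

end Cfsg.Agent.H502.EP.HN
end

-- part: H388/EP/JFour
section
/-!
# S3499, layer V, the socle `J₄` (helper388)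
-/

set_option autoImplicit false

namespace Cfsg.Agent.H388.EP

open Cfsg Cfsg.Agent.H203.LS Cfsg.Agent.H419.EP Cfsg.Agent.H284 Cfsg.Agent.H991.EP

section

variable {Q : Type} [Group Q] [Finite Q] {A : Subgroup Q} {Γ : Subgroup (MulAut Q)} {ι : Type} [Fintype ι]
    [DecidableEq ι] {F : Type} [Field F] [Fintype F] {S P : Subgroup (GL ι F)}

/-- lower bounds for projective degrees apply to the core -/
theorem le_of_ls (b : Big A Γ S P) {L : Type} [Group L] (e : socle P ≃* L) {r d : ℕ} (h : LS.{0, 0, 0} r d L)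
    (hr : (r : F) ≠ 0) : d ≤ Fintype.card ι := by
  classical
  have hfin : Finite P := inferInstance
  let π : P →* L := e.toMonoidHom.comp (QuotientGroup.mk' ((Cfsg.Geo.scalars ι F).subgroupOf P))
  have hker : π.ker = (Cfsg.Geo.scalars ι F).subgroupOf P := by
    ext x
    rw [MonoidHom.mem_ker]
    show e (QuotientGroup.mk' _ x) = 1 ↔ _
    rw [map_eq_one_iff e e.injective]
    exact QuotientGroup.eq_one_iff x
  let ρ : P →* GL (Fin (Fintype.card ι)) F :=
    (Units.mapEquiv (Matrix.reindexAlgEquiv F F (Fintype.equivFin ι) :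
      Matrix ι ι F ≃ₐ[F] _).toMulEquiv).toMonoidHom.comp P.subtype
  refine h P π (e.surjective.comp (QuotientGroup.mk'_surjective _)) ?_ ?_ F hr (Fintype.card ι) ρ ?_
  · rw [hker]
    intro x hx
    rw [Subgroup.mem_center_iff]
    intro y
    apply Subtype.ext
    obtain ⟨c, hc⟩ := (Cfsg.Geo.mem_scalars_iff _).1 (Subgroup.mem_subgroupOf.1 hx)
    apply Units.ext
    show ((y : GL ι F) : Matrix ι ι F) * ((x : GL ι F) : Matrix ι ι F) =
      ((x : GL ι F) : Matrix ι ι F) * ((y : GL ι F) : Matrix ι ι F)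
    rw [hc, Matrix.mul_smul, Matrix.smul_mul, mul_one, one_mul]
  · have h1 := b.core.perfect
    apply Subgroup.map_injective P.subtype_injective
    rw [commutator_def, Subgroup.map_commutator, ← MonoidHom.range_eq_map, Subgroup.range_subtype]
    exact h1
  · intro h1
    apply b.core.nonabelian
    have h2 : ∀ x : P, x = 1 := by
      intro x
      have h3 := DFunLike.congr_fun h1 x
      apply P.subtype_injective
      apply (Units.mapEquiv (Matrix.reindexAlgEquiv F F (Fintype.equivFin ι) :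
        Matrix ι ι F ≃ₐ[F] _).toMulEquiv).injective
      rw [map_one, map_one]
      exact h3
    constructor
    constructor
    intro x y
    obtain ⟨x, rfl⟩ := QuotientGroup.mk_surjective x
    obtain ⟨y, rfl⟩ := QuotientGroup.mk_surjective y
    rw [h2 x, h2 y]

end

theorem card_aut_J4 : Nat.card (MulAut Spor.J4) ∣ Nat.card Spor.J4 := by
  have h1 : (Inn Spor.J4).index = 1 := S2068.result
  have h2 : Function.Surjective (MulAut.conj : Spor.J4 →* MulAut Spor.J4) := by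
    rw [← MonoidHom.range_eq_top]
    exact Subgroup.index_eq_one.1 h1
  exact Subgroup.card_dvd_of_surjective _ h2

theorem om_J4 : Om 86775571046077562880 ≤ 34 := by
  have h : (86775571046077562880 : ℕ) = 2 ^ 21 * 3 ^ 3 * 5 * 7 * 11 ^ 3 * 23 * 29 * 31 * 37 * 43 := by norm_num
  have hp : ∀ p k : ℕ, p.Prime → Om (p ^ k) = k := by
    intro p k hp
    show (p ^ k).primeFactorsList.length = k
    rw [hp.primeFactorsList_pow, List.length_replicate]
  have h1 : ∀ p : ℕ, p.Prime → Om p = 1 := by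
    intro p hp
    show p.primeFactorsList.length = 1
    rw [Nat.primeFactorsList_prime hp]
    rfl
  rw [h]
  rw [Om_mul, Om_mul, Om_mul, Om_mul, Om_mul, Om_mul, Om_mul, Om_mul, Om_mul, hp 2, hp 3, h1 5, h1 7, hp 11, h1 23,
    h1 29, h1 31, h1 37, h1 43]
  all_goals norm_num

theorem num_one : 8 * (86775571046077562880 * sb 86775571046077562880 34 ^ 2) < 2 ^ (110 * (110 - 1) / 2) := by
  decide +kernel

theorem num_two : 8 * (86775571046077562880 * sb 86775571046077562880 34 ^ 2) < 11 ^ (64 * (64 - 1) / 2) := by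
  decide +kernel

/-- **The socle `J₄` in the residual class, dimension at least 13.** -/
theorem row_J4 {Q : Type} [Group Q] [Finite Q] {A : Subgroup Q} {Γ : Subgroup (MulAut Q)} {ι : Type} [Fintype ι]
    [DecidableEq ι] {F : Type} [Field F] [Fintype F] {S P : Subgroup (GL ι F)} (b : Big A Γ S P)
    (h : Spor.IsoJ4 (socle P)) : False := by
  obtain ⟨e⟩ := h
  have hcard : Nat.card Spor.J4 = 86775571046077562880 := S1703.result.2
  obtain ⟨f, hf⟩ := (b.hasSoc' e).exists_hom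
  have hA : Nat.card A ∣ 86775571046077562880 := by
    rw [← hcard]
    exact (Subgroup.card_dvd_of_injective f hf).trans card_aut_J4
  have h1 := index_le_sb b.ept (by norm_num) hA om_J4
  have h2 : Nat.card Q ≤ 86775571046077562880 * sb 86775571046077562880 34 ^ 2 := by
    rw [← A.card_mul_index]
    exact Nat.mul_le_mul (Nat.le_of_dvd (by norm_num) hA) h1
  by_cases h11 : ((11 : ℕ) : F) = 0
  · -- characteristic 11
    have hcp : CharP F 11 := by
      obtain ⟨p, hp⟩ := CharP.exists F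
      have h3 : p ∣ 11 := (CharP.cast_eq_zero_iff F p 11).1 h11
      rcases (Nat.dvd_prime (by norm_num : Nat.Prime 11)).1 h3 with rfl | rfl
      · exact absurd ((CharP.cast_eq_zero_iff F 1 1).2 dvd_rfl) (by rw [Nat.cast_one]; exact one_ne_zero)
      · exact hp
    have h2F : ((2 : ℕ) : F) ≠ 0 := by
      intro h3
      have := (CharP.cast_eq_zero_iff F 11 2).1 h3
      omega
    have hn := le_of_ls b e ls_two h2F
    have h11F : 11 ≤ Fintype.card F := by
      have := Fact.mk (by norm_num : Nat.Prime 11)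
      obtain ⟨k, -, hk⟩ := FiniteField.card F 11
      rw [hk]
      exact Nat.le_self_pow k.2.ne' 11
    have h3 : 11 ^ (64 * (64 - 1) / 2) ≤ 8 * Nat.card Q := by
      refine le_trans ?_ b.ord
      have h5 : 0 < Fintype.card F := Fintype.card_pos
      refine le_trans (Nat.pow_le_pow_left h11F _) (Nat.pow_le_pow_right h5 ?_)
      apply Nat.div_le_div_right
      exact Nat.mul_le_mul hn (by omega)
    have h4 := num_two
    exact absurd (h3.trans (Nat.mul_le_mul_left 8 h2)) (not_le.2 h4)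
  · have hn := le_of_ls b e ls_eleven h11
    have h3 := b.ord_two hn
    have h4 := num_one
    exact absurd (h3.trans (Nat.mul_le_mul_left 8 h2)) (not_le.2 h4)

end Cfsg.Agent.H388.EP
end

-- part: H688/EP/SporAsm
section
/-!
# S3499-ASM-SPOR: the sporadic socles (helper688)

`bigOf_sporadic_of` : the row of the sporadic socles in dimension at least 13 from the missing rows.
-/

set_option autoImplicit false

namespace Cfsg.Agent.H688.EP

open Cfsg Cfsg.Agent.H419.EP Cfsg.Agent.H59.EP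
open scoped MatrixGroups

/-- **Row `J₂`** with the proved bound -/
theorem j2 (hg : TwoGen.{0}) : BigOf (fun L _ => Spor.IsoJ2 L) := by
  intro Q _ _ A Γ ι _ _ F _ _ S P b h
  obtain ⟨e⟩ := h
  obtain ⟨i, hi1, hi2, hi⟩ := H16.EP.card_A b e S1619.result.2.2.2 (by norm_num) S2066.result
  have hA : Nat.card A ∣ 1209600 := by
    rcases (show i = 1 ∨ i = 2 by omega) with h0 | h0
    · rw [hi, h0]; norm_num
    · rw [hi, h0]
  have hQ := H812.EP.card_le hg b [(2, 8), (3, 3), (5, 2), (7, 1)] (by decide +kernel) (by decide +kernel)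
    (N := 1209600) (by decide +kernel) hA (by norm_num)
  exact absurd ((H16.EP.ord_ge b).trans hQ) (not_le.2 (by decide +kernel))

/-- the rows which are not landed yet -/
structure Missing : Prop where
  m24 : BigOf (fun L _ => Spor.IsoM24 L)
  co1 : BigOf (fun L _ => Spor.IsoCo1 L)
  co2 : BigOf (fun L _ => Spor.IsoCo2 L)
  co3 : BigOf (fun L _ => Spor.IsoCo3 L)
  suz : BigOf (fun L _ => Spor.IsoSuz L)
  ru : BigOf (fun L _ => Spor.IsoRu L)
  fi24 : BigOf (fun L _ => Spor.IsoFi24' L)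
  b : BigOf (fun L _ => Spor.IsoB L)

/-- **The sporadic socles.** -/
theorem bigOf_sporadic_of (hg : TwoGen.{0}) (w : Missing) : BigOf (fun L _ => IsSporadicGroup L) := by
  intro Q _ _ A Γ ι _ _ F _ _ S P b h
  rcases h with h | h | h | h | h | h | h | h | h | h | h | h | h | h | h | h | h | h | h | h | h | h | h | h | h | h
  · exact H16.EP.m11 hg b h
  · exact H16.EP.m12 hg b h
  · exact H16.EP.m22 hg b h
  · exact H831.EPV.m23 hg b h
  · exact w.m24 b h
  · exact H16.EP.j1 hg b h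
  · exact j2 hg b h
  · exact H568.EP.j3 hg b h
  · exact H388.EP.row_J4 b h
  · exact w.co1 b h
  · exact w.co2 b h
  · exact w.co3 b h
  · exact H331.EPV.mcl hg b h
  · exact H581.EP.hs hg b h
  · exact w.suz b h
  · exact H805.EPT.he hg b h
  · exact w.ru b h
  · exact H489.EP.ON.on hg b h
  · exact H812.EP.ly hg b h
  · exact H433.EP.row22 hg b h
  · exact H433.EP.row23 hg b h
  · exact w.fi24 b h
  · exact H502.EP.HN.hn hg b h
  · exact H840.EP.Th.row hg b h
  · exact w.b b h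
  · exact H444.EP.Mon.row_M hg b h

end Cfsg.Agent.H688.EP
end

private theorem dce_aa4803d06f63 : _root_.True := by
  try have : _root_.True := by simp only [_root_.Cfsg.Agent.H502.EP.HN.bnd.eq_1]
  try have : _root_.True := by simp only [_root_.Cfsg.Agent.H502.EP.HN.lHN.eq_1]
  exact _root_.True.intro
end

-- part: H646/EPR/PspRes_mg
section
prune_inst 0x40000000600000000000002200000143000000000000000080000000000002009022001002001020000000000000040000000000000000000000000000100000000000001000000000006000000000000000000000000000000000000000000000000000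
set_option linter.all false
open scoped Cfsg.Agent.FastGrp

-- part: H142/EPIV/Sp4
section
/-!
# S3499, layer IV, the row `PSp₄(q)`, `q` odd, residual class (helper142)

`row_of`: from S5788, the model and hypotheses for the socles `A₆`, `A₇`, `L₂(q)`; `a6_of_index`, `a7_of_index` reduce the
first two to index bounds.
-/

set_option autoImplicit false

namespace Cfsg.Agent.H142.EPIV

open Cfsg Subgroup Cfsg.Agent.H284 Cfsg.Agent.H419.EP
open scoped MatrixGroups

/-- the order of `Q` from the model -/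
theorem card_eq_psp {Q : Type*} [Group Q] {F : Type*} [Field F] {k : ℕ} (m : Model Q (Cfsg.spGL k F)) :
    Nat.card Q = Nat.card (Cfsg.PSp k F) := by
  have m' := Cfsg.Agent.H729.EPM.modelPSp k F
  have hk : m.π.ker = m'.π.ker := by
    ext s
    rw [MonoidHom.mem_ker, MonoidHom.mem_ker, m.ker, m'.ker]
  exact Nat.card_congr ((QuotientGroup.quotientKerEquivOfSurjective m.π m.surj).symm.trans
    ((QuotientGroup.quotientMulEquivOfEq hk).trans (QuotientGroup.quotientKerEquivOfSurjective m'.π m'.surj))).toEquiv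

/-- `2 |PSp₄(q)| = q⁴ (q² - 1) (q⁴ - 1)` for odd `q` -/
theorem card_psp4 {F : Type*} [Field F] [Fintype F] (ho : Odd (Fintype.card F)) :
    2 * Nat.card (Cfsg.PSp 2 F) =
      Fintype.card F ^ 4 * ((Fintype.card F ^ 2 - 1) * (Fintype.card F ^ 4 - 1)) := by
  have h1 := S0245.result (F := F) rfl 2
  have h2 := S0246.result (F := F) rfl 2 (by norm_num)
  have h3 := Subgroup.card_eq_card_quotient_mul_card_subgroup
    (Subgroup.center (Matrix.symplecticGroup (Fin 2) F))
  have h4 : Nat.gcd 2 (Fintype.card F - 1) = 2 := by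
    apply Nat.gcd_eq_left
    obtain ⟨k, hk⟩ := ho
    omega
  rw [h1, h2, h4, Finset.prod_range_succ, Finset.prod_range_one] at h3
  rw [mul_comm]
  exact h3.symm

theorem card_psp4_seven {F : Type*} [Field F] [Fintype F] (hF : Fintype.card F = 7) :
    Nat.card (Cfsg.PSp 2 F) = 138297600 := by
  have h := card_psp4 (F := F) (by rw [hF]; decide)
  rw [hF] at h
  norm_num at h
  omega

theorem card_psp4_ge {F : Type*} [Field F] [Fintype F] (ho : Odd (Fintype.card F)) (hq : 5 ≤ Fintype.card F) :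
    4680000 ≤ Nat.card (Cfsg.PSp 2 F) := by
  have h := card_psp4 ho
  have h1 : 5 ^ 4 * ((5 ^ 2 - 1) * (5 ^ 4 - 1)) ≤
      Fintype.card F ^ 4 * ((Fintype.card F ^ 2 - 1) * (Fintype.card F ^ 4 - 1)) :=
    Nat.mul_le_mul (Nat.pow_le_pow_left hq 4) (Nat.mul_le_mul (Nat.sub_le_sub_right (Nat.pow_le_pow_left hq 2) 1)
      (Nat.sub_le_sub_right (Nat.pow_le_pow_left hq 4) 1))
  norm_num only [] at h1
  omega

/-- **The row `PSp₄(q)`, `q` odd, residual class.** -/
theorem row_of {Q : Type*} [Group Q] [Finite Q] {A : Subgroup Q} {Γ : Subgroup (MulAut Q)}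
    (h : EPT A Γ) {F : Type*} [Field F] [Fintype F] (m : Model Q (Cfsg.spGL 2 F))
    (ho : Odd (Fintype.card F)) (hres : Cfsg.Geo.InSymplecticResidualClass (m.hat A))
    (A6 : HasSoc A (alternatingGroup (Fin 6)) → 4680000 ≤ Nat.card Q → False)
    (A7 : HasSoc A (alternatingGroup (Fin 7)) → Nat.card Q = 138297600 → False)
    (own : ∀ (P : Subgroup (GL (Fin 2 ⊕ Fin 2) F)) (p : ℕ), Cfsg.Geo.IsResidualCore (m.hat A) P → p.Prime → CharP F p →
      5 ≤ p → 7 < Fintype.card F → Nonempty ((P ⧸ (Cfsg.Geo.scalars (Fin 2 ⊕ Fin 2) F).subgroupOf P) ≃*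
        Matrix.ProjectiveSpecialLinearGroup (Fin 2) F) → False) : False := by
  have hc : Nat.card Q = Nat.card (Cfsg.PSp 2 F) := card_eq_psp m
  obtain ⟨P, p, hP, hp, hpF, h1⟩ := Cfsg.Agent.S5788.result ho (m.hat A) (m.isMaximalIn h.max) hres
  have hs := hasSoc_of_core m hP
  rcases h1 with ⟨⟨f⟩, h5, h7, _⟩ | ⟨⟨f⟩, h7⟩ | ⟨⟨f⟩, h5, h7⟩
  · exact A6 (hs.congr f) (by
      rw [hc]
      exact card_psp4_ge ho (by rw [h5]; exact h7))
  · exact A7 (hs.congr f) (by rw [hc, card_psp4_seven h7])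
  · exact own P p hP hp hpF h5 h7 ⟨f⟩

end Cfsg.Agent.H142.EPIV
end

-- part: H196/EP/SzKill
section
/-!
# S3499, a Suzuki socle (helper196)

`Em A f` : `A` is almost simple with socle the image of `f : J → Q`. For `J` a Suzuki group (parametrised by `R`) and
`EPT A Γ`: the elements `x ∉ A` centralising the Sylow `2`-subgroup `T` of the socle satisfy `D ≤ A^x` (`Em.key`).
-/

set_option autoImplicit false

namespace Cfsg.Agent.H196.EP

open Subgroup Cfsg.Agent.H284 Cfsg.Agent.ThreePrime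

variable {Q : Type*} [Group Q] {A : Subgroup Q} {Γ : Subgroup (MulAut Q)}
  {J : Type*} [Group J] {F : Type*} [Field F] {m : ℕ} {f : J →* Q}

/-- `A` is almost simple with socle the image of `J` -/
structure Em (A : Subgroup Q) (f : J →* Q) : Prop where
  inj : Function.Injective f
  le : ∀ j, f j ∈ A
  norm : ∀ a ∈ A, ∀ j, ∃ j', a * f j * a⁻¹ = f j'
  cent : ∀ a ∈ A, (∀ j, a * f j = f j * a) → a = 1

namespace Em

theorem le_normalizer (E : Em A f) : A ≤ Subgroup.normalizer (f.range : Set Q) := by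
  intro a ha
  rw [Subgroup.mem_normalizer_iff]
  intro y
  constructor
  · rintro ⟨j, rfl⟩
    obtain ⟨j', hj'⟩ := E.norm a ha j
    exact ⟨j', hj'.symm⟩
  · rintro ⟨j, hj⟩
    obtain ⟨j', hj'⟩ := E.norm a⁻¹ (A.inv_mem ha) j
    refine ⟨j', ?_⟩
    rw [← hj', hj]
    group

/-- `A` acts on `J` -/
noncomputable def hom (E : Em A f) : A →* MulAut J :=
  (MulAut.congr (MonoidHom.ofInjective E.inj).symm).toMonoidHom.comp
    ((f.range).normalizerMonoidHom.comp (inclusion E.le_normalizer))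

theorem f_hom (E : Em A f) (a : A) (j : J) : f (E.hom a j) = a * f j * (a : Q)⁻¹ := by
  have h1 : (MonoidHom.ofInjective E.inj) (E.hom a j) =
      (f.range).normalizerMonoidHom (inclusion E.le_normalizer a) (MonoidHom.ofInjective E.inj j) := by
    show (MonoidHom.ofInjective E.inj) ((MonoidHom.ofInjective E.inj).symm _) = _
    rw [MulEquiv.apply_symm_apply]
    rfl
  exact congrArg Subtype.val h1

variable [Fintype F] [Finite J]

/-- the `2`-elements of `A` are in the socle -/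
theorem exists_of_two (E : Em A f) (R : SzRel.Rel J F) (hm : 1 ≤ m) (hF : Fintype.card F = 2 ^ (2 * m + 1)) {a : Q}
    (ha : a ∈ A) {k : ℕ} (hk : a ^ 2 ^ k = 1) : ∃ j, f j = a := by
  obtain ⟨j, hj⟩ := R.inner hm hF (E.hom ⟨a, ha⟩) ⟨k, by
    rw [← map_pow]
    have h1 : (⟨a, ha⟩ : A) ^ 2 ^ k = 1 := Subtype.ext hk
    rw [h1, map_one]⟩
  refine ⟨j, ?_⟩
  have h1 : (f j)⁻¹ * a = 1 := by
    apply E.cent _ (A.mul_mem (A.inv_mem (E.le j)) ha)
    intro i
    have h2 := E.f_hom ⟨a, ha⟩ i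
    rw [hj, MulAut.conj_apply, map_mul, map_mul, map_inv] at h2
    have h3 : f j * f i * (f j)⁻¹ * a = a * f i := by
      rw [h2]
      group
    rw [mul_assoc, ← h3]
    group
  rwa [inv_mul_eq_one] at h1

variable [Finite Q]

/-- `soc A` is not in `A^x` -/
theorem not_le [IsSimpleGroup Q] [IsSimpleGroup J] (E : Em A f) (R : SzRel.Rel J F) (hm : 1 ≤ m)
    (hF : Fintype.card F = 2 ^ (2 * m + 1)) (hmax : IsCoatom A) {x : Q} (hx : x ∉ A) : ∃ j, x⁻¹ * f j * x ∉ A := by
  by_contra hcon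
  push Not at hcon
  have key : ∀ j : J, j ^ 2 ^ 2 = 1 → x⁻¹ * f j * x ∈ f.range := by
    intro j hj
    obtain ⟨i, hi⟩ := E.exists_of_two R hm hF (hcon j) (k := 2) (by
      have h1 : x⁻¹ * f j * x = x⁻¹ * f j * x⁻¹⁻¹ := by rw [inv_inv]
      rw [h1, conj_pow, ← map_pow, hj, map_one, mul_one, mul_inv_cancel])
    exact ⟨i, hi⟩
  have hT4 : ∀ t ∈ R.T, t ^ 2 ^ 2 = 1 := fun t ht => R.pow_four ht
  let H : Subgroup J :=
    { carrier := {j | x⁻¹ * f j * x ∈ f.range}
      one_mem' := by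
        show x⁻¹ * f 1 * x ∈ f.range
        rw [map_one, mul_one, inv_mul_cancel]
        exact one_mem _
      mul_mem' := by
        intro a b ha hb
        show x⁻¹ * f (a * b) * x ∈ f.range
        have h1 : x⁻¹ * f (a * b) * x = (x⁻¹ * f a * x) * (x⁻¹ * f b * x) := by rw [map_mul]; group
        rw [h1]
        exact mul_mem ha hb
      inv_mem' := by
        intro a ha
        show x⁻¹ * f a⁻¹ * x ∈ f.range
        have h1 : x⁻¹ * f a⁻¹ * x = (x⁻¹ * f a * x)⁻¹ := by rw [map_inv]; group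
        rw [h1]
        exact inv_mem ha }
  have hH : H = ⊤ := R.sup_eq_top (H := H) (g := R.w) (fun t ht => key t (hT4 t ht)) (fun t ht => key _ (by
    rw [conj_pow, hT4 t ht, mul_one, mul_inv_cancel])) R.w_not_mem_normalizer
  have h2 : ∀ j, x⁻¹ * f j * x ∈ f.range := fun j => by
    have : j ∈ H := by rw [hH]; exact mem_top _
    exact this
  have h3 : (f.range).map (MulAut.conj x⁻¹).toMonoidHom = f.range := by
    refine Subgroup.eq_of_le_of_card_ge ?_ ?_
    · rintro _ ⟨_, ⟨j, rfl⟩, rfl⟩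
      show x⁻¹ * f j * x⁻¹⁻¹ ∈ f.range
      rw [inv_inv]
      exact h2 j
    · rw [Nat.card_congr ((f.range).equivMapOfInjective (MulAut.conj x⁻¹).toMonoidHom
        (MulAut.conj x⁻¹).injective).toEquiv]
  have hxN : x ∈ Subgroup.normalizer (f.range : Set Q) := by
    rw [← inv_inv x]
    apply inv_mem
    rw [Subgroup.mem_normalizer_iff]
    intro y
    constructor
    · rintro ⟨j, rfl⟩
      rw [inv_inv]
      exact h2 j
    · intro hy
      have h4 : (MulAut.conj x⁻¹) y ∈ (f.range).map (MulAut.conj x⁻¹).toMonoidHom := by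
        rw [h3]
        exact hy
      obtain ⟨z, hz, hzy⟩ := h4
      rwa [← (MulAut.conj x⁻¹).injective hzy]
  have h5 : Subgroup.normalizer (f.range : Set Q) = ⊤ := by
    apply hmax.2
    refine lt_of_le_of_ne E.le_normalizer ?_
    intro he
    apply hx
    rw [he]
    exact hxN
  have h6 : f.range.Normal := Subgroup.normalizer_eq_top_iff.1 h5
  rcases h6.eq_bot_or_eq_top with h7 | h7
  · have h8 : f R.w ∈ f.range := ⟨_, rfl⟩
    rw [h7, mem_bot] at h8
    exact R.w_ne_one (E.inj (by rw [h8, map_one]))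
  · apply hmax.1
    rw [eq_top_iff, ← h7]
    rintro _ ⟨j, rfl⟩
    exact E.le j

/-- the `2`-elements of `N_J(T)` -/
theorem _root_.Cfsg.Agent.H196.EP.two_mem_T (R : SzRel.Rel J F) (hm : 1 ≤ m) (hF : Fintype.card F = 2 ^ (2 * m + 1)) {j : J}
    (hj : j ∈ Subgroup.normalizer (R.T : Set J)) {k : ℕ} (hk : j ^ 2 ^ k = 1) : j ∈ R.T := by
  have : Fact (Nat.Prime 2) := ⟨Nat.prime_two⟩
  obtain ⟨P, hP⟩ := R.exists_sylow_eq hm hF
  have h1 : IsPGroup 2 (Subgroup.zpowers j) := by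
    rintro ⟨_, i, rfl⟩
    refine ⟨k, Subtype.ext ?_⟩
    show (j ^ i) ^ 2 ^ k = 1
    rw [← zpow_natCast, ← zpow_mul, mul_comm, zpow_mul, zpow_natCast, hk, one_zpow]
  have h2 := h1.inf_normalizer_sylow P
  have h3 : j ∈ Subgroup.zpowers j ⊓ Subgroup.normalizer (P : Set J) := by
    refine ⟨Subgroup.mem_zpowers j, ?_⟩
    have h4 : ((P : Subgroup J) : Set J) = (R.T : Set J) := by rw [hP]
    show j ∈ Subgroup.normalizer ((P : Subgroup J) : Set J)
    rw [h4]
    exact hj
  rw [h2] at h3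
  rw [← hP]
  exact h3.2

/-- **Key**: `x ∉ A` centralises `T`, then `D ≤ A^x`. -/
theorem key [IsSimpleGroup Q] [IsSimpleGroup J] (E : Em A f) (R : SzRel.Rel J F) (hm : 1 ≤ m)
    (hF : Fintype.card F = 2 ^ (2 * m + 1)) (h : EPT A Γ) {x : Q} (hx : x ∉ A) (hxT : ∀ t ∈ R.T, x * f t = f t * x)
    (l : Fˣ) : x⁻¹ * f (R.d l) * x ∈ A := by
  have hT : ∀ t ∈ R.T, f t ∈ A ⊓ cj x A := by
    intro t ht
    refine ⟨E.le t, mem_cj.2 ?_⟩
    have h1 : x⁻¹ * f t * x = f t := by rw [mul_assoc, ← hxT t ht, inv_mul_cancel_left]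
    rw [h1]
    exact E.le t
  have h2 : ∀ y ∈ A ⊓ cj x A, ∀ k : ℕ, y ^ 2 ^ k = 1 → y ∈ R.T.map f := by
    intro y hy k hk
    obtain ⟨j, rfl⟩ := E.exists_of_two R hm hF (mem_inf.1 hy).1 hk
    have hj2 : j ^ 2 ^ k = 1 := E.inj (by rw [map_pow, hk, map_one])
    refine ⟨j, two_mem_T R hm hF ?_ hj2, rfl⟩
    by_contra hj
    have h3 : (A ⊓ cj x A).comap f = ⊤ := R.sup_eq_top (H := (A ⊓ cj x A).comap f) (g := j) (fun t ht => hT t ht)
      (fun t ht => by
        show f (j * t * j⁻¹) ∈ A ⊓ cj x A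
        rw [map_mul, map_mul, map_inv]
        exact mul_mem (mul_mem hy (hT t ht)) (inv_mem hy)) hj
    obtain ⟨i, hi⟩ := E.not_le R hm hF h.max hx
    apply hi
    have h4 : i ∈ (A ⊓ cj x A).comap f := by rw [h3]; exact mem_top _
    exact mem_cj.1 (mem_inf.1 h4).2
  have h3 : f (R.d l) ∈ cj x A := by
    refine h.norm_aut hx (K := R.T.map f) ?_ ?_ ?_ (E.le _) ?_
    · rintro _ ⟨t, ht, rfl⟩
      exact hT t ht
    · rintro σ hσ _ ⟨t, ht, rfl⟩
      refine h2 _ (hσ _ (hT t ht)) 2 ?_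
      have h6 : t ^ 2 ^ 2 = 1 := R.pow_four ht
      rw [← map_pow, ← map_pow, h6, map_one, map_one]
    · intro he
      have h5 : f (R.u 0 1) ∈ R.T.map f := ⟨_, R.u_mem 0 1, rfl⟩
      rw [he, mem_bot] at h5
      exact R.u_ne_one one_ne_zero (E.inj (by rw [h5, map_one]))
    · rintro _ ⟨t, ht, rfl⟩
      refine ⟨R.d l * t * (R.d l)⁻¹, ?_, by rw [map_mul, map_mul, map_inv]⟩
      exact (Subgroup.mem_normalizer_iff.1 (R.D_le (R.d_mem l)) t).1 ht
  exact mem_cj.1 h3

end Em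

end Cfsg.Agent.H196.EP
end

-- part: H196/EP/PLin
section
/-!
# Linear algebra over finite fields (helper196)

* `card_le_finrank` : a `p`-group `G` acting on an `F`-space `V` of characteristic `p` with `∑ g y ≠ 0`: `|G| ≤ dim V`;
* `exists_fixed` : fixed vectors of a `p`-group in an invariant subspace;
* `exists_eigen` : an eigenvector of `g`, `g ^ (|F| - 1) = 1`, in an invariant subspace.
-/

set_option autoImplicit false

namespace Cfsg.Agent.H196.EP

open Module

variable {F : Type*} [Field F] {V : Type*} [AddCommGroup V] [Module F V]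

/-- an additive group `≠ 0` of exponent `p` has order divisible by `p` -/
theorem dvd_card_of_exp {p : ℕ} (hp : p.Prime) {X : Type*} [AddCommGroup X] (hx : ∀ x : X, p • x = 0) {x : X}
    (h : x ≠ 0) : p ∣ Nat.card X := by
  have := Fact.mk hp
  rw [← addOrderOf_eq_prime (hx x) h]
  exact addOrderOf_dvd_natCard x

/-- a `p`-group acting on a finite group of exponent `p`, `≠ 0`, has nonzero fixed points -/
theorem exists_fixed_of {p : ℕ} (hp : p.Prime) {G : Type*} [Group G] (hG : IsPGroup p G) {X : Type*} [AddCommGroup X] [Finite X]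
    [DistribMulAction G X] (hx : ∀ x : X, p • x = 0) {x : X} (h : x ≠ 0) : ∃ y : X, y ≠ 0 ∧ ∀ g : G, g • y = y := by
  have := Fact.mk hp
  obtain ⟨b, hb, hb0⟩ := hG.exists_fixed_point_of_prime_dvd_card_of_fixed_point X (dvd_card_of_exp hp hx h)
    (a := (0 : X)) (fun g => smul_zero g)
  exact ⟨b, fun e => hb0 e.symm, fun g => hb g⟩

/-- **Norm**: a `p`-group `G` acting on `V`, with `∑ g y ≠ 0`, has order at most `dim V` -/
theorem card_le_finrank [Finite F] {p : ℕ} (hp : p.Prime) [CharP F p] {G : Type*} [Group G] [Fintype G] (hG : IsPGroup p G)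
    [FiniteDimensional F V] (ρ : G →* Module.End F V) (y : V) (hy : ∑ g, ρ g y ≠ 0) : Fintype.card G ≤ finrank F V := by
  apply LinearIndependent.fintype_card_le_finrank (b := fun g => ρ g y)
  by_contra hli
  rw [Fintype.not_linearIndependent_iff] at hli
  obtain ⟨a, ha, i, hai⟩ := hli
  let I : AddSubgroup (G → F) :=
    { carrier := {a | ∑ g, a g • ρ g y = 0}
      zero_mem' := by simp only [_root_.Set.mem_ofPred_eq, _root_.Pi.zero_apply, _root_.zero_smul, _root_.Finset.sum_const_zero]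
      add_mem' := by
        intro a b ha hb
        show ∑ g, (a g + b g) • ρ g y = 0
        simp only [add_smul, Finset.sum_add_distrib]
        rw [show ∑ g, a g • ρ g y = 0 from ha, show ∑ g, b g • ρ g y = 0 from hb, add_zero]
      neg_mem' := by
        intro a ha
        show ∑ g, (-a g) • ρ g y = 0
        simp only [neg_smul, Finset.sum_neg_distrib]
        rw [show ∑ g, a g • ρ g y = 0 from ha, neg_zero] }
  let act : DistribMulAction G I :=
    { smul := fun h a => ⟨fun g => (a : G → F) (h⁻¹ * g), by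
        show ∑ g, (a : G → F) (h⁻¹ * g) • ρ g y = 0
        have h1 : ∑ g, (a : G → F) g • ρ g y = 0 := a.2
        have h2 := congrArg (ρ h) h1
        rw [map_zero, map_sum] at h2
        rw [← h2]
        refine Fintype.sum_equiv (Equiv.mulLeft h⁻¹) _ _ fun g => ?_
        show _ = ρ h ((a : G → F) (h⁻¹ * g) • ρ (h⁻¹ * g) y)
        rw [map_smul]
        congr 1
        rw [← Module.End.mul_apply, ← map_mul, mul_inv_cancel_left]⟩
      one_smul := by
        intro a
        apply Subtype.ext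
        funext g
        show (a : G → F) (1⁻¹ * g) = (a : G → F) g
        rw [inv_one, one_mul]
      mul_smul := by
        intro h k a
        apply Subtype.ext
        funext g
        show (a : G → F) ((h * k)⁻¹ * g) = (a : G → F) (k⁻¹ * (h⁻¹ * g))
        rw [mul_inv_rev, mul_assoc]
      smul_zero := by
        intro h
        rfl
      smul_add := by
        intro h a b
        rfl }
  have hfin : Finite I := inferInstance
  obtain ⟨b, hb0, hb⟩ := exists_fixed_of hp hG (X := I) (by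
    intro x
    apply Subtype.ext
    funext g
    show (p • (x : G → F)) g = 0
    rw [Pi.smul_apply, nsmul_eq_mul, CharP.cast_eq_zero, zero_mul]) (x := ⟨a, ha⟩) (fun e => hai (by
      have := congrArg (fun x : I => (x : G → F) i) e
      exact this))
  have h3 : ∀ g, (b : G → F) g = (b : G → F) 1 := by
    intro g
    have h4 := congrArg (fun x : I => (x : G → F) g) (hb g)
    have h5 : (b : G → F) (g⁻¹ * g) = (b : G → F) g := h4
    rw [inv_mul_cancel] at h5
    exact h5.symm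
  apply hy
  have h6 : ∑ g, (b : G → F) g • ρ g y = 0 := b.2
  simp only [h3] at h6
  rw [← Finset.smul_sum] at h6
  rcases smul_eq_zero.1 h6 with h7 | h7
  · exfalso
    apply hb0
    apply Subtype.ext
    funext g
    rw [h3, h7]
    rfl
  · exact h7

/-- fixed vectors of a `p`-group -/
theorem exists_fixed [Finite V] {p : ℕ} (hp : p.Prime) [CharP F p] {G : Type*} [Group G] (hG : IsPGroup p G)
    (ρ : G →* Module.End F V) {y : V} (hy : y ≠ 0) : ∃ v : V, v ≠ 0 ∧ ∀ g, ρ g v = v := by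
  let act : DistribMulAction G V :=
    { smul := fun g v => ρ g v
      one_smul := fun v => by show ρ 1 v = v; rw [map_one, Module.End.one_apply]
      mul_smul := fun g h v => by show ρ (g * h) v = ρ g (ρ h v); rw [map_mul, Module.End.mul_apply]
      smul_zero := fun g => map_zero (ρ g)
      smul_add := fun g v w => map_add (ρ g) v w }
  obtain ⟨v, hv, h⟩ := exists_fixed_of hp hG (X := V) (by
    intro x
    rw [← Nat.cast_smul_eq_nsmul F, CharP.cast_eq_zero, zero_smul]) hy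
  exact ⟨v, hv, h⟩

/-- an eigenvector in an invariant subspace -/
theorem exists_eigen [Fintype F] [FiniteDimensional F V] (g : Module.End F V) (hg : g ^ (Fintype.card F - 1) = 1)
    (W : Submodule F V) (hW : ∀ v ∈ W, g v ∈ W) {y : V} (hy : y ∈ W) (hy0 : y ≠ 0) :
    ∃ v ∈ W, v ≠ 0 ∧ ∃ c : F, g v = c • v := by
  classical
  let g' : Module.End F W := g.restrict hW
  have hnt : Nontrivial W := ⟨⟨⟨y, hy⟩, 0, fun e => hy0 (congrArg Subtype.val e)⟩⟩
  have hpow : ∀ n : ℕ, ∀ w : W, ((g' ^ n) w : V) = (g ^ n) w := by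
    intro n
    induction n with
    | zero => intro w; rfl
    | succ n ih =>
      intro w
      rw [pow_succ, pow_succ, Module.End.mul_apply, Module.End.mul_apply, ih]
      rfl
  have hg' : g' ^ (Fintype.card F - 1) = 1 := by
    ext w
    rw [hpow, hg]
    rfl
  have hdvd : minpoly F g' ∣ (Polynomial.X ^ Fintype.card F - Polynomial.X : Polynomial F) := by
    apply minpoly.dvd
    rw [map_sub, Polynomial.aeval_X_pow, Polynomial.aeval_X]
    have h1 : 1 ≤ Fintype.card F := Fintype.card_pos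
    rw [← Nat.sub_add_cancel h1, pow_succ, hg', one_mul, sub_self]
  have hsp : (Polynomial.X ^ Fintype.card F - Polynomial.X : Polynomial F).Splits := by
    have := FiniteField.X_pow_card_sub_X_ne_zero F (Fintype.one_lt_card (α := F))
    rw [Polynomial.splits_iff_card_roots]
    rw [FiniteField.X_pow_card_sub_X_natDegree_eq F Fintype.one_lt_card, FiniteField.roots_X_pow_card_sub_X]
    rfl
  have hne := FiniteField.X_pow_card_sub_X_ne_zero F (Fintype.one_lt_card (α := F))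
  have hdeg : (minpoly F g').degree ≠ 0 := (minpoly.degree_pos (Algebra.IsIntegral.isIntegral g')).ne'
  obtain ⟨c, hc⟩ := (hsp.of_dvd hne hdvd).exists_eval_eq_zero hdeg
  have hev := Module.End.hasEigenvalue_of_isRoot (f := g') (μ := c) hc
  obtain ⟨v, hv⟩ := hev.exists_hasEigenvector
  refine ⟨v, v.2, fun e => hv.2 (Subtype.ext e), c, ?_⟩
  exact congrArg Subtype.val hv.apply_eq_smul

end Cfsg.Agent.H196.EP
end

-- part: H196/EP/RowS5791
section
/-!
# S3499, the row `Sp_4(q)`, `q ≥ 4` even, residual class: the socle `Sz(q)` (helper196)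

By S5791 the socle of `A` is `Sz(q) ≅ P ≤ Sp_4(q)`. The Sylow `2`-subgroup `T` of `P` fixes a vector `v ≠ 0`, an
eigenvector of the torus `D`; the transvections `x = tGL v c` centralise `T`, and none of them is in `A` (otherwise `P`
contains all `tGL v c` and all `tGL (w v) c`, hence elements of order `3`). By extreme primitivity (`Em.key`) `D ≤ A^x`,
so `D` fixes `v`. Then the sum of the orbit of `v` is fixed by `P`, so it is `0`, and `∑_{t ∈ T} t (w v) = v ≠ 0`, so
`q ^ 2 = |T| ≤ 4`, a contradiction.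
-/

set_option autoImplicit false
set_option linter.unusedSectionVars false

namespace Cfsg.Agent.H196.EP

open Subgroup Module Cfsg.Agent.H284 Cfsg.Agent.H419.EP Cfsg.Agent.ThreePrime Cfsg.Agent.ClassicalGeometry.SympBasic
  Cfsg.Agent.H876 Cfsg.Agent.S5652 Cfsg.Agent.H910 Cfsg.Geo Cfsg
open scoped Matrix MatrixGroups

section lin

variable {F : Type*} [Field F] [Fintype F] [CharP F 2] {P : Subgroup (GL (Fin 2 ⊕ Fin 2) F)}

/-- the action of `P` on `F ^ 4` -/
noncomputable def rep (P : Subgroup (GL (Fin 2 ⊕ Fin 2) F)) : P →* Module.End F (Fin 2 ⊕ Fin 2 → F) where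
  toFun g := Matrix.mulVecLin ((g : GL (Fin 2 ⊕ Fin 2) F) : Matrix (Fin 2 ⊕ Fin 2) (Fin 2 ⊕ Fin 2) F)
  map_one' := by
    apply LinearMap.ext
    intro v
    exact Matrix.one_mulVec v
  map_mul' g h := by
    apply LinearMap.ext
    intro v
    exact (mul_mulVec (g : GL (Fin 2 ⊕ Fin 2) F) h v)

theorem rep_apply (g : P) (v : Fin 2 ⊕ Fin 2 → F) :
    rep P g v = ((g : GL (Fin 2 ⊕ Fin 2) F) : Matrix (Fin 2 ⊕ Fin 2) (Fin 2 ⊕ Fin 2) F) *ᵥ v := rfl

theorem add_self' (x : F) : x + x = 0 := CharTwo.add_self_eq_zero x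

theorem tGL_inj {v : Fin 2 ⊕ Fin 2 → F} (hv : v ≠ 0) {c d : F} (h : tGL v c = tGL v d) : c = d := by
  obtain ⟨u, hu⟩ := exists_partner hv
  have h1 : (tGL v c : Matrix (Fin 2 ⊕ Fin 2) (Fin 2 ⊕ Fin 2) F) *ᵥ u =
      (tGL v d : Matrix (Fin 2 ⊕ Fin 2) (Fin 2 ⊕ Fin 2) F) *ᵥ u := by rw [h]
  rw [tGL_mulVec, tGL_mulVec, add_right_inj, sympForm_swap, hu] at h1
  have h2 : (c * -1 - d * -1) • v = 0 := by rw [sub_smul, h1, sub_self]
  rcases smul_eq_zero.1 h2 with h3 | h3
  · linear_combination -h3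
  · exact absurd h3 hv

variable (hPs : P ≤ spGL 2 F) (R : SzRel.Rel P F)

include hPs in
theorem conj_t (g : P) (v : Fin 2 ⊕ Fin 2 → F) (c : F) :
    (g : GL (Fin 2 ⊕ Fin 2) F) * tGL v c * (g : GL (Fin 2 ⊕ Fin 2) F)⁻¹ = tGL (rep P g v) c := conj_tGL (hPs g.2) v c

/-- **A vector fixed by `T`, an eigenvector of `D`** -/
theorem exists_vec : ∃ v : Fin 2 ⊕ Fin 2 → F, v ≠ 0 ∧ (∀ t ∈ R.T, rep P t v = v) ∧ ∀ k, ∃ c : F, rep P (R.d k) v = c • v := by
  classical
  obtain ⟨y, hy0, hy⟩ := exists_fixed (F := F) Nat.prime_two R.isPGroup ((rep P).comp R.T.subtype)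
    (y := Pi.single (Sum.inl 0) (1 : F)) (by
      intro h
      have := congrFun h (Sum.inl 0)
      rw [Pi.single_eq_same] at this
      exact one_ne_zero this)
  let W : Submodule F (Fin 2 ⊕ Fin 2 → F) :=
    { carrier := {v | ∀ t ∈ R.T, rep P t v = v}
      zero_mem' := fun t _ => map_zero _
      add_mem' := by
        intro a b ha hb t ht
        rw [map_add, ha t ht, hb t ht]
      smul_mem' := by
        intro c a ha t ht
        rw [map_smul, ha t ht] }
  have hW : ∀ k, ∀ v ∈ W, rep P (R.d k) v ∈ W := by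
    intro k v hv t ht
    have h1 : (R.d k)⁻¹ * t * R.d k ∈ R.T := by
      have h2 := (Subgroup.mem_normalizer_iff.1 (inv_mem (R.D_le (R.d_mem k))) t).1 ht
      rwa [inv_inv] at h2
    rw [← Module.End.mul_apply, ← map_mul]
    have h2 : t * R.d k = R.d k * ((R.d k)⁻¹ * t * R.d k) := by group
    rw [h2, map_mul, Module.End.mul_apply, hv _ h1]
  obtain ⟨k0, hk0⟩ := IsCyclic.exists_generator (α := Fˣ)
  let dh : Fˣ →* P := { toFun := R.d, map_one' := R.d_one, map_mul' := fun k l => (R.d_mul k l).symm }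
  obtain ⟨v, hvW, hv0, c, hc⟩ := exists_eigen (rep P (R.d k0)) (by
    rw [← map_pow]
    have h1 : R.d k0 ^ (Fintype.card F - 1) = 1 := by
      have h2 : dh k0 ^ (Fintype.card F - 1) = 1 := by
        rw [← map_pow, ← Nat.card_eq_fintype_card, ← Nat.card_units, pow_card_eq_one', map_one]
      exact h2
    rw [h1, map_one]) W (hW k0) (y := y) (fun t ht => hy ⟨t, ht⟩) hy0
  refine ⟨v, hv0, hvW, fun k => ?_⟩
  have hpow : ∀ n : ℕ, rep P (R.d (k0 ^ n)) v = c ^ n • v := by
    intro n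
    induction n with
    | zero =>
      rw [pow_zero, pow_zero, R.d_one, map_one, one_smul, Module.End.one_apply]
    | succ n ih =>
      rw [pow_succ, ← R.d_mul, map_mul, Module.End.mul_apply, hc, map_smul, ih, smul_smul, pow_succ, mul_comm]
  have h2 : k ∈ Submonoid.powers k0 := by
    rw [mem_powers_iff_mem_zpowers]
    exact hk0 k
  obtain ⟨n, rfl⟩ := h2
  exact ⟨_, hpow n⟩

include hPs in
/-- **No transvection with centre `v` is in `P`** -/
theorem no_trans (h3 : ¬ 3 ∣ Nat.card P) {v : Fin 2 ⊕ Fin 2 → F} (hv : v ≠ 0) (hvT : ∀ t ∈ R.T, rep P t v = v)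
    (hvD : ∀ k, ∃ c : F, rep P (R.d k) v = c • v) {c : F} (hc : tGL v c ∈ P) : c = 0 := by
  classical
  by_contra hc0
  set j : P := ⟨tGL v c, hc⟩ with hj
  have hjj : j * j = 1 := by
    apply Subtype.ext
    show tGL v c * tGL v c = 1
    rw [tGL_mul, add_self', tGL_zero_right]
  have hj1 : j ≠ 1 := by
    intro e
    apply hc0
    apply tGL_inj hv
    rw [tGL_zero_right]
    exact congrArg Subtype.val e
  have hcomm : ∀ t ∈ R.T, j * t = t * j := by
    intro t ht
    have h1 := conj_t hPs t v c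
    rw [hvT t ht, mul_inv_eq_iff_eq_mul] at h1
    exact Subtype.ext h1.symm
  have hjT : j ∈ R.T := R.mem_T_of_comm (R.u_mem 0 1) (R.u_ne_one one_ne_zero) (hcomm _ (R.u_mem 0 1))
  -- all involutions of `T` are transvections
  have hZ : ∀ z : R.Z, ∃ c' : F, ((z : P) : GL (Fin 2 ⊕ Fin 2) F) = tGL v c' := by
    rintro ⟨z, hz⟩
    have hzT := R.Z_le_T hz
    by_cases hz1 : z = 1
    · exact ⟨0, by rw [tGL_zero_right]; exact congrArg Subtype.val hz1⟩
    obtain ⟨_, ⟨k, rfl⟩, hd⟩ := R.trans j hjT z hzT hj1 hz1 hjj ((R.mem_Z_iff hzT).1 hz)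
    obtain ⟨l, hl⟩ := hvD k
    refine ⟨l ^ 2 * c, ?_⟩
    rw [← tGL_smul, ← hl, ← conj_t hPs]
    exact congrArg Subtype.val hd.symm
  choose φ hφ using hZ
  have hφi : Function.Injective φ := by
    intro z z' h
    apply Subtype.ext
    apply Subtype.ext
    rw [hφ, hφ, h]
  have hφs : Function.Surjective φ := by
    have hcard : Nat.card R.Z = Nat.card F := R.card_Z
    exact ((Nat.bijective_iff_injective_and_card φ).2 ⟨hφi, hcard⟩).2
  have hall : ∀ c', ∃ z ∈ R.Z, ((z : P) : GL (Fin 2 ⊕ Fin 2) F) = tGL v c' := by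
    intro c'
    obtain ⟨z, rfl⟩ := hφs c'
    exact ⟨z, z.2, hφ z⟩
  -- the conjugates by `w`
  set v' := rep P R.w v with hv'
  have hw : ∀ (z : P) (c' : F), (z : GL (Fin 2 ⊕ Fin 2) F) = tGL v c' →
      ((R.w * z * R.w⁻¹ : P) : GL (Fin 2 ⊕ Fin 2) F) = tGL v' c' := by
    intro z c' hz
    rw [hv', ← conj_t hPs, ← hz]
    rfl
  have hnc : ∀ z ∈ R.Z, ∀ z' ∈ R.Z, z ≠ 1 → z' ≠ 1 → (R.w * z' * R.w⁻¹) * z ≠ z * (R.w * z' * R.w⁻¹) := by
    intro z hz z' hz' h1 h1' he
    have h2 := R.mem_T_of_comm (R.Z_le_T hz) h1 he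
    exact R.w_not_mem_normalizer (R.ti (R.Z_le_T hz') h1' h2)
  have hne1 : ∀ {z : P} {c' : F}, (z : GL (Fin 2 ⊕ Fin 2) F) = tGL v c' → c' ≠ 0 → z ≠ 1 := by
    intro z c' hz hc' e
    apply hc'
    apply tGL_inj hv
    rw [tGL_zero_right, ← hz, e]
    rfl
  obtain ⟨x, hxZ, hx⟩ := hall 1
  have hx1 : x ≠ 1 := hne1 hx one_ne_zero
  by_cases hs : sympForm 2 F v v' = 0
  · apply hnc x hxZ x hxZ hx1 hx1
    apply Subtype.ext
    show ((R.w * x * R.w⁻¹ : P) : GL (Fin 2 ⊕ Fin 2) F) * (x : GL (Fin 2 ⊕ Fin 2) F) =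
      (x : GL (Fin 2 ⊕ Fin 2) F) * ((R.w * x * R.w⁻¹ : P) : GL (Fin 2 ⊕ Fin 2) F)
    rw [hw x 1 hx, hx]
    have h1 := conj_tGL (tGL_mem v (1 : F)) v' (1 : F)
    rw [tGL_mulVec, sympForm_swap, hs, neg_zero, mul_zero, zero_smul, add_zero, mul_inv_eq_iff_eq_mul] at h1
    exact h1.symm
  · set s := sympForm 2 F v v' with hsdef
    obtain ⟨y0, hy0Z, hy0⟩ := hall (s⁻¹ ^ 2)
    have hy01 : y0 ≠ 1 := hne1 hy0 (pow_ne_zero _ (inv_ne_zero hs))
    set y : P := R.w * y0 * R.w⁻¹ with hydef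
    have hy : (y : GL (Fin 2 ⊕ Fin 2) F) = tGL v' (s⁻¹ ^ 2) := hw y0 _ hy0
    have hxx : x * x = 1 := (R.mem_Z_iff (R.Z_le_T hxZ)).1 hxZ
    have hyy : y * y = 1 := by
      have h1 : y0 * y0 = 1 := (R.mem_Z_iff (R.Z_le_T hy0Z)).1 hy0Z
      have h2 : y * y = R.w * (y0 * y0) * R.w⁻¹ := by rw [hydef]; group
      rw [h2, h1, mul_one, mul_inv_cancel]
    -- the braid relation
    have hbr : x * y * x⁻¹ = y * x * y⁻¹ := by
      apply Subtype.ext
      show (x : GL (Fin 2 ⊕ Fin 2) F) * y * (x : GL (Fin 2 ⊕ Fin 2) F)⁻¹ = (y : GL (Fin 2 ⊕ Fin 2) F) * x * (y : GL (Fin 2 ⊕ Fin 2) F)⁻¹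
      rw [hx, hy, conj_tGL (tGL_mem _ _), conj_tGL (tGL_mem _ _), tGL_mulVec, tGL_mulVec, ← hsdef, sympForm_swap, ← hsdef]
      have h1 : v + (s⁻¹ ^ 2 * s) • v' = s⁻¹ • (v' + (1 * -s) • v) := by
        rw [smul_add, smul_smul]
        have h2 : s⁻¹ ^ 2 * s = s⁻¹ := by field_simp
        have h3 : s⁻¹ * (1 * -s) = 1 := by
          have h4 : s⁻¹ * (1 * -s) = -1 := by field_simp
          rw [h4]
          exact CharTwo.neg_eq 1
        rw [h2, h3, one_smul, add_comm]
      rw [h1, tGL_smul, mul_one]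
    have h33 : (x * y) ^ 3 = 1 := by
      have hxi : x⁻¹ = x := inv_eq_of_mul_eq_one_left hxx
      have hyi : y⁻¹ = y := inv_eq_of_mul_eq_one_left hyy
      rw [hxi, hyi] at hbr
      calc (x * y) ^ 3 = (x * y * x) * (y * x * y) := by
            rw [pow_succ, pow_succ, pow_one]; group
        _ = (x * y * x) * (x * y * x) := by rw [hbr]
        _ = x * y * (x * x) * y * x := by group
        _ = 1 := by rw [hxx, mul_one, mul_assoc x y y, hyy, mul_one, hxx]
    have hne : x * y ≠ 1 := by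
      intro e
      have h1 : y = x := by
        have h2 : y = x⁻¹ := eq_inv_of_mul_eq_one_right e
        rw [h2]
        exact inv_eq_of_mul_eq_one_left hxx
      apply hnc x hxZ y0 hy0Z hx1 hy01
      rw [← hydef, h1]
    apply h3
    have := Fact.mk Nat.prime_three
    rw [← orderOf_eq_prime h33 hne]
    exact _root_.orderOf_dvd_natCard _

include hPs in
/-- **No nonzero vector is fixed by the Borel subgroup `T D`** -/
theorem no_fixed (hirr : ∀ W : Submodule F (Fin 2 ⊕ Fin 2 → F), (∀ g : P, ∀ w ∈ W, rep P g w ∈ W) → W = ⊥ ∨ W = ⊤)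
    (h8 : 8 ≤ Fintype.card F) {v : Fin 2 ⊕ Fin 2 → F} (hv : v ≠ 0) (hvT : ∀ t ∈ R.T, rep P t v = v)
    (hvD : ∀ k, rep P (R.d k) v = v) : False := by
  classical
  let B : Subgroup P := Subgroup.normalizer (R.T : Set P)
  have hB : ∀ b ∈ B, rep P b v = v := by
    intro b hb
    obtain ⟨a, b, k, rfl⟩ := R.norm hb
    rw [map_mul, Module.End.mul_apply, hvD, hvT _ (R.u_mem _ _)]
  let φ : P ⧸ B → (Fin 2 ⊕ Fin 2 → F) := fun c => rep P c.out v
  have hφ : ∀ g : P, φ (g : P ⧸ B) = rep P g v := by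
    intro g
    have h1 : ((g : P ⧸ B).out : P ⧸ B) = (g : P ⧸ B) := QuotientGroup.out_eq' _
    have h2 : g⁻¹ * (g : P ⧸ B).out ∈ B := QuotientGroup.eq.1 h1.symm
    have h3 : (g : P ⧸ B).out = g * (g⁻¹ * (g : P ⧸ B).out) := by group
    show rep P (g : P ⧸ B).out v = rep P g v
    rw [h3, map_mul, Module.End.mul_apply, hB _ h2]
  have hfinP : Finite P := inferInstance
  let _ : Fintype P := Fintype.ofFinite P
  let _ : Fintype (P ⧸ B) := Fintype.ofFinite _
  let _ : Fintype R.T := Fintype.ofFinite _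
  -- the sum over the cosets
  have hsum : ∀ g : P, rep P g (∑ c, φ c) = ∑ c, φ c := by
    intro g
    rw [map_sum]
    refine Fintype.sum_equiv (MulAction.toPerm g) _ _ ?_
    intro c
    induction c using QuotientGroup.induction_on with
    | H x =>
      show rep P g (φ (x : P ⧸ B)) = φ (g • (x : P ⧸ B))
      rw [MulAction.Quotient.smul_coe, smul_eq_mul, hφ, hφ, map_mul, Module.End.mul_apply]
  have hzero : ∑ c, φ c = 0 := by
    let W : Submodule F (Fin 2 ⊕ Fin 2 → F) :=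
      { carrier := {w | ∀ g : P, rep P g w = w}
        zero_mem' := fun g => map_zero _
        add_mem' := by
          intro a b ha hb g
          rw [map_add, ha g, hb g]
        smul_mem' := by
          intro c a ha g
          rw [map_smul, ha g] }
    rcases hirr W (fun g w hw g' => by rw [hw g, hw g']) with h1 | h1
    · have h2 : ∑ c, φ c ∈ W := hsum
      rw [h1, Submodule.mem_bot] at h2
      exact h2
    · exfalso
      apply R.w_ne_one
      apply Subtype.ext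
      apply gl_ext
      intro u
      have h2 : u ∈ W := by rw [h1]; exact Submodule.mem_top
      have h3 := h2 R.w
      rw [rep_apply] at h3
      rw [h3]
      exact (Matrix.one_mulVec u).symm
  -- the decomposition of the cosets
  let ψ : Option R.T → P ⧸ B := fun o => match o with
    | none => ((1 : P) : P ⧸ B)
    | some t => (((t : P) * R.w : P) : P ⧸ B)
  have hψi : Function.Injective ψ := by
    intro o o' h
    rcases o with _ | t <;> rcases o' with _ | t'
    · rfl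
    · exfalso
      have h1 : ((1 : P) : P ⧸ B) = (((t' : P) * R.w : P) : P ⧸ B) := h
      rw [QuotientGroup.eq, inv_one, one_mul] at h1
      apply R.w_not_mem_normalizer
      obtain ⟨a, b, ht⟩ := t'.2
      have h2 : (t' : P) ∈ B := by
        have := R.ud_mem_normalizer a b 1
        rw [R.d_one, mul_one, ← ht] at this
        exact this
      exact (Subgroup.mul_mem_cancel_left B h2).1 h1
    · exfalso
      have h1 : (((t : P) * R.w : P) : P ⧸ B) = ((1 : P) : P ⧸ B) := h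
      rw [eq_comm, QuotientGroup.eq, inv_one, one_mul] at h1
      apply R.w_not_mem_normalizer
      obtain ⟨a, b, ht⟩ := t.2
      have h2 : (t : P) ∈ B := by
        have := R.ud_mem_normalizer a b 1
        rw [R.d_one, mul_one, ← ht] at this
        exact this
      exact (Subgroup.mul_mem_cancel_left B h2).1 h1
    · have h1 : (((t : P) * R.w : P) : P ⧸ B) = (((t' : P) * R.w : P) : P ⧸ B) := h
      rw [QuotientGroup.eq] at h1
      have h2 : R.w * ((t : P)⁻¹ * t') * R.w ∈ B := by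
        have h3 : R.w⁻¹ = R.w := inv_eq_of_mul_eq_one_left R.w_mul_w
        have h4 : ((t : P) * R.w)⁻¹ * ((t' : P) * R.w) = R.w * ((t : P)⁻¹ * t') * R.w := by
          rw [mul_inv_rev, h3]; group
        rwa [h4] at h1
      obtain ⟨a, b, hab⟩ := R.T.mul_mem (R.T.inv_mem t.2) t'.2
      obtain ⟨c, e, k, hk⟩ := R.norm h2
      rw [hab] at hk
      obtain ⟨rfl, rfl⟩ := R.inter a b c e k hk
      rw [R.u_zero, inv_mul_eq_one] at hab
      rw [Subtype.ext hab]
  have hψs : Function.Surjective ψ := by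
    intro c
    induction c using QuotientGroup.induction_on with
    | H x =>
      rcases R.bruhat x with ⟨a, b, k, h⟩ | ⟨a, b, c, e, k, h⟩
      · refine ⟨none, ?_⟩
        show ((1 : P) : P ⧸ B) = (x : P ⧸ B)
        rw [QuotientGroup.eq, inv_one, one_mul, h]
        exact R.ud_mem_normalizer a b k
      · refine ⟨some ⟨R.u a b, R.u_mem a b⟩, ?_⟩
        show ((R.u a b * R.w : P) : P ⧸ B) = (x : P ⧸ B)
        rw [QuotientGroup.eq, h, inv_mul_cancel_left]
        exact R.ud_mem_normalizer c e k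
  have hdec : ∑ c, φ c = v + ∑ t : R.T, rep P t (rep P R.w v) := by
    rw [← Function.Bijective.sum_comp ⟨hψi, hψs⟩ φ, Fintype.sum_option]
    congr 1
    · show φ ((1 : P) : P ⧸ B) = v
      rw [hφ, map_one, Module.End.one_apply]
    · refine Finset.sum_congr rfl fun t _ => ?_
      show φ (((t : P) * R.w : P) : P ⧸ B) = _
      rw [hφ, map_mul, Module.End.mul_apply]
  have hT : ∑ t : R.T, ((rep P).comp R.T.subtype) t (rep P R.w v) ≠ 0 := by
    intro h1
    apply hv
    have h2 : ∑ t : R.T, rep P t (rep P R.w v) = 0 := h1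
    rw [h2, add_zero, hzero] at hdec
    exact hdec.symm
  have hle := card_le_finrank Nat.prime_two R.isPGroup ((rep P).comp R.T.subtype) _ hT
  rw [Module.finrank_fintype_fun_eq_card, ← Nat.card_eq_fintype_card, R.card_T, Nat.card_eq_fintype_card] at hle
  have h4 : Fintype.card (Fin 2 ⊕ Fin 2) = 4 := by decide
  rw [h4] at hle
  nlinarith only [h8, hle]

end lin

/-- `3` does not divide the order of a Suzuki group -/
theorem not_three_dvd_sz {F : Type*} [Field F] [Fintype F] {k : ℕ} (hm : 1 ≤ k) (hF : Fintype.card F = 2 ^ (2 * k + 1)) :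
    ¬ 3 ∣ Nat.card ↥(Cfsg.Lie.Sz F (2 ^ (k + 1))) := by
  rw [(Cfsg.Agent.S1163.result hm hF).1]
  have h1 : 2 ^ (2 * k + 1) = 2 * 4 ^ k := by rw [pow_succ, pow_mul]; norm_num [mul_comm]
  have h3 : 4 ^ k % 3 = 1 := by rw [Nat.pow_mod]; norm_num
  rw [h1]
  obtain ⟨a, ha⟩ : ∃ a, 4 ^ k = 3 * a + 1 := ⟨4 ^ k / 3, by omega⟩
  rw [ha, show 2 * (3 * a + 1) - 1 = 6 * a + 1 by (clear * - ha; omega)]
  intro h
  have h4 : ((2 * (3 * a + 1)) ^ 2 * (6 * a + 1) * ((2 * (3 * a + 1)) ^ 2 + 1)) % 3 = 2 := by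
    have e1 : (2 * (3 * a + 1)) ^ 2 = 3 * (12 * a ^ 2 + 8 * a + 1) + 1 := by ring
    rw [e1]
    generalize 12 * a ^ 2 + 8 * a + 1 = b
    have e2 : (3 * b + 1) * (6 * a + 1) * (3 * b + 1 + 1) =
      3 * (18 * a * b ^ 2 + 18 * a * b + 3 * b ^ 2 + 4 * a + 3 * b) + 2 := by ring
    rw [e2]
    omega
  omega

/-- **The row S5791** -/
theorem row_S5791 {Q : Type*} [Group Q] [Finite Q] (hs : IsSimpleGroup Q) {A : Subgroup Q} {Γ : Subgroup (MulAut Q)}
    (h : EPT A Γ) {F : Type*} [Field F] [Fintype F] (M : Model Q (Cfsg.spGL 2 F)) (heven : ¬ Odd (Fintype.card F))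
    (h4 : 4 ≤ Fintype.card F) (hres : Cfsg.Geo.InSymplecticResidualClass (M.hat A)) : False := by
  classical
  have hch : CharP F 2 := by
    obtain ⟨p, hp⟩ := CharP.exists F
    have hpp : p.Prime := CharP.char_is_prime F p
    obtain ⟨n, -, hn⟩ := FiniteField.card F p
    have h2 : 2 ∣ p ^ (n : ℕ) := by
      rw [← hn]
      exact (Nat.not_odd_iff_even.1 heven).two_dvd
    have h3 := (Nat.prime_dvd_prime_iff_eq Nat.prime_two hpp).1 (Nat.prime_two.dvd_of_dvd_pow h2)
    rw [h3]; exact hp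
  obtain ⟨P, k, hc, hk, hF, ⟨e⟩⟩ := Cfsg.Agent.S5791.result heven h4 (M.hat A) (M.isMaximalIn h.max) hres
  have hPs : P ≤ spGL 2 F := hc.le.trans (M.hat_le A)
  obtain ⟨⟨e0⟩, hsim, -⟩ := core_simple hc hPs
  have hfin : Finite P := Subtype.finite
  let eP : ↥(Cfsg.Lie.Sz F (2 ^ (k + 1))) ≃* P := e.symm.trans e0
  let R : SzRel.Rel P F := (SzRel.ofGood (Cfsg.Agent.LieRecognition.SzMatrix.good hF)).map eP
  have h3 : ¬ 3 ∣ Nat.card P := by
    rw [← Nat.card_congr eP.toEquiv]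
    exact not_three_dvd_sz hk hF
  have h8 : 8 ≤ Fintype.card F := by
    rw [hF]
    exact SzRel.Rel.eight_le hk
  -- the embedding of the socle
  let f : P →* Q := M.π.comp (Subgroup.inclusion hPs)
  have hf : ∀ p : P, f p = M.π ⟨p, hPs p.2⟩ := fun p => rfl
  have hπ : ∀ s t : spGL 2 F, M.π s = M.π t → (s : GL (Fin 2 ⊕ Fin 2) F) = t := by
    intro s t hst
    have h1 : M.π (s * t⁻¹) = 1 := by rw [map_mul, map_inv, hst, mul_inv_cancel]
    have h2 := (M.ker _).1 h1
    have h5 : s * t⁻¹ ∈ (scalars (Fin 2 ⊕ Fin 2) F).subgroupOf (spGL 2 F) := h2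
    rw [scalars_inf_bot (le_refl (spGL 2 F)), mem_bot] at h5
    have h6 : ((s * t⁻¹ : spGL 2 F) : GL (Fin 2 ⊕ Fin 2) F) = 1 := congrArg Subtype.val h5
    rw [Subgroup.coe_mul, Subgroup.coe_inv, mul_inv_eq_one] at h6
    exact h6
  have E : Em A f := by
    refine ⟨?_, ?_, ?_, ?_⟩
    · intro p p' hpp
      exact Subtype.ext (hπ _ _ hpp)
    · intro p
      exact (M.mem_hat_iff ⟨p, hPs p.2⟩).1 (hc.le p.2)
    · intro a ha p
      obtain ⟨s, rfl⟩ := M.surj a
      have hsA : (s : GL (Fin 2 ⊕ Fin 2) F) ∈ M.hat A := (M.mem_hat_iff s).2 ha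
      refine ⟨⟨s * p * (s : GL (Fin 2 ⊕ Fin 2) F)⁻¹, hc.normal _ hsA _ p.2⟩, ?_⟩
      rw [hf, hf, ← map_mul, ← map_inv, ← map_mul]
      rfl
    · intro a ha hcen
      obtain ⟨s, rfl⟩ := M.surj a
      have hsA : (s : GL (Fin 2 ⊕ Fin 2) F) ∈ M.hat A := (M.mem_hat_iff s).2 ha
      rw [M.ker]
      apply hc.centralizer_scalar _ hsA
      intro x hx
      have h1 := hcen ⟨x, hx⟩
      have h2 : M.π (s * ⟨x, hPs hx⟩ * s⁻¹ * ⟨x, hPs hx⟩⁻¹) = 1 := by
        rw [map_mul, map_mul, map_mul, map_inv, map_inv]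
        rw [hf] at h1
        rw [h1]
        group
      exact (M.ker _).1 h2
  -- the vector
  obtain ⟨v, hv, hvT, hvD⟩ := exists_vec R
  have hno : ∀ c : F, M.π ⟨tGL v c, tGL_mem v c⟩ ∈ A → c = 0 := by
    intro c hcA
    obtain ⟨j, hj⟩ := E.exists_of_two R hk hF hcA (k := 1) (by
      rw [pow_one, pow_two, ← map_mul]
      have h1 : (⟨tGL v c, tGL_mem v c⟩ * ⟨tGL v c, tGL_mem v c⟩ : spGL 2 F) = 1 := by
        apply Subtype.ext
        show tGL v c * tGL v c = 1
        rw [tGL_mul, add_self', tGL_zero_right]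
      rw [h1, map_one])
    have h2 : (j : GL (Fin 2 ⊕ Fin 2) F) = tGL v c := hπ _ _ hj
    exact no_trans hPs R h3 hv hvT hvD (h2 ▸ j.2)
  have hx : M.π ⟨tGL v 1, tGL_mem v 1⟩ ∉ A := fun e => one_ne_zero (hno 1 e)
  have hfix : ∀ l, rep P (R.d l) v = v := by
    intro l
    obtain ⟨c, hcv⟩ := hvD l
    have h1 := E.key R hk hF h hx (fun t ht => by
      rw [hf, ← map_mul, ← map_mul]
      congr 1
      apply Subtype.ext
      show tGL v 1 * (t : GL (Fin 2 ⊕ Fin 2) F) = t * tGL v 1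
      have h2 := conj_t hPs t v (1 : F)
      rw [hvT t ht, mul_inv_eq_iff_eq_mul] at h2
      exact h2.symm) l
    have h2 : M.π ⟨tGL v (c ^ 2 - 1), tGL_mem v _⟩ ∈ A := by
      have h5 := A.mul_mem h1 (A.inv_mem (E.le (R.d l)))
      rw [hf, ← map_inv, ← map_inv, ← map_mul, ← map_mul, ← map_mul] at h5
      have h6 : ((⟨tGL v 1, tGL_mem v 1⟩ : spGL 2 F)⁻¹ * ⟨R.d l, hPs (R.d l).2⟩ * ⟨tGL v 1, tGL_mem v 1⟩ *
          (⟨R.d l, hPs (R.d l).2⟩ : spGL 2 F)⁻¹ : spGL 2 F) = ⟨tGL v (c ^ 2 - 1), tGL_mem v _⟩ := by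
        apply Subtype.ext
        show (tGL v 1)⁻¹ * (R.d l : GL (Fin 2 ⊕ Fin 2) F) * tGL v 1 * (R.d l : GL (Fin 2 ⊕ Fin 2) F)⁻¹ = tGL v (c ^ 2 - 1)
        have h7 := conj_t hPs (R.d l) v (1 : F)
        rw [hcv, tGL_smul, mul_one] at h7
        have h8 : (tGL v 1)⁻¹ * (R.d l : GL (Fin 2 ⊕ Fin 2) F) * tGL v 1 * (R.d l : GL (Fin 2 ⊕ Fin 2) F)⁻¹ =
            (tGL v 1)⁻¹ * ((R.d l : GL (Fin 2 ⊕ Fin 2) F) * tGL v 1 * (R.d l : GL (Fin 2 ⊕ Fin 2) F)⁻¹) := by group
        rw [h8, h7, tGL_inv, tGL_mul]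
        congr 1
        ring
      rw [h6] at h5
      exact h5
    have h5 := hno _ h2
    have h6 : c = 1 := by
      have h7 : (c - 1) ^ 2 = 0 := by
        have h8 : (2 : F) = 0 := CharTwo.two_eq_zero
        linear_combination h5 + (1 - c) * h8
      exact sub_eq_zero.1 (pow_eq_zero_iff (two_ne_zero) |>.1 h7)
    rw [hcv, h6, one_smul]
  refine no_fixed hPs R ?_ h8 hv hvT hfix
  intro W hW
  refine hc.absIrred.1 W ?_
  rintro _ ⟨x, hx, rfl⟩
  rintro _ ⟨w, hw, rfl⟩
  exact hW ⟨x, hx⟩ w hw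

end Cfsg.Agent.H196.EP
end

-- part: H646/EPR/PspRes
section
/-!
# S3499: `PspRes12`, the assembly (helper646)
-/

set_option autoImplicit false

namespace Cfsg.Agent.H646.EPR

open Subgroup Cfsg.Agent.H284 Cfsg.Agent.H419.EP
open scoped MatrixGroups

/-- own characteristic, socle `L₂(q)` in `PSp_{2k}(q)` -/
def OwnL2 (k p₀ : ℕ) : Prop := ∀ {Q : Type} [Group Q] [Finite Q], IsSimpleGroup Q →
  ∀ {A : Subgroup Q} {Γ : Subgroup (MulAut Q)}, EPT A Γ → ∀ {F : Type} [Field F] [Fintype F]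
  (_m : Model Q (Cfsg.spGL k F)), ∀ p : ℕ, p.Prime → CharP F p → p₀ ≤ p →
  HasSoc A (Matrix.ProjectiveSpecialLinearGroup (Fin 2) F) → False

/-- one residual row -/
def RowSp (k : ℕ) : Prop := ∀ {Q : Type} [Group Q] [Finite Q], IsSimpleGroup Q → ∀ {A : Subgroup Q}
    {Γ : Subgroup (MulAut Q)}, EPT A Γ → ∀ {F : Type} [Field F] [Fintype F]
    (m : Model Q (Cfsg.spGL k F)), 3 ≤ Fintype.card F →
    Cfsg.Geo.InSymplecticResidualClass (m.hat A) → False

/-- the assembly -/
theorem pspRes12_of (h2 : RowSp 2) (h3 : RowSp 3) (h4 : RowSp 4) (h5 : RowSp 5) (h6 : RowSp 6) : PspRes12 := by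
  intro Q _ _ hs A Γ h F _ _ k m hk hk6 hF hres
  interval_cases k
  · exact h2 hs h m hF hres
  · exact h3 hs h m hF hres
  · exact h4 hs h m hF hres
  · exact h5 hs h m hF hres
  · exact h6 hs h m hF hres

end Cfsg.Agent.H646.EPR
end

-- part: H686/EP/L2Gen
section
/-!
# `PSL_2` : subgroups containing the unipotent group; identities (helper686)
-/

set_option autoImplicit false

namespace Cfsg.Agent.H686.EP

open Matrix
open Cfsg.Agent.LieClassical.SLTwoUnipotent
open Cfsg.Agent.H906 (unP dg dg_val dg_pow un un_val)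
open Cfsg.Agent.H587.Sp (ww)

variable {K : Type*} [Field K]

theorem sl_gen (H : Subgroup (_root_.Matrix.SpecialLinearGroup (Fin 2) K)) (hu : ∀ x, u x ∈ H) {g : _root_.Matrix.SpecialLinearGroup (Fin 2) K}
    (hg : g.1 1 0 ≠ 0) (hgH : g ∈ H) : H = ⊤ := by
  set c := g.1 1 0 with hc
  have h1 : l c ∈ H := by
    have h2 := eq_u_mul_l_mul_u g hg
    have h3 : l c = (u ((g.1 0 0 - 1) / c))⁻¹ * g * (u ((g.1 1 1 - 1) / c))⁻¹ := by
      have h2' : g = u ((g.1 0 0 - 1) / c) * l c * u ((g.1 1 1 - 1) / c) := h2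
      rw [eq_mul_inv_iff_mul_eq, eq_inv_mul_iff_mul_eq, ← mul_assoc]
      exact h2'.symm
    rw [h3]
    exact H.mul_mem (H.mul_mem (H.inv_mem (hu _)) hgH) (H.inv_mem (hu _))
  set w := u (-c⁻¹) * l c * u (-c⁻¹) with hw
  have hwH : w ∈ H := H.mul_mem (H.mul_mem (hu _) h1) (hu _)
  have hw1 : w.1 = !![0, -c⁻¹; c, 0] := by
    show (u (-c⁻¹)).1 * (l c).1 * (u (-c⁻¹)).1 = _
    change !![1, -c⁻¹; 0, 1] * !![1, 0; c, 1] * !![1, -c⁻¹; 0, 1] = _
    rw [Matrix.mul_fin_two, Matrix.mul_fin_two]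
    ext i j
    (revert i j; simp [hg, _root_.Fin.forall_fin_succ])
  apply eq_top_of_u_mem_of_l_mem H hu
  intro x
  have h2 : l x * w = w * u (-x / c ^ 2) := by
    apply Subtype.ext
    show (l x).1 * w.1 = w.1 * (u (-x / c ^ 2)).1
    rw [hw1]
    change !![1, 0; x, 1] * !![0, -c⁻¹; c, 0] = !![0, -c⁻¹; c, 0] * !![1, -x / c ^ 2; 0, 1]
    rw [Matrix.mul_fin_two, Matrix.mul_fin_two]
    ext i j
    (revert i j; simp only [_root_.Fin.forall_fin_succ, _root_.MulZeroClass.mul_zero, _root_.MulZeroClass.zero_mul, _root_.add_zero, _root_.mul_neg, _root_.one_mul, _root_.zero_add, _root_.Matrix.of_apply, _root_.Matrix.cons_val', _root_.Matrix.cons_val_fin_one, _root_.mul_one, Fin.isValue, _root_.Matrix.cons_val_zero, _root_.Matrix.cons_val_succ, _root_.forall_const, _root_.and_true, _root_.true_and]) <;> (repeat' with_reducible apply And.intro)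
    field_simp
  have h3 : l x = w * u (-x / c ^ 2) * w⁻¹ := by rw [← h2, mul_inv_cancel_right]
  rw [h3]
  exact H.mul_mem (H.mul_mem hwH (hu _)) (H.inv_mem hwH)

/-- a subgroup of `PSL_2` containing the unipotent group and an element outside the Borel subgroup -/
theorem psl_gen (H : Subgroup (Matrix.ProjectiveSpecialLinearGroup (Fin 2) K))
    (hu : ∀ x, unP K (Multiplicative.ofAdd x) ∈ H) {g : _root_.Matrix.SpecialLinearGroup (Fin 2) K}
    (hg : g.1 1 0 ≠ 0) (hgH : (QuotientGroup.mk g : Matrix.ProjectiveSpecialLinearGroup (Fin 2) K) ∈ H) :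
    H = ⊤ := by
  have h1 := sl_gen (H.comap (QuotientGroup.mk' _)) (fun x => hu x) hg hgH
  rw [eq_top_iff]
  intro x _
  obtain ⟨x, rfl⟩ := QuotientGroup.mk_surjective x
  have h2 : x ∈ H.comap (QuotientGroup.mk' (Subgroup.center (_root_.Matrix.SpecialLinearGroup (Fin 2) K))) := by
    rw [h1]; trivial
  exact h2

theorem ww_sq : (QuotientGroup.mk (ww K * ww K) : Matrix.ProjectiveSpecialLinearGroup (Fin 2) K) = 1 := by
  rw [QuotientGroup.eq_one_iff, Matrix.SpecialLinearGroup.mem_center_iff]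
  refine ⟨-1, by rw [Fintype.card_fin]; ring, ?_⟩
  show _ = !![(0 : K), 1; -1, 0] * !![0, 1; -1, 0]
  rw [Matrix.mul_fin_two]
  ext i j
  (revert i j; simp only [_root_.Fin.forall_fin_succ, _root_.Matrix.scalar_apply, _root_.MulZeroClass.mul_zero, _root_.mul_neg, _root_.mul_one, _root_.zero_add, _root_.add_zero, _root_.neg_zero, _root_.Matrix.of_apply, _root_.Matrix.cons_val', _root_.Matrix.cons_val_fin_one, Fin.isValue, _root_.Matrix.cons_val_zero, _root_.Matrix.cons_val_succ, _root_.Fin.succ_zero_eq_one, _root_.IsEmpty.forall_iff, _root_.and_true, _root_.Matrix.diagonal_apply_eq, _root_.ne_eq, _root_.zero_ne_one, _root_.not_false_eq_true, _root_.Matrix.diagonal_apply_ne, _root_.and_self, _root_.Fin.succ_ne_zero, _root_.true_and])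

theorem dg_ww_dg (t : Kˣ) : dg t * ww K * dg t = ww K := by
  apply Subtype.ext
  show (dg t).1 * !![(0 : K), 1; -1, 0] * (dg t).1 = !![(0 : K), 1; -1, 0]
  rw [dg_val, Matrix.mul_fin_two, Matrix.mul_fin_two]
  ext i j
  (revert i j; simp [_root_.Fin.forall_fin_succ])

theorem ww_un_ww {b : K} (hb : b ≠ 0) : ww K * un b * ww K =
    un (-b⁻¹) * ww K * dg (-(Units.mk0 b hb)) * un (-b⁻¹) := by
  apply Subtype.ext
  show !![(0 : K), 1; -1, 0] * (un b).1 * !![(0 : K), 1; -1, 0] =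
    (un (-b⁻¹)).1 * !![(0 : K), 1; -1, 0] * (dg (-(Units.mk0 b hb))).1 * (un (-b⁻¹)).1
  rw [dg_val, un_val, un_val]
  simp only [Units.val_neg, Units.val_mk0, inv_neg, Units.val_inv_eq_inv_val]
  rw [Matrix.mul_fin_two, Matrix.mul_fin_two, Matrix.mul_fin_two, Matrix.mul_fin_two, Matrix.mul_fin_two]
  ext i j
  (revert i j; simp [hb, _root_.Fin.forall_fin_succ])

end Cfsg.Agent.H686.EP
end
end
end
end
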